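import Mathlib
import Cfsg.Agent.Lib.helper24.SroDefs

set_option autoImplicit false
set_option linter.unusedSectionVars false
set_option linter.unusedVariables false

namespace Cfsg.Agent.Lib.helper24

open Module Cfsg.Agent.Lib.helper45 Cfsg.Agent.Lib.helper49
open Matrix

universe u

section plus

variable {F : Type u} [Field F] [Fintype F]

/-- The block matrix `diag(A, B)` with `A² = B² = -1` and `Aᵀ B = 1` is an isometry of
`Σ xᵢyᵢ` of determinant one with square `-1`. -/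
theorem sro_ex_core (d : ℕ) (A B : Matrix (Fin d) (Fin d) F) (hA : A * A = -1) (hB : B * B = -1)
    (hAB : A.transpose * B = 1) :
    ∃ g : ↥(Cfsg.isometryGroup F (Cfsg.quadFormPlus d F)),
      ((g : GL (Fin d ⊕ Fin d) F) : Matrix (Fin d ⊕ Fin d) (Fin d ⊕ Fin d) F) *
        ((g : GL (Fin d ⊕ Fin d) F) : Matrix (Fin d ⊕ Fin d) (Fin d ⊕ Fin d) F) = -1 ∧
      Matrix.det ((g : GL (Fin d ⊕ Fin d) F) : Matrix (Fin d ⊕ Fin d) (Fin d ⊕ Fin d) F) = 1 := by
  obtain ⟨M, hMdef⟩ : ∃ M : Matrix (Fin d ⊕ Fin d) (Fin d ⊕ Fin d) F,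
      M = Matrix.fromBlocks A 0 0 B := ⟨_, rfl⟩
  have hMM : M * M = -1 := by
    rw [hMdef, Matrix.fromBlocks_multiply, hA, hB]
    simp only [Matrix.mul_zero, Matrix.zero_mul, add_zero, zero_add]
    rw [← Matrix.fromBlocks_one, Matrix.fromBlocks_neg]
    simp
  let gU : GL (Fin d ⊕ Fin d) F :=
    ⟨M, -M, by rw [mul_neg, hMM, neg_neg], by rw [neg_mul, hMM, neg_neg]⟩
  have hmem : gU ∈ Cfsg.isometryGroup F (Cfsg.quadFormPlus d F) := by
    intro u v
    show Cfsg.quadFormPlus d F (M *ᵥ u) = Cfsg.quadFormPlus d F u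
    have hu : u = Sum.elim (u ∘ Sum.inl) (u ∘ Sum.inr) := (Sum.elim_comp_inl_inr u).symm
    have h1 : M *ᵥ u = Sum.elim (A *ᵥ (u ∘ Sum.inl)) (B *ᵥ (u ∘ Sum.inr)) := by
      rw [hMdef]
      conv_lhs => rw [hu]
      rw [Matrix.fromBlocks_mulVec]
      simp
    unfold Cfsg.quadFormPlus
    rw [h1]
    show (A *ᵥ (u ∘ Sum.inl)) ⬝ᵥ (B *ᵥ (u ∘ Sum.inr)) = (u ∘ Sum.inl) ⬝ᵥ (u ∘ Sum.inr)
    rw [← Matrix.vecMul_transpose, ← Matrix.dotProduct_mulVec, Matrix.mulVec_mulVec, hAB,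
      Matrix.one_mulVec]
  refine ⟨⟨gU, hmem⟩, hMM, ?_⟩
  show M.det = 1
  rw [hMdef, Matrix.det_fromBlocks_zero₂₁, ← Matrix.det_transpose A, ← Matrix.det_mul, hAB,
    Matrix.det_one]

/-- PIECE EX of the S5989 split: an isometry of determinant one of `Σ xᵢyᵢ` with square `-1`,
for `d` even or `q ≡ 1 (4)`. -/
theorem sro_sq_neg_plus_exists (hodd : Odd (Fintype.card F)) (d : ℕ)
    (h : Even d ∨ Fintype.card F % 4 = 1) :
    ∃ g : ↥(Cfsg.isometryGroup F (Cfsg.quadFormPlus d F)),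
      ((g : GL (Fin d ⊕ Fin d) F) : Matrix (Fin d ⊕ Fin d) (Fin d ⊕ Fin d) F) *
        ((g : GL (Fin d ⊕ Fin d) F) : Matrix (Fin d ⊕ Fin d) (Fin d ⊕ Fin d) F) = -1 ∧
      Matrix.det ((g : GL (Fin d ⊕ Fin d) F) : Matrix (Fin d ⊕ Fin d) (Fin d ⊕ Fin d) F) = 1 := by
  rcases h with hd | hq
  · -- `d` even: the block-diagonal matrix with blocks `[[0, 1], [-1, 0]]`
    obtain ⟨e, he⟩ := hd
    have hde : d = 2 * e := by omega
    obtain ⟨ε⟩ : Nonempty (Fin d ≃ Fin 2 × Fin e) :=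
      ⟨(finCongr hde).trans finProdFinEquiv.symm⟩
    obtain ⟨J, hJdef⟩ : ∃ J : Matrix (Fin 2) (Fin 2) F, J = !![0, 1; -1, 0] := ⟨_, rfl⟩
    have hJJ : J * J = -1 := by
      rw [hJdef]
      ext i j
      fin_cases i <;> fin_cases j <;> simp [Matrix.mul_apply, Fin.sum_univ_two]
    have hJtJ : J.transpose * J = 1 := by
      rw [hJdef]
      ext i j
      fin_cases i <;> fin_cases j <;> simp [Matrix.mul_apply, Fin.sum_univ_two]
    obtain ⟨P, hPdef⟩ : ∃ P : Matrix (Fin d) (Fin d) F,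
        P = (Matrix.blockDiagonal (fun _ : Fin e => J)).submatrix ε ε := ⟨_, rfl⟩
    have hPP : P * P = -1 := by
      rw [hPdef, Matrix.submatrix_mul_equiv, ← Matrix.blockDiagonal_mul]
      have h1 : (fun _ : Fin e => J * J) = -(1 : Fin e → Matrix (Fin 2) (Fin 2) F) := by
        funext k
        rw [hJJ]
        rfl
      rw [h1, Matrix.blockDiagonal_neg, Matrix.blockDiagonal_one]
      ext i j
      simp [Matrix.one_apply]
    have hPtP : P.transpose * P = 1 := by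
      rw [hPdef, Matrix.transpose_submatrix, Matrix.submatrix_mul_equiv,
        Matrix.blockDiagonal_transpose, ← Matrix.blockDiagonal_mul]
      have h1 : (fun k : Fin e => J.transpose * J) = (1 : Fin e → Matrix (Fin 2) (Fin 2) F) := by
        funext k
        rw [hJtJ]
        rfl
      rw [h1, Matrix.blockDiagonal_one, Matrix.submatrix_one_equiv]
    exact sro_ex_core d P P hPP hPP hPtP
  · -- `q ≡ 1 (4)`: scalars `ι` and `-ι` with `ι² = -1`
    have hsq : IsSquare (-1 : F) := FiniteField.isSquare_neg_one_iff.mpr (by omega)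
    obtain ⟨ι, hι⟩ := hsq
    have hA : (ι • (1 : Matrix (Fin d) (Fin d) F)) * (ι • (1 : Matrix (Fin d) (Fin d) F)) = -1 := by
      rw [Matrix.smul_mul, Matrix.mul_smul, Matrix.one_mul, smul_smul, ← hι]
      simp
    have hB : ((-ι) • (1 : Matrix (Fin d) (Fin d) F)) * ((-ι) • (1 : Matrix (Fin d) (Fin d) F))
        = -1 := by
      rw [Matrix.smul_mul, Matrix.mul_smul, Matrix.one_mul, smul_smul, neg_mul_neg, ← hι]
      simp
    have hAB : (ι • (1 : Matrix (Fin d) (Fin d) F)).transpose *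
        ((-ι) • (1 : Matrix (Fin d) (Fin d) F)) = 1 := by
      rw [Matrix.transpose_smul, Matrix.transpose_one, Matrix.smul_mul, Matrix.mul_smul,
        Matrix.one_mul, smul_smul, mul_neg, ← hι]
      simp
    exact sro_ex_core d _ _ hA hB hAB

end plus

end Cfsg.Agent.Lib.helper24
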