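import Mathlib
import Cfsg.Agent.S0256
import Cfsg.Agent.Lib.helper65.MetaInv
import Cfsg.Agent.Lib.helper3.PGroupFrattini
import Cfsg.Agent.Lib.helper55.Basic

/-!
# Automorphisms of an elementary abelian 2-group of order at most 16 embed in `A_8`

* `padEnd`: for linear maps `i : W → U`, `π : U → W` with `π ∘ i = id`, the monoid homomorphism
  `End(W) → End(U)`, `g ↦ i g π + (1 - i π)`.
* `exists_injective_mulAut_alt8`: if `V` is a finite group of exponent dividing 2 and order at
  most 16, then `MulAut V` embeds in `A_8` (via `GL_4(2) = PSL_4(2) ≅ A_8`, S0256).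
-/

set_option autoImplicit false

namespace Cfsg.Agent.Lib.helper57

open Matrix

section pad

variable {K : Type*} [Field K] {W U : Type*} [AddCommGroup W] [Module K W]
  [AddCommGroup U] [Module K U]

/-- The padding homomorphism `End(W) → End(U)` attached to a split injection. -/
def padEnd (i : W →ₗ[K] U) (π : U →ₗ[K] W) (h : ∀ w, π (i w) = w) :
    (W →ₗ[K] W) →* (U →ₗ[K] U) where
  toFun g := i ∘ₗ g ∘ₗ π + (LinearMap.id - i ∘ₗ π)
  map_one' := by
    ext u
    simp
  map_mul' g g' := by
    ext u
    simp [h]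

theorem padEnd_apply (i : W →ₗ[K] U) (π : U →ₗ[K] W) (h : ∀ w, π (i w) = w) (g : W →ₗ[K] W)
    (u : U) : padEnd i π h g u = i (g (π u)) + (u - i (π u)) := rfl

theorem padEnd_injective (i : W →ₗ[K] U) (π : U →ₗ[K] W) (h : ∀ w, π (i w) = w)
    (hi : Function.Injective i) : Function.Injective (padEnd i π h) := by
  intro g g' hgg
  ext w
  have h1 := congrArg (fun f : U →ₗ[K] U => f (i w)) hgg
  simp only [padEnd_apply, h, sub_self, add_zero] at h1
  exact hi h1

end pad

section main

/-- A monoid homomorphism from a group into `4 × 4` matrices over `𝔽₂` lands in `SL₄(2)`. -/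
def toSL4 {Γ : Type*} [Group Γ] (M : Γ →* Matrix (Fin 4) (Fin 4) (ZMod 2)) :
    Γ →* Matrix.SpecialLinearGroup (Fin 4) (ZMod 2) where
  toFun g := ⟨M g, by
    have h : (M g).det * (M g⁻¹).det = 1 := by
      rw [← Matrix.det_mul, ← map_mul, mul_inv_cancel, map_one, Matrix.det_one]
    revert h
    generalize (M g).det = a
    generalize (M g⁻¹).det = b
    revert a b
    decide⟩
  map_one' := Subtype.ext (map_one M)
  map_mul' a b := Subtype.ext (map_mul M a b)

theorem toSL4_injective {Γ : Type*} [Group Γ] (M : Γ →* Matrix (Fin 4) (Fin 4) (ZMod 2))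
    (hM : Function.Injective M) : Function.Injective (toSL4 M) := by
  intro a b hab
  exact hM (congrArg Subtype.val hab)

theorem center_SL4_two :
    Subgroup.center (Matrix.SpecialLinearGroup (Fin 4) (ZMod 2)) = ⊥ := by
  rw [eq_bot_iff]
  intro A hA
  rw [Matrix.SpecialLinearGroup.mem_center_iff] at hA
  obtain ⟨r, hr, hA⟩ := hA
  have h0 : ∀ r : ZMod 2, r ^ Fintype.card (Fin 4) = 1 → r = 1 := by decide
  have h1 : r = 1 := h0 r hr
  subst h1
  rw [Subgroup.mem_bot]
  apply Subtype.ext
  rw [← hA]
  simp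

/-- the additive group of a commutative group of exponent 2 as an `𝔽₂`-vector space -/
@[reducible] def zmod2Module (V : Type*) [CommGroup V] (hsq : ∀ v : V, v ^ 2 = 1) :
    Module (ZMod 2) (Additive V) :=
  AddCommGroup.zmodModule (n := 2) (fun w => by
    show Additive.ofMul (Additive.toMul w ^ 2) = 0
    rw [hsq]
    rfl)

/-- `MulAut V → End_{𝔽₂}(V)` -/
def autToEnd (V : Type*) [CommGroup V] (hsq : ∀ v : V, v ^ 2 = 1) :
    letI := zmod2Module V hsq
    MulAut V →* (Additive V →ₗ[ZMod 2] Additive V) :=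
  letI := zmod2Module V hsq
  { toFun := fun σ => (MulEquiv.toAdditive σ : Additive V ≃+ Additive V).toAddMonoidHom.toZModLinearMap 2
    map_one' := by
      ext v
      rfl
    map_mul' := fun σ τ => by
      ext v
      rfl }

theorem autToEnd_injective (V : Type*) [CommGroup V] (hsq : ∀ v : V, v ^ 2 = 1) :
    Function.Injective (autToEnd V hsq) := by
  let _ := zmod2Module V hsq
  intro σ τ h
  ext v
  have h1 := congrArg (fun f : Additive V →ₗ[ZMod 2] Additive V => f (Additive.ofMul v)) h
  exact congrArg Additive.toMul h1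

universe u

theorem exists_injective_mulAut_alt8_comm (V : Type u) [CommGroup V] [Finite V]
    (hsq : ∀ v : V, v ^ 2 = 1) (hcard : Nat.card V ≤ 16) :
    ∃ f : MulAut V →* alternatingGroup (Fin 8), Function.Injective f := by
  classical
  let _ := zmod2Module V hsq
  have : Finite (Additive V) := ‹Finite V›
  have : Module.Finite (ZMod 2) (Additive V) := Module.Finite.of_finite
  have hr : Module.finrank (ZMod 2) (Additive V) ≤ 4 := by
    have h1 := Module.natCard_eq_pow_finrank (K := ZMod 2) (V := Additive V)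
    rw [Nat.card_zmod] at h1
    have h2 : Nat.card (Additive V) = Nat.card V := Nat.card_congr Additive.toMul
    rw [h2] at h1
    have h3 : 2 ^ Module.finrank (ZMod 2) (Additive V) ≤ 2 ^ 4 := by
      rw [← h1]
      exact hcard
    exact (Nat.pow_le_pow_iff_right (by norm_num)).mp h3
  have hrank : Cardinal.lift.{0} (Module.rank (ZMod 2) (Additive V)) ≤
      Cardinal.lift.{u} (Module.rank (ZMod 2) (Fin 4 → ZMod 2)) := by
    have h5 : Module.rank (ZMod 2) (Additive V) ≤ 4 := by
      rw [← Module.finrank_eq_rank (ZMod 2) (Additive V)]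
      exact_mod_cast hr
    rw [rank_fin_fun]
    simpa using h5
  obtain ⟨i, hi⟩ := lift_rank_le_iff_exists_linearMap.mp hrank
  obtain ⟨π, hπ⟩ := i.exists_leftInverse_of_injective (LinearMap.ker_eq_bot.mpr hi)
  have hπ' : ∀ w, π (i w) = w := fun w => LinearMap.congr_fun hπ w
  let φ₃ : ((Fin 4 → ZMod 2) →ₗ[ZMod 2] (Fin 4 → ZMod 2)) →* Matrix (Fin 4) (Fin 4) (ZMod 2) :=
    (LinearMap.toMatrixAlgEquiv' (R := ZMod 2) (n := Fin 4)).toMulEquiv.toMonoidHom
  have hφ₃ : Function.Injective φ₃ :=
    (LinearMap.toMatrixAlgEquiv' (R := ZMod 2) (n := Fin 4)).injective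
  let M : MulAut V →* Matrix (Fin 4) (Fin 4) (ZMod 2) :=
    φ₃.comp ((padEnd i π hπ').comp (autToEnd V hsq))
  have hM : Function.Injective M :=
    hφ₃.comp ((padEnd_injective i π hπ' hi).comp (autToEnd_injective V hsq))
  have hF : Fintype.card (ZMod 2) = 2 := ZMod.card 2
  obtain ⟨e⟩ := Cfsg.Agent.S0256.result (F := ZMod 2) hF
  let q : Matrix.SpecialLinearGroup (Fin 4) (ZMod 2) →*
      Matrix.ProjectiveSpecialLinearGroup (Fin 4) (ZMod 2) := QuotientGroup.mk' _
  have hq : Function.Injective q := by
    rw [← MonoidHom.ker_eq_bot_iff, QuotientGroup.ker_mk', center_SL4_two]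
  exact ⟨e.toMonoidHom.comp (q.comp (toSL4 M)),
    e.injective.comp (hq.comp (toSL4_injective M hM))⟩

/-- If `V` is a finite group of exponent dividing 2 and order at most 16, then `MulAut V`
embeds in the alternating group `A_8`. -/
theorem exists_injective_mulAut_alt8 (V : Type u) [inst : Group V] [Finite V]
    (hsq : ∀ v : V, v ^ 2 = 1) (hcard : Nat.card V ≤ 16) :
    ∃ f : MulAut V →* alternatingGroup (Fin 8), Function.Injective f := by
  have hinv : ∀ v : V, v⁻¹ = v := fun v => by
    rw [inv_eq_iff_mul_eq_one, ← sq]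
    exact hsq v
  have hcomm : ∀ a b : V, a * b = b * a := by
    intro a b
    calc a * b = (a * b)⁻¹ := (hinv _).symm
      _ = b⁻¹ * a⁻¹ := mul_inv_rev a b
      _ = b * a := by rw [hinv, hinv]
  exact @exists_injective_mulAut_alt8_comm V { inst with mul_comm := hcomm } _ hsq hcard

end main

section quot

open scoped commutatorElement

/-- The action of automorphisms on the Frattini quotient. -/
def frattiniQuotAut (Q : Type*) [Group Q] : MulAut Q →* MulAut (Q ⧸ frattini Q) where
  toFun φ := QuotientGroup.congr (frattini Q) (frattini Q) φ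
    (Subgroup.characteristic_iff_map_eq.mp inferInstance φ)
  map_one' := by
    ext x
    induction x using QuotientGroup.induction_on
    rfl
  map_mul' φ ψ := by
    ext x
    induction x using QuotientGroup.induction_on
    rfl

theorem frattiniQuotAut_mk (Q : Type*) [Group Q] (φ : MulAut Q) (x : Q) :
    frattiniQuotAut Q φ (QuotientGroup.mk x) = QuotientGroup.mk (φ x) := rfl

/-- Let `Q` be a normal 2-subgroup of the finite group `X` containing its centralizer and every
normal 2-subgroup of `X`, with `|Q / Φ(Q)| ≤ 16`.  Then `X / Q` embeds in `A_8`. -/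
theorem exists_injective_quotient_alt8 {X : Type*} [Group X] [Finite X] (Q : Subgroup X)
    [hQn : Q.Normal] (hQp : IsPGroup 2 Q)
    (hCQ : Subgroup.centralizer (Q : Set X) ≤ Q)
    (hmax : ∀ N : Subgroup X, N.Normal → IsPGroup 2 N → N ≤ Q)
    (hcard : Nat.card (↥Q ⧸ frattini ↥Q) ≤ 16) :
    ∃ f : X ⧸ Q →* ↥(alternatingGroup (Fin 8)), Function.Injective f := by
  classical
  have : Fact (Nat.Prime 2) := ⟨Nat.prime_two⟩
  let φ : X →* MulAut ↥Q := MulAut.conjNormal
  let ψ : X →* MulAut (↥Q ⧸ frattini ↥Q) := (frattiniQuotAut ↥Q).comp φ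
  have hψ : ∀ (g : X) (x : ↥Q), ψ g (QuotientGroup.mk x) = QuotientGroup.mk (φ g x) :=
    fun g x => rfl
  have hφ : ∀ (g : X) (x : ↥Q), ((φ g x : ↥Q) : X) = g * x * g⁻¹ := fun g x => rfl
  have hQker : Q ≤ ψ.ker := by
    intro q hq
    rw [MonoidHom.mem_ker]
    ext y
    induction y using QuotientGroup.induction_on with
    | H x =>
      rw [hψ, MulAut.one_apply, QuotientGroup.eq]
      apply Cfsg.Agent.Lib.helper3.commutator_le_frattini hQp
      have h1 : (φ q x)⁻¹ * x = ⁅(⟨q, hq⟩ : ↥Q), x⁻¹⁆ := by
        apply Subtype.ext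
        rw [commutatorElement_def]
        simp only [Subgroup.coe_mul, Subgroup.coe_inv, hφ]
        group
      rw [h1, commutator_def]
      exact Subgroup.commutator_mem_commutator (Subgroup.mem_top _) (Subgroup.mem_top _)
  have hkerQ : ψ.ker ≤ Q := by
    apply hmax _ (MonoidHom.normal_ker ψ)
    apply Cfsg.Agent.Lib.helper55.isPGroup_of_coprime_trivial
    intro c hc hcop
    have h1 : φ c = 1 := by
      apply Cfsg.Agent.Lib.helper65.mulAut_eq_one_of_coprime_trivial_mod_frattini hQp (φ c)
        (orderOf c) hcop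
      · rw [← map_pow, pow_orderOf_eq_one, map_one]
      · intro x
        have h2 : ψ c (QuotientGroup.mk x) = QuotientGroup.mk x := by
          rw [MonoidHom.mem_ker.mp hc]
          rfl
        rw [hψ] at h2
        have h3 := QuotientGroup.eq.mp h2.symm
        have h4 := (inferInstance : (frattini ↥Q).Normal).conj_mem _ h3 x
        have h5 : x * (x⁻¹ * φ c x) * x⁻¹ = φ c x * x⁻¹ := by group
        rwa [h5] at h4
    have h5 : c ∈ Subgroup.centralizer (Q : Set X) := by
      rw [Subgroup.mem_centralizer_iff]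
      intro y hy
      have h6 := congrArg (fun β : MulAut ↥Q => ((β ⟨y, hy⟩ : ↥Q) : X)) h1
      simp only [hφ, MulAut.one_apply] at h6
      calc y * c = c * y * c⁻¹ * c := by rw [h6]
        _ = c * y := by group
    exact Cfsg.Agent.Lib.helper55.eq_one_of_mem_of_coprime hQp (hCQ h5) hcop
  have hsq : ∀ v : ↥Q ⧸ frattini ↥Q, v ^ 2 = 1 := by
    intro v
    induction v using QuotientGroup.induction_on with
    | H x =>
      rw [← QuotientGroup.mk_pow]
      exact (QuotientGroup.eq_one_iff _).mpr
        (Cfsg.Agent.Lib.helper3.pow_prime_mem_frattini hQp x)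
  obtain ⟨f0, hf0⟩ := exists_injective_mulAut_alt8 (↥Q ⧸ frattini ↥Q) hsq hcard
  refine ⟨f0.comp (QuotientGroup.lift Q ψ hQker), hf0.comp ?_⟩
  intro a b hab
  induction a using QuotientGroup.induction_on with
  | H a =>
    induction b using QuotientGroup.induction_on with
    | H b =>
      simp only [QuotientGroup.lift_mk] at hab
      rw [QuotientGroup.eq]
      apply hkerQ
      rw [MonoidHom.mem_ker, map_mul, map_inv, hab, inv_mul_cancel]

end quot

end Cfsg.Agent.Lib.helper57
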