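import Mathlib

/-!
# S0997 piece AVG (`exists_big`): averaging
-/

set_option autoImplicit false

namespace Cfsg.Agent.Lib.helper57.BU

/-- AVG : averaging. -/
theorem exists_big {ι : Type*} (S : Finset ι) (hS : S.Nonempty) (d : ι → ℕ) (δ : ι → ℤ) (ε : ℤ)
    (hε : ε = 1 ∨ ε = -1) (hδ : ∀ i ∈ S, δ i = 1 ∨ δ i = -1) (g₀ K : ℕ) (hK : 0 < K)
    (h : (∑ i ∈ S, δ i * (d i : ℤ)) * (g₀ : ℤ) = ε * (K : ℤ) * (S.card : ℤ)) :
    ∃ i ∈ S, δ i = ε ∧ K ≤ d i * g₀ := by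
  by_contra hcon
  push Not at hcon
  have hεsq : ε * ε = 1 := by
    rcases hε with h1 | h1 <;> rw [h1] <;> norm_num
  -- multiply by `ε`
  have h2 : ∑ i ∈ S, ε * δ i * ((d i : ℤ) * (g₀ : ℤ)) = ∑ _i ∈ S, (K : ℤ) := by
    have e1 : ∑ i ∈ S, ε * δ i * ((d i : ℤ) * (g₀ : ℤ)) =
        ε * ((∑ i ∈ S, δ i * (d i : ℤ)) * (g₀ : ℤ)) := by
      rw [Finset.sum_mul, Finset.mul_sum]
      refine Finset.sum_congr rfl (fun i _ => ?_)
      ring
    rw [e1, h, Finset.sum_const, nsmul_eq_mul]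
    calc ε * (ε * (K : ℤ) * (S.card : ℤ)) = (ε * ε) * ((K : ℤ) * (S.card : ℤ)) := by ring
      _ = (S.card : ℤ) * (K : ℤ) := by rw [hεsq]; ring
  have h3 : ∑ i ∈ S, ε * δ i * ((d i : ℤ) * (g₀ : ℤ)) < ∑ _i ∈ S, (K : ℤ) := by
    refine Finset.sum_lt_sum_of_nonempty hS (fun i hi => ?_)
    have hnn : (0 : ℤ) ≤ (d i : ℤ) * (g₀ : ℤ) := by positivity
    have hKpos : (0 : ℤ) < (K : ℤ) := by exact_mod_cast hK
    by_cases hi' : δ i = ε
    · have h4 := hcon i hi hi'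
      rw [hi', hεsq, one_mul]
      exact_mod_cast h4
    · have h5 : ε * δ i = -1 := by
        rcases hε with h1 | h1 <;> rcases hδ i hi with h6 | h6
        · exact absurd (h6.trans h1.symm) hi'
        · rw [h1, h6]; norm_num
        · rw [h1, h6]; norm_num
        · exact absurd (h6.trans h1.symm) hi'
      rw [h5]
      linarith
  rw [h2] at h3
  exact lt_irrefl _ h3

end Cfsg.Agent.Lib.helper57.BU
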