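import Mathlib
import Cfsg.Prelude.Def_Characters
import Cfsg.Prelude.Def_Blocks
import Cfsg.Agent.Lib.helper84.BrDefs
import Cfsg.Agent.Lib.helper72.BT_STEPAB

/-!
# S0997 piece DEG (`deg_facts`): the degrees in the principal `p`-block of a simple group of
order `p q^b g₀`, `g₀ < p - 1`
-/

set_option autoImplicit false

namespace Cfsg.Agent.Lib.helper57.BU

open Cfsg Cfsg.Agent.Lib.helper81 Cfsg.Agent.Lib.helper84.Br
open scoped ComplexConjugate

universe u

variable {G : Type u} [Group G] [Fintype G]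

variable {p : ℕ} [Fact p.Prime] {P : Sylow p G} {e : ℕ}

/-- DEG : the degrees in the principal `p`-block. -/
theorem deg_facts [IsSimpleGroup G] (hG : ¬ IsCyclic G) (hP : Nat.card P = p)
    (D : Data G p P e) (he2 : 2 ≤ e) (hep : e ∣ p - 1)
    (q b g₀ : ℕ) (hq : q.Prime) (hpq : p ≠ q)
    (hcard : Nat.card G = p * q ^ b * g₀) (hg : g₀ < p - 1) :
    (∀ χ ∈ D.X, χ ≠ trivChar G →
      q ∣ charDegree (χ : G → ℂ) ∧ p - 1 ≤ charDegree (χ : G → ℂ)) ∧
    (∀ θ ∈ D.Y, ¬ q ∣ charDegree (θ : G → ℂ) ∧ charDegree (θ : G → ℂ) ∣ g₀ ∧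
      2 ≤ charDegree (θ : G → ℂ)) ∧
    ((D.ε = 1 ∧ (∀ θ ∈ D.Y, charDegree (θ : G → ℂ) = e) ∧ q ∣ e - 1) ∨
     (D.ε = -1 ∧ (∀ θ ∈ D.Y, charDegree (θ : G → ℂ) + e = p))) := by
  classical
  have hp : p.Prime := Fact.out
  have hp2 := hp.two_le
  have hperf : commutator G = ⊤ := Cfsg.Agent.Lib.helper72.BT.h72_bt_perfect hG
  have hcY := D.cardY
  have hne0 : D.Y.card * e ≠ 0 := by omega
  have hY1 : 1 ≤ D.Y.card := Nat.pos_of_ne_zero (Nat.mul_ne_zero_iff.mp hne0).1
  have helt : e < p := by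
    have h1 : e ≤ D.Y.card * e := Nat.le_mul_of_pos_left e hY1
    omega
  have hYne : D.Y.Nonempty := Finset.card_pos.mp hY1
  have hg0 : 0 < g₀ := by
    rcases Nat.eq_zero_or_pos g₀ with h0 | h0
    · exfalso
      rw [h0, mul_zero] at hcard
      exact (Nat.card_pos (α := G)).ne' hcard
    · exact h0
  -- degrees prime to `p` divide `q^b g₀`
  have hdvd : ∀ ψ : IrrCharacter G, ¬ p ∣ charDegree (ψ : G → ℂ) →
      charDegree (ψ : G → ℂ) ∣ q ^ b * g₀ := by
    intro ψ hψ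
    have h1 := irr_degree_dvd_card ψ
    rw [hcard, mul_assoc] at h1
    exact (Nat.Coprime.symm ((Nat.Prime.coprime_iff_not_dvd hp).mpr hψ)).dvd_of_dvd_mul_left h1
  have hdvd2 : ∀ ψ : IrrCharacter G, ¬ p ∣ charDegree (ψ : G → ℂ) →
      ¬ q ∣ charDegree (ψ : G → ℂ) → charDegree (ψ : G → ℂ) ∣ g₀ := by
    intro ψ h1 h2
    have h3 := hdvd ψ h1
    have hc : Nat.Coprime (charDegree (ψ : G → ℂ)) (q ^ b) :=
      Nat.Coprime.pow_right b (Nat.Coprime.symm ((Nat.Prime.coprime_iff_not_dvd hq).mpr h2))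
    exact hc.dvd_of_dvd_mul_left h3
  -- `p ∤ χ(1)` for `χ ∈ X`
  have hpX : ∀ χ ∈ D.X, ¬ p ∣ charDegree (χ : G → ℂ) := by
    intro χ hχ hdiv
    have h2 : (p : ℤ) ∣ (charDegree (χ : G → ℂ) : ℤ) := by exact_mod_cast hdiv
    have h3 := Int.modEq_iff_dvd.mp (D.deg_X χ hχ)
    have h4 : (p : ℤ) ∣ D.δ χ := by
      have := dvd_add h3 h2
      rwa [sub_add_cancel] at this
    rcases D.δ_sq χ hχ with h | h
    · rw [h] at h4
      have := Int.le_of_dvd one_pos h4
      omega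
    · rw [h] at h4
      have := Int.le_of_dvd one_pos ((dvd_neg).mp h4)
      omega
  -- degrees in `X ∖ 1` are `≥ p - 1`
  have hbig : ∀ χ ∈ D.X, χ ≠ trivChar G → p - 1 ≤ charDegree (χ : G → ℂ) := by
    intro χ hχ hne
    by_contra hlt
    push Not at hlt
    have hpos : 0 < charDegree (χ : G → ℂ) := by
      rcases Nat.eq_zero_or_pos (charDegree (χ : G → ℂ)) with h0 | h0
      · exfalso
        apply hpX χ hχ
        rw [h0]
        exact dvd_zero p
      · exact h0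
    have h1 := Int.modEq_iff_dvd.mp (D.deg_X χ hχ)
    rcases D.δ_sq χ hχ with h' | h'
    · rw [h'] at h1
      have h2 : (p : ℤ) ∣ (charDegree (χ : G → ℂ) : ℤ) - 1 := by
        rw [← neg_sub]
        exact (dvd_neg).mpr h1
      have h0 := Int.eq_zero_of_dvd_of_nonneg_of_lt (by omega) (by omega) h2
      have h3 : charDegree (χ : G → ℂ) = 1 := by omega
      exact hne (Cfsg.Agent.Lib.helper20.Br.lin_perfect hperf χ h3)
    · rw [h'] at h1
      have h2 : (p : ℤ) ∣ (charDegree (χ : G → ℂ) : ℤ) + 1 := by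
        have e1 : (-1 : ℤ) - (charDegree (χ : G → ℂ) : ℤ) =
            -((charDegree (χ : G → ℂ) : ℤ) + 1) := by ring
        rw [e1] at h1
        exact (dvd_neg).mp h1
      have := Int.le_of_dvd (by omega) h2
      omega
  -- part 1
  have part1 : ∀ χ ∈ D.X, χ ≠ trivChar G → q ∣ charDegree (χ : G → ℂ) := by
    intro χ hχ hne
    by_contra hq'
    have h1 := Nat.le_of_dvd hg0 (hdvd2 χ (hpX χ hχ) hq')
    have h2 := hbig χ hχ hne
    omega
  -- the sum over `X ∖ 1` is divisible by `q`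
  have hsumq : (q : ℤ) ∣ ∑ χ ∈ D.X.erase (trivChar G), D.δ χ * (charDegree (χ : G → ℂ) : ℤ) := by
    refine Finset.dvd_sum (fun χ hχ => ?_)
    have h1 := part1 χ (Finset.mem_of_mem_erase hχ) (Finset.ne_of_mem_erase hχ)
    exact Dvd.dvd.mul_left (by exact_mod_cast h1) (D.δ χ)
  -- part 2
  have part2 : ∀ θ ∈ D.Y, ¬ q ∣ charDegree (θ : G → ℂ) ∧ charDegree (θ : G → ℂ) ∣ g₀ ∧
      2 ≤ charDegree (θ : G → ℂ) := by
    intro θ hθ
    have hpf : ¬ p ∣ charDegree (θ : G → ℂ) := by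
      intro hdiv
      have h2 : (p : ℤ) ∣ (charDegree (θ : G → ℂ) : ℤ) := by exact_mod_cast hdiv
      have h3 := Int.modEq_iff_dvd.mp (D.deg_Y θ hθ)
      have h4 : (p : ℤ) ∣ D.ε * (e : ℤ) := by
        have := dvd_add h3 h2
        rwa [sub_add_cancel] at this
      have h5 : (p : ℤ) ∣ (e : ℤ) := by
        rcases D.ε_sq with h | h
        · rw [h, one_mul] at h4
          exact h4
        · rw [h, neg_one_mul] at h4
          exact (dvd_neg).mp h4
      have := Int.le_of_dvd (by omega) h5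
      omega
    have hqf : ¬ q ∣ charDegree (θ : G → ℂ) := by
      intro hdiv
      have h2 : (q : ℤ) ∣ D.ε * (charDegree (θ : G → ℂ) : ℤ) :=
        Dvd.dvd.mul_left (by exact_mod_cast hdiv) D.ε
      rw [Cfsg.Agent.Lib.helper72.BT.deg_eq hP D θ hθ] at h2
      have h3 : (q : ℤ) ∣ 1 := (dvd_add_left hsumq).mp h2
      have := Int.le_of_dvd one_pos h3
      have := hq.two_le
      omega
    have hdg := hdvd2 θ hpf hqf
    refine ⟨hqf, hdg, ?_⟩
    have hpos : 0 < charDegree (θ : G → ℂ) := Nat.pos_of_dvd_of_pos hdg hg0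
    by_contra hlt
    have h1 : charDegree (θ : G → ℂ) = 1 := by omega
    have h2 := Cfsg.Agent.Lib.helper20.Br.lin_perfect hperf θ h1
    rw [h2] at hθ
    exact (Finset.disjoint_left.mp D.disj) D.one_mem hθ
  refine ⟨fun χ hχ hne => ⟨part1 χ hχ hne, hbig χ hχ hne⟩, part2, ?_⟩
  rcases D.ε_sq with h | h
  · left
    have hall : ∀ θ ∈ D.Y, charDegree (θ : G → ℂ) = e := by
      intro θ hθ
      have hmod := Int.modEq_iff_dvd.mp (D.deg_Y θ hθ)
      rw [h, one_mul] at hmod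
      have hle := Nat.le_of_dvd hg0 (part2 θ hθ).2.1
      rcases le_total (charDegree (θ : G → ℂ)) e with hle' | hle'
      · have h0 := Int.eq_zero_of_dvd_of_nonneg_of_lt (by omega) (by omega) hmod
        omega
      · have h2 : (p : ℤ) ∣ (charDegree (θ : G → ℂ) : ℤ) - (e : ℤ) := by
          rw [← neg_sub]
          exact (dvd_neg).mpr hmod
        have h0 := Int.eq_zero_of_dvd_of_nonneg_of_lt (by omega) (by omega) h2
        omega
    refine ⟨h, hall, ?_⟩
    obtain ⟨θ, hθ⟩ := hYne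
    have hdeg := Cfsg.Agent.Lib.helper72.BT.deg_eq hP D θ hθ
    rw [hall θ hθ, h, one_mul] at hdeg
    have h3 : (q : ℤ) ∣ ((e - 1 : ℕ) : ℤ) := by
      have e1 : ((e - 1 : ℕ) : ℤ) =
          ∑ χ ∈ D.X.erase (trivChar G), D.δ χ * (charDegree (χ : G → ℂ) : ℤ) := by
        rw [Nat.cast_sub (by omega)]
        push_cast
        linarith
      rw [e1]
      exact hsumq
    exact_mod_cast h3
  · right
    refine ⟨h, ?_⟩
    intro θ hθ
    have hmod := Int.modEq_iff_dvd.mp (D.deg_Y θ hθ)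
    rw [h] at hmod
    have hle := Nat.le_of_dvd hg0 (part2 θ hθ).2.1
    have h2 : (p : ℤ) ∣ ((charDegree (θ : G → ℂ) + e : ℕ) : ℤ) := by
      have e1 : (-1 : ℤ) * (e : ℤ) - (charDegree (θ : G → ℂ) : ℤ) =
          -(((charDegree (θ : G → ℂ) + e : ℕ) : ℤ)) := by
        push_cast
        ring
      rw [e1] at hmod
      exact (dvd_neg).mp hmod
    have h3 : p ∣ charDegree (θ : G → ℂ) + e := by exact_mod_cast h2
    exact Cfsg.Agent.Lib.helper72.BT.h72_eq_of_dvd_lt h3 (by omega) (by omega)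

end Cfsg.Agent.Lib.helper57.BU
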