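import Mathlib
import Cfsg.Agent.Lib.helper24.SfoDefs

/-!
# S5981 piece BINCNT: the number of solutions of `a x² + b y² = t` over a finite field of odd
characteristic, via the quadratic character and the Jacobi sum `J(χ, χ) = -χ(-1)`.
-/

set_option autoImplicit false

namespace Cfsg.Agent.Lib.helper24

open Finset

/-- A sum over squares, rewritten with the quadratic character. -/
theorem h57_sum_sq {F : Type*} [Field F] [Fintype F] [DecidableEq F] (hF : ringChar F ≠ 2)
    (g : F → ℤ) : ∑ y : F, g (y ^ 2) = ∑ w : F, (quadraticChar F w + 1) * g w := by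
  have h1 : ∀ y : F, g (y ^ 2) = ∑ w : F, if y ^ 2 = w then g w else 0 := by
    intro y
    rw [Finset.sum_ite_eq]
    simp
  rw [Finset.sum_congr rfl (fun y _ => h1 y), Finset.sum_comm]
  refine Finset.sum_congr rfl (fun w _ => ?_)
  rw [← quadraticChar_card_sqrts hF w, ← Finset.sum_filter, Finset.sum_const, nsmul_eq_mul]
  congr 3
  ext y
  simp

/-- The count of `a x² + b y² = t` as a character sum. -/
theorem h57_bin_count_sum {F : Type*} [Field F] [Fintype F] [DecidableEq F] (hF : ringChar F ≠ 2)
    (a b : F) (ha : a ≠ 0) (t : F) :
    ((Finset.univ.filter (fun p : F × F => a * p.1 ^ 2 + b * p.2 ^ 2 = t)).card : ℤ) =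
      (Fintype.card F : ℤ) + ∑ y : F, quadraticChar F ((t - b * y ^ 2) / a) := by
  rw [Finset.natCast_card_filter, Fintype.sum_prod_type_right]
  have h1 : ∀ y : F, ∑ x : F, (if a * x ^ 2 + b * y ^ 2 = t then (1 : ℤ) else 0) =
      quadraticChar F ((t - b * y ^ 2) / a) + 1 := by
    intro y
    rw [← quadraticChar_card_sqrts hF, ← Finset.natCast_card_filter]
    congr 2
    ext x
    simp only [Finset.mem_filter, Finset.mem_univ, true_and, Set.mem_toFinset, Set.mem_ofPred_eq]
    rw [eq_div_iff ha]
    constructor
    · intro h; rw [← h]; ring
    · intro h; linear_combination h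
  rw [Finset.sum_congr rfl (fun y _ => h1 y), Finset.sum_add_distrib, Finset.sum_const,
    Finset.card_univ]
  simp only [nsmul_eq_mul, mul_one]
  ring

/-- BINCNT -/
theorem sfo_bin_count {F : Type*} [Field F] [Fintype F] [DecidableEq F] (h2 : (2 : F) ≠ 0)
    (a b : F) (ha : a ≠ 0) (hb : b ≠ 0) :
    ∃ e : ℤ, (e = 1 ∨ e = -1) ∧
      (∀ t : F, t ≠ 0 →
        ((Finset.univ.filter (fun p : F × F => a * p.1 ^ 2 + b * p.2 ^ 2 = t)).card : ℤ) =
          (Fintype.card F : ℤ) - e) ∧
      ((Finset.univ.filter (fun p : F × F => a * p.1 ^ 2 + b * p.2 ^ 2 = 0)).card : ℤ) =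
        (Fintype.card F : ℤ) + ((Fintype.card F : ℤ) - 1) * e := by
  have hF : ringChar F ≠ 2 := by
    intro h
    apply h2
    have h3 := CharP.cast_eq_zero F (ringChar F)
    rw [h] at h3
    exact_mod_cast h3
  have hχ1 : quadraticChar F ≠ 1 := quadraticChar_ne_one hF
  have hba : -b / a ≠ 0 := div_ne_zero (neg_ne_zero.mpr hb) ha
  refine ⟨quadraticChar F (-b / a), quadraticChar_dichotomy hba, ?_, ?_⟩
  · intro t ht
    rw [h57_bin_count_sum hF a b ha t]
    have hS : ∑ y : F, quadraticChar F ((t - b * y ^ 2) / a) = - quadraticChar F (-b / a) := by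
      rw [h57_sum_sq hF (fun w => quadraticChar F ((t - b * w) / a))]
      simp only [add_mul, one_mul]
      rw [Finset.sum_add_distrib]
      have hsecond : ∑ w : F, quadraticChar F ((t - b * w) / a) = 0 := by
        have hbij : Function.Bijective (fun w : F => (t - b * w) / a) := by
          constructor
          · intro w w' h
            simp only at h
            rw [div_left_inj' ha] at h
            have h' : b * w = b * w' := by linear_combination -h
            exact mul_left_cancel₀ hb h'
          · intro u
            refine ⟨(t - a * u) / b, ?_⟩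
            simp only
            field_simp
            ring
        rw [hbij.sum_comp (fun u => quadraticChar F u), quadraticChar_sum_zero hF]
      rw [hsecond, add_zero]
      have htb : t / b ≠ 0 := div_ne_zero ht hb
      have hfirst : ∀ x : F, quadraticChar F (t / b * x) *
          quadraticChar F ((t - b * (t / b * x)) / a) =
          quadraticChar F (b / a) * (quadraticChar F x * quadraticChar F (1 - x)) := by
        intro x
        have e1 : (t - b * (t / b * x)) / a = t / a * (1 - x) := by
          field_simp
        rw [e1, map_mul, map_mul]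
        have e2 : quadraticChar F (t / b) * quadraticChar F (t / a) = quadraticChar F (b / a) := by
          rw [← map_mul]
          have e3 : t / b * (t / a) = (t / b) ^ 2 * (b / a) := by
            field_simp
          rw [e3, map_mul, quadraticChar_sq_one' htb, one_mul]
        rw [← e2]
        ring
      have hbij2 : Function.Bijective (fun x : F => t / b * x) := by
        constructor
        · intro x x' h
          exact mul_left_cancel₀ htb h
        · intro u
          refine ⟨u / (t / b), ?_⟩
          simp only
          field_simp
      rw [← hbij2.sum_comp (fun w => quadraticChar F w * quadraticChar F ((t - b * w) / a))]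
      rw [Finset.sum_congr rfl (fun x _ => hfirst x), ← Finset.mul_sum]
      have hJ : ∑ x : F, quadraticChar F x * quadraticChar F (1 - x) = - quadraticChar F (-1) := by
        have h3 := jacobiSum_nontrivial_inv hχ1
        rw [(quadraticChar_isQuadratic F).inv] at h3
        exact h3
      rw [hJ]
      rw [show -b / a = (-1) * (b / a) by ring, map_mul]
      ring
    rw [hS]
    ring
  · rw [h57_bin_count_sum hF a b ha 0]
    have hS0 : ∑ y : F, quadraticChar F ((0 - b * y ^ 2) / a) =
        ((Fintype.card F : ℤ) - 1) * quadraticChar F (-b / a) := by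
      have h1 : ∀ y : F, quadraticChar F ((0 - b * y ^ 2) / a) =
          quadraticChar F (-b / a) * (if y = 0 then 0 else 1) := by
        intro y
        by_cases hy : y = 0
        · subst hy
          simp
        · rw [if_neg hy, mul_one]
          have e1 : (0 - b * y ^ 2) / a = y ^ 2 * (-b / a) := by
            field_simp
            ring
          rw [e1, map_mul, quadraticChar_sq_one' hy, one_mul]
      rw [Finset.sum_congr rfl (fun y _ => h1 y), ← Finset.mul_sum]
      have h3 : ∑ y : F, (if y = 0 then (0 : ℤ) else 1) = (Fintype.card F : ℤ) - 1 := by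
        have h4 : ∀ y : F, (if y = 0 then (0 : ℤ) else 1) = 1 - (if y = 0 then 1 else 0) := by
          intro y
          split_ifs <;> simp
        rw [Finset.sum_congr rfl (fun y _ => h4 y), Finset.sum_sub_distrib, Finset.sum_const,
          Finset.card_univ, Finset.sum_ite_eq']
        simp
      rw [h3]
      ring
    rw [hS0]

end Cfsg.Agent.Lib.helper24
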