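import Mathlib
import Cfsg.Agent.Lib.helper24.SroDefs

set_option autoImplicit false
set_option linter.unusedSectionVars false
set_option linter.unusedVariables false

namespace Cfsg.Agent.Lib.helper24

open Module Cfsg.Agent.Lib.helper45 Cfsg.Agent.Lib.helper49

universe u

section generic

variable {F : Type u} [Field F] [Fintype F]

/-- PIECE ISO of the S5989 split: an isometric copy of a nondegenerate subspace is nondegenerate
of the same dimension. -/
theorem sro_iso_nd {V V₀ : Type u} [AddCommGroup V] [Module F V] [AddCommGroup V₀] [Module F V₀]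
    (Q : QuadraticForm F V) (W : Submodule F V) (Q₀ : QuadraticForm F V₀) (W₀ : Submodule F V₀)
    (h : SrIsoTo Q W Q₀ W₀) (hW₀ : SpNd (QuadraticMap.polarBilin Q₀) W₀) :
    SpNd (QuadraticMap.polarBilin Q) W ∧ finrank F W = finrank F W₀ := by
  obtain ⟨e, he⟩ := h
  refine ⟨?_, LinearEquiv.finrank_eq e⟩
  intro u hu hu2
  have hpol : ∀ a b : W, QuadraticMap.polar Q₀ ((e a : W₀) : V₀) ((e b : W₀) : V₀) =
      QuadraticMap.polar Q (a : V) (b : V) := by
    intro a b
    unfold QuadraticMap.polar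
    have h1 : ((e a : W₀) : V₀) + ((e b : W₀) : V₀) = ((e (a + b) : W₀) : V₀) := by
      rw [map_add]
      rfl
    rw [h1, he, he, he]
    rfl
  have h0 : ((e ⟨u, hu⟩ : W₀) : V₀) = 0 := by
    apply hW₀ _ (e ⟨u, hu⟩).2
    intro v₀ hv₀
    rw [QuadraticMap.polarBilin_apply_apply]
    have h2 := hpol ⟨u, hu⟩ (e.symm ⟨v₀, hv₀⟩)
    rw [LinearEquiv.apply_symm_apply] at h2
    rw [h2]
    have h3 := hu2 _ (e.symm ⟨v₀, hv₀⟩).2
    rw [QuadraticMap.polarBilin_apply_apply] at h3
    exact h3
  have h4 : e ⟨u, hu⟩ = 0 := Subtype.ext h0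
  have h5 : (⟨u, hu⟩ : W) = 0 := by
    rw [← e.map_eq_zero_iff]
    exact h4
  exact congrArg Subtype.val h5

end generic

end Cfsg.Agent.Lib.helper24
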