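import Mathlib
import Cfsg.Agent.Lib.helper24.SroDefs

set_option autoImplicit false
set_option linter.unusedSectionVars false
set_option linter.unusedVariables false

namespace Cfsg.Agent.Lib.helper24

open Module Cfsg.Agent.Lib.helper45 Cfsg.Agent.Lib.helper49

universe u

section generic

variable {F : Type u} [Field F] [Fintype F]

/-- PIECE NEG of the S5989 split: a nondegenerate subspace invariant under an isometry `T` with
`T² = -1` has even dimension (the form `(u, v) ↦ polar u (T v)` on it is alternating and
nondegenerate). -/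
theorem sro_neg_even {V : Type u} [AddCommGroup V] [Module F V] [FiniteDimensional F V]
    (Q : QuadraticForm F V) (h2 : (2 : F) ≠ 0) (T : Module.End F V) (hT : ∀ v, Q (T v) = Q v)
    (hT2 : T * T = -1) (W : Submodule F V) (hW : SpNd (QuadraticMap.polarBilin Q) W)
    (hWinv : ∀ w ∈ W, T w ∈ W) : Even (finrank F W) := by
  have hTT : ∀ v, T (T v) = -v := by
    intro v
    have h1 := congrArg (fun S : Module.End F V => S v) hT2
    simpa using h1
  have hpol : ∀ u v, QuadraticMap.polar Q (T u) (T v) = QuadraticMap.polar Q u v := by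
    intro u v
    unfold QuadraticMap.polar
    rw [← map_add, hT, hT, hT]
  obtain ⟨ω, hω⟩ : ∃ ω : V →ₗ[F] V →ₗ[F] F, ∀ u v, ω u v = QuadraticMap.polar Q u (T v) :=
    ⟨(QuadraticMap.polarBilin Q).compl₂ T, fun u v => rfl⟩
  have halt : ∀ v, ω v v = 0 := by
    intro v
    rw [hω]
    have h1 : QuadraticMap.polar Q v (T v) = QuadraticMap.polar Q (T v) (T (T v)) :=
      (hpol v (T v)).symm
    rw [hTT, QuadraticMap.polar_neg_right, QuadraticMap.polar_comm (⇑Q) (T v) v] at h1
    have h3 : (2 : F) * QuadraticMap.polar Q v (T v) = 0 := by linear_combination h1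
    rcases mul_eq_zero.mp h3 with h | h
    · exact absurd h h2
    · exact h
  have hnd : SpNd ω W := by
    intro u hu hu2
    apply hW u hu
    intro w hw
    have h1 := hu2 (-(T w)) (W.neg_mem (hWinv w hw))
    rw [hω, map_neg, hTT, neg_neg] at h1
    rw [QuadraticMap.polarBilin_apply_apply]
    exact h1
  exact sp_even ω halt W hnd

end generic

end Cfsg.Agent.Lib.helper24
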