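import Mathlib
import Cfsg.Agent.Lib.helper24.StsDefs
import Cfsg.Agent.Lib.helper4.StpCNTA
import Cfsg.Agent.Lib.helper75.StpCNTB

/-!
# S5987 piece MCNT (`stm_count_dvd`): primes dividing the number of totally singular `m`-spaces
of a minus type space
-/

set_option autoImplicit false
set_option linter.unusedSectionVars false
set_option linter.unusedVariables false

namespace Cfsg.Agent.Lib.helper24

open Module Cfsg.Agent.Lib.helper45 Cfsg.Agent.Lib.helper49

universe u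

section stmgeneric

variable {F : Type u} [Field F] [Fintype F]

/-- the integer identity behind the count -/
theorem h57_stm_int_id (q x : ℤ) :
    q * ((q * x + 1) * (x - 1) + 1) = (q * x) * (q * x) + (-1) * (q * x) * (q - 1) := by
  ring

/-- A prime `r` dividing the number of totally singular `m`-spaces (`m < d`) of a minus type
space of dimension `2d` is not the characteristic and divides `(q^(d-j) + 1) (q^(d-j-1) - 1)`
for some `j < m`  [`N_m ∏_{j<m} (q^(m-j) - 1) = ∏_{j<m} (q^(d-j) + 1) (q^(d-j-1) - 1)`, and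
modulo `p` both products are `(-1)^m`]. -/
theorem stm_count_dvd {V : Type u} [AddCommGroup V] [Module F V] [FiniteDimensional F V]
    (Q : QuadraticForm F V) (hnd : ∀ v, (∀ w, QuadraticMap.polar Q v w = 0) → v = 0)
    (d m : ℕ) (hmd : m < d) (hdim : finrank F V = 2 * d) (hty : SrTy Q ⊤ (-1))
    (p : ℕ) [Fact p.Prime] [CharP F p] (r : ℕ) (hr : r.Prime)
    (hdvd : r ∣ Nat.card {W : Submodule F V // finrank F W = m ∧ ∀ w ∈ W, Q w = 0}) :
    r ≠ p ∧ ∃ j, j < m ∧
      r ∣ (Fintype.card F ^ (d - j) + 1) * (Fintype.card F ^ (d - j - 1) - 1) := by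
  classical
  have hp : p.Prime := Fact.out
  obtain ⟨q, hq⟩ : ∃ q : ℕ, q = Fintype.card F := ⟨_, rfl⟩
  rw [← hq]
  have hq1 : 1 < q := by
    rw [hq]
    exact Fintype.one_lt_card
  have hq0 : 0 < q := by omega
  have hpq : p ∣ q := by
    have h1 : ((q : ℕ) : F) = 0 := by
      rw [hq]
      exact Nat.cast_card_eq_zero F
    exact (CharP.cast_eq_zero_iff F p q).mp h1
  -- the count function
  obtain ⟨f, hf⟩ : ∃ f : ℕ → ℕ,
      f = fun j => q ^ j * ((q ^ (d - j) + 1) * (q ^ (d - j - 1) - 1) + 1) := ⟨_, rfl⟩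
  have hfj : ∀ j, f j - q ^ j = q ^ j * ((q ^ (d - j) + 1) * (q ^ (d - j - 1) - 1)) := by
    intro j
    rw [hf]
    show q ^ j * ((q ^ (d - j) + 1) * (q ^ (d - j - 1) - 1) + 1) - q ^ j = _
    rw [mul_add, mul_one, Nat.add_sub_cancel]
  have hA : ∀ U : Submodule F V, (∀ u ∈ U, Q u = 0) → finrank F U < m →
      Nat.card {v : V // Q v = 0 ∧ ∀ u ∈ U, QuadraticMap.polar Q u v = 0} = f (finrank F U) := by
    intro U hU hUm
    have h1 := stp_perp_sing Q hnd d hdim (-1) (Or.inr rfl) hty U hU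
    rw [← hq] at h1
    obtain ⟨j, hj⟩ : ∃ j : ℕ, j = finrank F U := ⟨_, rfl⟩
    rw [← hj] at h1 hUm ⊢
    obtain ⟨k, hk⟩ : ∃ k : ℕ, d - j = k + 1 := ⟨d - j - 1, by omega⟩
    have hfv : f j = q ^ j * ((q ^ (k + 1) + 1) * (q ^ k - 1) + 1) := by
      rw [hf]
      show q ^ j * ((q ^ (d - j) + 1) * (q ^ (d - j - 1) - 1) + 1) = _
      rw [hk, Nat.add_sub_cancel]
    rw [hk] at h1
    have hqk : 1 ≤ q ^ k := Nat.one_le_pow _ _ hq0
    have h2 : ((q : ℤ)) * ((f j : ℕ) : ℤ) = (q : ℤ) ^ j *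
        ((q : ℤ) ^ (2 * (k + 1)) + (-1) * (q : ℤ) ^ (k + 1) * ((q : ℤ) - 1)) := by
      rw [hfv]
      push_cast [Nat.cast_sub hqk]
      have e1 := h57_stm_int_id (q : ℤ) ((q : ℤ) ^ k)
      have e2 : (q : ℤ) ^ (2 * (k + 1)) = ((q : ℤ) * (q : ℤ) ^ k) * ((q : ℤ) * (q : ℤ) ^ k) := by
        ring
      have e3 : (q : ℤ) ^ (k + 1) = (q : ℤ) * (q : ℤ) ^ k := by ring
      rw [e2, e3, ← e1]
      ring
    have hq0' : (q : ℤ) ≠ 0 := by exact_mod_cast hq0.ne'
    have h3 := mul_left_cancel₀ hq0' (h1.trans h2.symm)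
    exact_mod_cast h3
  have hcount := stp_count Q m f hA
  rw [← hq] at hcount
  -- rewrite both sides
  have hL : ∏ j ∈ Finset.range m, (q ^ m - q ^ j) =
      (∏ j ∈ Finset.range m, q ^ j) * ∏ j ∈ Finset.range m, (q ^ (m - j) - 1) := by
    rw [← Finset.prod_mul_distrib]
    refine Finset.prod_congr rfl (fun j hj => ?_)
    have hjm : j < m := Finset.mem_range.mp hj
    have e1 : q ^ m = q ^ j * q ^ (m - j) := by
      rw [← pow_add]
      congr 1
      omega
    rw [e1, Nat.mul_sub, mul_one]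
  have hR : ∏ j ∈ Finset.range m, (f j - q ^ j) =
      (∏ j ∈ Finset.range m, q ^ j) *
        ∏ j ∈ Finset.range m, ((q ^ (d - j) + 1) * (q ^ (d - j - 1) - 1)) := by
    rw [← Finset.prod_mul_distrib]
    exact Finset.prod_congr rfl (fun j _ => hfj j)
  rw [hL, hR] at hcount
  have hpos : 0 < ∏ j ∈ Finset.range m, q ^ j :=
    Finset.prod_pos (fun j _ => Nat.pow_pos hq0)
  have hmain : Nat.card {W : Submodule F V // finrank F W = m ∧ ∀ w ∈ W, Q w = 0} *
      ∏ j ∈ Finset.range m, (q ^ (m - j) - 1) =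
      ∏ j ∈ Finset.range m, ((q ^ (d - j) + 1) * (q ^ (d - j - 1) - 1)) := by
    have h1 : (∏ j ∈ Finset.range m, q ^ j) *
        (Nat.card {W : Submodule F V // finrank F W = m ∧ ∀ w ∈ W, Q w = 0} *
          ∏ j ∈ Finset.range m, (q ^ (m - j) - 1)) =
        (∏ j ∈ Finset.range m, q ^ j) *
          ∏ j ∈ Finset.range m, ((q ^ (d - j) + 1) * (q ^ (d - j - 1) - 1)) := by
      rw [← hcount]
      ring
    exact Nat.eq_of_mul_eq_mul_left hpos h1
  have hrdvd : r ∣ ∏ j ∈ Finset.range m, ((q ^ (d - j) + 1) * (q ^ (d - j - 1) - 1)) := by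
    rw [← hmain]
    exact Dvd.dvd.mul_right hdvd _
  obtain ⟨j, hj, hjr⟩ := (Prime.dvd_finsetProd_iff (Nat.Prime.prime hr) _).mp hrdvd
  have hjm : j < m := Finset.mem_range.mp hj
  refine ⟨?_, j, hjm, hjr⟩
  intro hrp
  rw [hrp] at hjr
  rcases (Nat.Prime.dvd_mul hp).mp hjr with h1 | h1
  · have h2 : p ∣ q ^ (d - j) := Dvd.dvd.trans hpq (dvd_pow_self q (by omega))
    have h3 : p ∣ 1 := (Nat.dvd_add_right h2).mp h1
    exact hp.one_lt.ne' (Nat.dvd_one.mp h3)
  · have h2 : p ∣ q ^ (d - j - 1) := Dvd.dvd.trans hpq (dvd_pow_self q (by omega))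
    have hqk : 1 ≤ q ^ (d - j - 1) := Nat.one_le_pow _ _ hq0
    have h3 : p ∣ 1 := by
      have h4 := Nat.dvd_sub h2 h1
      rwa [Nat.sub_sub_self hqk] at h4
    exact hp.one_lt.ne' (Nat.dvd_one.mp h3)

end stmgeneric

end Cfsg.Agent.Lib.helper24
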