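import Mathlib
import Cfsg.Prelude.Def_Transfer
import Cfsg.Agent.Lib.helper40.PComp
import Cfsg.Agent.Lib.helper67.Frobenius

/-!
# `p`-nilpotence in elementary form

`PNil p X`: the elements of `X` of order prime to `p` form a normal subgroup.  For finite `X` this is
`Cfsg.HasNormalPComplement p X`; the elementary form passes easily along injective and surjective
homomorphisms.
-/

set_option autoImplicit false

namespace Cfsg.Agent.Lib.helper57

open Subgroup

/-- `p`-nilpotence: the elements of order prime to `p` form a normal subgroup -/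
def PNil (p : ℕ) (X : Type*) [Group X] : Prop :=
  ∃ K : Subgroup X, K.Normal ∧ ∀ g : X, g ∈ K ↔ (orderOf g).Coprime p

section

variable {X : Type*} [Group X] {p : ℕ}

theorem eq_one_of_coprime_of_pow_prime_pow {g : X} (h1 : (orderOf g).Coprime p) {k : ℕ}
    (h2 : g ^ (p ^ k) = 1) : g = 1 := by
  have h3 : orderOf g ∣ p ^ k := orderOf_dvd_of_pow_eq_one h2
  have h4 : orderOf g = 1 := Nat.Coprime.eq_one_of_dvd (Nat.Coprime.pow_right k h1) h3
  exact orderOf_eq_one_iff.1 h4

theorem exists_pow_prime_pow_coprime [Finite X] [Fact p.Prime] :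
    ∃ a : ℕ, ∀ g : X, (orderOf (g ^ (p ^ a))).Coprime p := by
  obtain ⟨a, m₀, hm₀, hcard⟩ := Nat.exists_eq_pow_mul_and_not_dvd (Nat.card_pos (α := X)).ne' p
    (Fact.out : p.Prime).ne_one
  refine ⟨a, fun g => ?_⟩
  have h1 : (g ^ (p ^ a)) ^ m₀ = 1 := by
    rw [← pow_mul, ← hcard, pow_card_eq_one']
  exact Nat.Coprime.coprime_dvd_left (orderOf_dvd_of_pow_eq_one h1)
    ((Nat.Prime.coprime_iff_not_dvd Fact.out).2 hm₀).symm

theorem pNil_iff_hasNormalPComplement [Finite X] [Fact p.Prime] :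
    PNil p X ↔ Cfsg.HasNormalPComplement p X := by
  constructor
  · rintro ⟨K, hKn, hK⟩
    exact Cfsg.Agent.Lib.helper40.hasNormalPComplement_of_pprime_elements K hK
  · rintro ⟨P, N, hN, hNP⟩
    exact ⟨N, hN, fun g => Cfsg.Agent.Lib.helper67.mem_iff_coprime_of_isComplement' N P hNP g⟩

theorem PNil.of_injective {Y : Type*} [Group Y] (f : X →* Y) (hf : Function.Injective f)
    (h : PNil p Y) : PNil p X := by
  obtain ⟨K, hKn, hK⟩ := h
  refine ⟨K.comap f, hKn.comap f, fun g => ?_⟩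
  rw [Subgroup.mem_comap, hK, orderOf_injective f hf]

theorem PNil.subgroup (h : PNil p X) (M : Subgroup X) : PNil p ↥M :=
  h.of_injective M.subtype M.subtype_injective

theorem PNil.of_le (M₁ M₂ : Subgroup X) (hle : M₁ ≤ M₂) (h : PNil p ↥M₂) : PNil p ↥M₁ :=
  h.of_injective (Subgroup.inclusion hle) (Subgroup.inclusion_injective hle)

theorem PNil.of_surjective [Finite X] [Fact p.Prime] {Y : Type*} [Group Y] (f : X →* Y)
    (hf : Function.Surjective f) (h : PNil p X) : PNil p Y := by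
  obtain ⟨K, hKn, hK⟩ := h
  obtain ⟨a, ha⟩ := exists_pow_prime_pow_coprime (X := X) (p := p)
  refine ⟨K.map f, hKn.map f hf, fun g' => ⟨?_, ?_⟩⟩
  · rintro ⟨k, hk, rfl⟩
    exact Nat.Coprime.coprime_dvd_left (orderOf_map_dvd f k) ((hK k).1 hk)
  · intro hg'
    obtain ⟨g, rfl⟩ := hf g'
    have h1 : g ^ (p ^ a) ∈ K := (hK _).2 (ha g)
    obtain ⟨s, hs⟩ := exists_pow_eq_self_of_coprime (n := p ^ a) (x := f g)
      (Nat.Coprime.pow_left a hg'.symm)
    refine ⟨(g ^ (p ^ a)) ^ s, K.pow_mem h1 s, ?_⟩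
    rw [map_pow, map_pow, hs]

theorem PNil.of_quotient [Finite X] (K₀ : Subgroup X) [K₀.Normal] (hK₀ : (Nat.card K₀).Coprime p)
    (h : PNil p (X ⧸ K₀)) : PNil p X := by
  obtain ⟨K, hKn, hK⟩ := h
  refine ⟨K.comap (QuotientGroup.mk' K₀), hKn.comap _, fun g => ?_⟩
  rw [Subgroup.mem_comap, hK]
  constructor
  · intro h1
    have h2 : g ^ (orderOf (QuotientGroup.mk' K₀ g)) ∈ K₀ := by
      rw [← QuotientGroup.eq_one_iff, ← QuotientGroup.mk'_apply, map_pow, pow_orderOf_eq_one]
    have h3 : (g ^ orderOf (QuotientGroup.mk' K₀ g)) ^ Nat.card K₀ = 1 := by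
      have := pow_card_eq_one' (G := K₀) (x := ⟨_, h2⟩)
      exact congrArg Subtype.val this
    rw [← pow_mul] at h3
    exact Nat.Coprime.coprime_dvd_left (orderOf_dvd_of_pow_eq_one h3) (Nat.Coprime.mul_left h1 hK₀)
  · intro h1
    exact Nat.Coprime.coprime_dvd_left (orderOf_map_dvd _ g) h1

theorem pNil_of_isPGroup (h : IsPGroup p X) : PNil p X := by
  refine ⟨⊥, inferInstance, fun g => ?_⟩
  rw [Subgroup.mem_bot]
  constructor
  · rintro rfl
    simp
  · intro hg
    obtain ⟨k, hk⟩ := h g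
    exact eq_one_of_coprime_of_pow_prime_pow hg hk

/-- a `p`-nilpotent group in which some normal `p`-subgroup contains its centralizer is a `p`-group -/
theorem isPGroup_of_pNil_of_centralizer_le [Finite X] [Fact p.Prime] (h : PNil p X) (H : Subgroup X)
    [hHn : H.Normal] (hH : IsPGroup p H) (hc : Subgroup.centralizer (H : Set X) ≤ H) : IsPGroup p X := by
  obtain ⟨K, hKn, hK⟩ := h
  have hHK : ∀ g : X, g ∈ H → g ∈ K → g = 1 := by
    intro g hgH hgK
    obtain ⟨k, hk⟩ := hH ⟨g, hgH⟩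
    have hk' : g ^ (p ^ k) = 1 := by
      have := congrArg Subtype.val hk
      simpa using this
    exact eq_one_of_coprime_of_pow_prime_pow ((hK g).1 hgK) hk'
  have hK1 : ∀ k ∈ K, k = 1 := by
    intro k hk
    have hkc : k ∈ Subgroup.centralizer (H : Set X) := by
      rw [Subgroup.mem_centralizer_iff]
      intro h' hh'
      have h1 : k * h' * k⁻¹ * h'⁻¹ ∈ K := by
        have e : k * h' * k⁻¹ * h'⁻¹ = k * (h' * k⁻¹ * h'⁻¹) := by group
        rw [e]
        exact K.mul_mem hk (hKn.conj_mem _ (K.inv_mem hk) h')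
      have h2 : k * h' * k⁻¹ * h'⁻¹ ∈ H := H.mul_mem (hHn.conj_mem h' hh' k) (H.inv_mem hh')
      have h3 := hHK _ h2 h1
      calc h' * k = (k * h' * k⁻¹ * h'⁻¹)⁻¹ * (k * h') := by group
        _ = k * h' := by rw [h3]; group
    exact hHK k (hc hkc) hk
  obtain ⟨a, ha⟩ := exists_pow_prime_pow_coprime (X := X) (p := p)
  intro g
  exact ⟨a, hK1 _ ((hK _).2 (ha g))⟩

end

end Cfsg.Agent.Lib.helper57
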