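import Mathlib
import Cfsg.Agent.Lib.helper26.S4409Defs

/-!
# S4409 piece AQA: `Q8 · ⟨c⟩` with `c` centralising `Q8`, `c ∉ Q8`, `c² ∈ Q8` has order 16 and
contains an abelian noncyclic subgroup of order 8
-/

set_option autoImplicit false

namespace Cfsg.Agent.Lib.helper26.S4409

variable {G : Type*} [Group G]

/-- `K₀ ⊔ ⟨c⟩ = K₀ ∪ K₀ c⁻¹` when `c` centralises `K₀` and `c² ∈ K₀`. -/
theorem h57_join_struct (K₀ : Subgroup G) (c : G)
    (hc : c ∈ Subgroup.centralizer (K₀ : Set G)) (hc2 : c * c ∈ K₀) :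
    ∀ b ∈ K₀ ⊔ Subgroup.zpowers c, b ∈ K₀ ∨ b * c ∈ K₀ := by
  have hcomm : ∀ k ∈ K₀, k * c = c * k := fun k hk => Subgroup.mem_centralizer_iff.mp hc k hk
  have hcomm' : ∀ b : G, b * c ∈ K₀ → b * c = c * b := by
    intro b hb
    have h3 := hcomm (b * c) hb
    have h4 : (b * c) * c = (c * b) * c := by rw [h3, mul_assoc]
    exact mul_right_cancel h4
  let Y' : Subgroup G :=
    { carrier := {b | b ∈ K₀ ∨ b * c ∈ K₀}
      one_mem' := Or.inl K₀.one_mem
      mul_mem' := by
        rintro a b (ha | ha) (hb | hb)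
        · exact Or.inl (K₀.mul_mem ha hb)
        · right
          have h1 := K₀.mul_mem ha hb
          rwa [← mul_assoc] at h1
        · right
          have h1 := K₀.mul_mem ha hb
          have h2 : a * b * c = a * c * b := by rw [mul_assoc, hcomm b hb, ← mul_assoc]
          rw [h2]
          exact h1
        · left
          have hbc := hcomm' b hb
          have h5 : a * b = a * c * (c * c)⁻¹ * (b * c) := by
            rw [hbc]
            group
          rw [h5]
          exact K₀.mul_mem (K₀.mul_mem ha (K₀.inv_mem hc2)) hb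
      inv_mem' := by
        rintro a (ha | ha)
        · exact Or.inl (K₀.inv_mem ha)
        · right
          have hac := hcomm' a ha
          have h5 : a⁻¹ * c = (a * c)⁻¹ * (c * c) := by
            rw [hac]
            group
          rw [h5]
          exact K₀.mul_mem (K₀.inv_mem ha) hc2 }
  have hle : K₀ ⊔ Subgroup.zpowers c ≤ Y' := by
    refine sup_le (fun k hk => Or.inl hk) ?_
    rw [Subgroup.zpowers_le]
    exact Or.inr hc2
  exact fun b hb => hle hb

/-- `|K₀ ⊔ ⟨c⟩| = 2 |K₀|` when `c` centralises `K₀`, `c ∉ K₀` and `c² ∈ K₀`. -/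
theorem h57_join_card [Finite G] (K₀ : Subgroup G) (c : G)
    (hc : c ∈ Subgroup.centralizer (K₀ : Set G)) (hcK : c ∉ K₀) (hc2 : c * c ∈ K₀) :
    Nat.card ↥(K₀ ⊔ Subgroup.zpowers c : Subgroup G) = 2 * Nat.card ↥K₀ := by
  have hstruct := h57_join_struct K₀ c hc hc2
  have hcY : c ∈ K₀ ⊔ Subgroup.zpowers c :=
    (le_sup_right : Subgroup.zpowers c ≤ K₀ ⊔ Subgroup.zpowers c) (Subgroup.mem_zpowers c)
  have hidx : K₀.relIndex (K₀ ⊔ Subgroup.zpowers c) = 2 := by
    refine Subgroup.relIndex_eq_two_iff.mpr ⟨c, hcY, fun b hb => ?_⟩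
    rcases hstruct b hb with h | h
    · right
      refine ⟨h, fun h' => hcK ?_⟩
      have h1 := K₀.mul_mem (K₀.inv_mem h) h'
      rwa [inv_mul_cancel_left] at h1
    · left
      refine ⟨h, fun h' => hcK ?_⟩
      have h1 := K₀.mul_mem (K₀.inv_mem h') h
      rwa [inv_mul_cancel_left] at h1
  have hcard := Subgroup.card_mul_index (K₀.subgroupOf (K₀ ⊔ Subgroup.zpowers c))
  rw [show (K₀.subgroupOf (K₀ ⊔ Subgroup.zpowers c)).index = 2 from hidx,
    Nat.card_congr (Subgroup.subgroupOfEquivOfLe
      (le_sup_left : K₀ ≤ K₀ ⊔ Subgroup.zpowers c)).toEquiv] at hcard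
  omega

/-- the centre of the quaternion group of order 8 -/
theorem h57_q8_center (g : QuaternionGroup 2) (hg : ∀ h : QuaternionGroup 2, g * h = h * g) :
    g = 1 ∨ g = QuaternionGroup.a 1 * QuaternionGroup.a 1 := by
  revert g
  decide

theorem aqa [Finite G] (K : Subgroup G) (hQ : IsQ8 K) (c : G)
    (hc : c ∈ Subgroup.centralizer (K : Set G)) (hcK : c ∉ K) (hc2 : c * c ∈ K) :
    ¬ NoP (K ⊔ Subgroup.zpowers c) ∧ Nat.card ↥(K ⊔ Subgroup.zpowers c : Subgroup G) = 16 := by
  classical
  obtain ⟨φ⟩ := hQ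
  have hcomm : ∀ k ∈ K, k * c = c * k := fun k hk => Subgroup.mem_centralizer_iff.mp hc k hk
  have hcardK : Nat.card ↥K = 8 := by
    rw [Nat.card_congr φ.toEquiv, Nat.card_eq_fintype_card, QuaternionGroup.card]
  refine ⟨?_, ?_⟩
  swap
  · rw [h57_join_card K c hc hcK hc2, hcardK]
  -- an element of order 4
  have hi4 : orderOf ((φ.symm (QuaternionGroup.a 1) : ↥K) : G) = 4 := by
    rw [Subgroup.orderOf_coe, MulEquiv.orderOf_eq, QuaternionGroup.orderOf_a_one]
  have hiK : ((φ.symm (QuaternionGroup.a 1) : ↥K) : G) ∈ K := (φ.symm (QuaternionGroup.a 1)).2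
  -- `c * c` is central in `K`
  have hcc : c * c = 1 ∨ c * c = ((φ.symm (QuaternionGroup.a 1) : ↥K) : G) *
      ((φ.symm (QuaternionGroup.a 1) : ↥K) : G) := by
    have hcen : ∀ h : QuaternionGroup 2, φ ⟨c * c, hc2⟩ * h = h * φ ⟨c * c, hc2⟩ := by
      intro h
      obtain ⟨k, rfl⟩ := φ.surjective h
      rw [← map_mul, ← map_mul]
      congr 1
      apply Subtype.ext
      show c * c * (k : G) = (k : G) * (c * c)
      rw [mul_assoc, ← hcomm k k.2, ← mul_assoc, ← hcomm k k.2, mul_assoc]
    rcases h57_q8_center _ hcen with h | h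
    · left
      have h1 : (⟨c * c, hc2⟩ : ↥K) = 1 := by
        apply φ.injective
        rw [h, map_one]
      exact congrArg Subtype.val h1
    · right
      have h1 : (⟨c * c, hc2⟩ : ↥K) = φ.symm (QuaternionGroup.a 1) * φ.symm (QuaternionGroup.a 1) := by
        apply φ.injective
        rw [h, map_mul, MulEquiv.apply_symm_apply]
      exact congrArg Subtype.val h1
  generalize ((φ.symm (QuaternionGroup.a 1) : ↥K) : G) = i at hi4 hiK hcc
  have hic : i * c = c * i := hcomm i hiK
  have hi2 : i * i ≠ 1 := by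
    intro h
    have h1 : orderOf i ∣ 2 := orderOf_dvd_of_pow_eq_one (by rw [pow_two]; exact h)
    rw [hi4] at h1
    omega
  have hi4' : i * i * (i * i) = 1 := by
    have h1 := pow_orderOf_eq_one i
    rw [hi4] at h1
    have h2 : i ^ 4 = i * i * (i * i) := by
      rw [show (4 : ℕ) = 2 + 2 from rfl, pow_add, pow_two]
    rw [← h2]
    exact h1
  -- the abelian subgroup
  have hzle : Subgroup.zpowers i ≤ K := by
    rw [Subgroup.zpowers_le]
    exact hiK
  have hcz : c ∈ Subgroup.centralizer ((Subgroup.zpowers i : Subgroup G) : Set G) :=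
    Subgroup.centralizer_le (by exact_mod_cast hzle) hc
  have hcnz : c ∉ Subgroup.zpowers i := fun h => hcK (hzle h)
  have hc2z : c * c ∈ Subgroup.zpowers i := by
    rcases hcc with h | h
    · rw [h]
      exact Subgroup.one_mem _
    · rw [h]
      exact Subgroup.mul_mem _ (Subgroup.mem_zpowers i) (Subgroup.mem_zpowers i)
  have hAcard : Nat.card ↥(Subgroup.zpowers i ⊔ Subgroup.zpowers c : Subgroup G) = 8 := by
    rw [h57_join_card (Subgroup.zpowers i) c hcz hcnz hc2z, Nat.card_zpowers, hi4]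
  have hAle : Subgroup.zpowers i ⊔ Subgroup.zpowers c ≤ K ⊔ Subgroup.zpowers c :=
    sup_le_sup_right hzle _
  have hAcomm : IsMulCommutative ↥(Subgroup.zpowers i ⊔ Subgroup.zpowers c : Subgroup G) := by
    have h1 : Subgroup.zpowers i ⊔ Subgroup.zpowers c ≤ Subgroup.centralizer ({i, c} : Set G) := by
      refine sup_le ?_ ?_
      · rw [Subgroup.zpowers_le, Subgroup.mem_centralizer_iff]
        intro h hh
        rcases hh with rfl | rfl
        · rfl
        · exact hic.symm
      · rw [Subgroup.zpowers_le, Subgroup.mem_centralizer_iff]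
        intro h hh
        rcases hh with rfl | rfl
        · exact hic
        · rfl
    refine ⟨⟨fun a b => Subtype.ext ?_⟩⟩
    show (a : G) * (b : G) = (b : G) * (a : G)
    have hb := Subgroup.mem_centralizer_iff.mp (h1 b.2)
    have h2 : Subgroup.zpowers i ⊔ Subgroup.zpowers c ≤ Subgroup.centralizer ({(b : G)} : Set G) := by
      refine sup_le ?_ ?_
      · rw [Subgroup.zpowers_le, Subgroup.mem_centralizer_iff]
        intro h hh
        rw [Set.mem_singleton_iff] at hh
        rw [hh]
        exact (hb i (by simp)).symm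
      · rw [Subgroup.zpowers_le, Subgroup.mem_centralizer_iff]
        intro h hh
        rw [Set.mem_singleton_iff] at hh
        rw [hh]
        exact (hb c (by simp)).symm
    exact (Subgroup.mem_centralizer_iff.mp (h2 a.2) b rfl).symm
  -- a second involution
  obtain ⟨w, hwA, hwK, hww⟩ : ∃ w : G, w ∈ Subgroup.zpowers i ⊔ Subgroup.zpowers c ∧ w ∉ K ∧
      w * w = 1 := by
    rcases hcc with h | h
    · exact ⟨c, (le_sup_right : Subgroup.zpowers c ≤ _) (Subgroup.mem_zpowers c), hcK, h⟩
    · refine ⟨c * i⁻¹, ?_, ?_, ?_⟩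
      · exact Subgroup.mul_mem _ ((le_sup_right : Subgroup.zpowers c ≤ _) (Subgroup.mem_zpowers c))
          (Subgroup.inv_mem _ ((le_sup_left : Subgroup.zpowers i ≤ _) (Subgroup.mem_zpowers i)))
      · intro h'
        apply hcK
        have h1 := K.mul_mem h' hiK
        rwa [inv_mul_cancel_right] at h1
      · have h1 : c * i⁻¹ * (c * i⁻¹) = c * c * (i * i)⁻¹ := by
          have h2 : i⁻¹ * c = c * i⁻¹ := by
            rw [inv_mul_eq_iff_eq_mul, ← mul_assoc, hic, mul_assoc, mul_inv_cancel, mul_one]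
          rw [mul_assoc, ← mul_assoc i⁻¹, h2]
          group
        rw [h1, h, mul_inv_cancel]
  intro hNoP
  have hcyc := hNoP _ hAle hAcomm hAcard
  -- three solutions of `x ^ 2 = 1` in a cyclic group
  have hfinA : Finite ↥(Subgroup.zpowers i ⊔ Subgroup.zpowers c : Subgroup G) := inferInstance
  let _ : Fintype ↥(Subgroup.zpowers i ⊔ Subgroup.zpowers c : Subgroup G) := Fintype.ofFinite _
  have hle2 := IsCyclic.card_pow_eq_one_le
    (α := ↥(Subgroup.zpowers i ⊔ Subgroup.zpowers c : Subgroup G)) (n := 2) (by norm_num)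
  have hiiA : i * i ∈ Subgroup.zpowers i ⊔ Subgroup.zpowers c :=
    (le_sup_left : Subgroup.zpowers i ≤ _)
      (Subgroup.mul_mem _ (Subgroup.mem_zpowers i) (Subgroup.mem_zpowers i))
  have h3 : ({1, ⟨i * i, hiiA⟩, ⟨w, hwA⟩} :
      Finset ↥(Subgroup.zpowers i ⊔ Subgroup.zpowers c : Subgroup G)) ⊆
      Finset.univ.filter (fun a => a ^ 2 = 1) := by
    intro x hx
    rw [Finset.mem_filter]
    refine ⟨Finset.mem_univ _, ?_⟩
    rw [Finset.mem_insert, Finset.mem_insert, Finset.mem_singleton] at hx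
    rcases hx with rfl | rfl | rfl
    · exact one_pow 2
    · apply Subtype.ext
      rw [pow_two]
      exact hi4'
    · apply Subtype.ext
      rw [pow_two]
      exact hww
  have h4 : ({1, ⟨i * i, hiiA⟩, ⟨w, hwA⟩} :
      Finset ↥(Subgroup.zpowers i ⊔ Subgroup.zpowers c : Subgroup G)).card = 3 := by
    rw [Finset.card_insert_of_notMem, Finset.card_insert_of_notMem, Finset.card_singleton]
    · rw [Finset.mem_singleton]
      intro h
      apply hwK
      have h5 : i * i = w := congrArg Subtype.val h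
      rw [← h5]
      exact K.mul_mem hiK hiK
    · rw [Finset.mem_insert, Finset.mem_singleton]
      rintro (h | h)
      · exact hi2 (congrArg Subtype.val h).symm
      · apply hwK
        have h5 : (1 : G) = w := congrArg Subtype.val h
        rw [← h5]
        exact K.one_mem
  have h6 := Finset.card_le_card h3
  rw [h4] at h6
  omega

end Cfsg.Agent.Lib.helper26.S4409
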