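import Mathlib

/-!
# The integer-vector "star" lemma (piece SL of Flavell's Theorem A, S1950)

Vectors `Mx i : X → ℤ` with Gram matrix `e + [r i j]` for an equivalence relation `r` with
small classes, all equal to `-1` at one coordinate `x₁`: every coordinate profile
`i ↦ Mx i x` is constant, or `±` the indicator of one `r`-class.
-/

namespace Cfsg.Agent.Lib.helper57

theorem star_eq_of_rel {ι X : Type*} [Fintype X] (r : ι → ι → Prop) (hr : Equivalence r)
    (Mx : ι → X → ℤ) (e : ℕ)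
    (hG1 : ∀ i j, r i j → ∑ x, Mx i x * Mx j x = (e : ℤ) + 1) {i j : ι} (hij : r i j) (x : X) :
    Mx i x = Mx j x := by
  have h0 : ∑ y, (Mx i y - Mx j y) ^ 2 = 0 := by
    have hexp : ∀ y, (Mx i y - Mx j y) ^ 2
        = Mx i y * Mx i y - 2 * (Mx i y * Mx j y) + Mx j y * Mx j y := fun y => by ring
    simp only [hexp, Finset.sum_add_distrib, Finset.sum_sub_distrib, ← Finset.mul_sum]
    rw [hG1 i i (hr.refl i), hG1 i j hij, hG1 j j (hr.refl j)]
    ring
  have h1 := (Finset.sum_eq_zero_iff_of_nonneg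
    (fun y _ => sq_nonneg (Mx i y - Mx j y))).mp h0 x (Finset.mem_univ x)
  have h2 : Mx i x - Mx j x = 0 := by simpa using h1
  linarith

theorem star_abs_le_of_not_rel {ι X : Type*} [Fintype X] (r : ι → ι → Prop) (hr : Equivalence r)
    (Mx : ι → X → ℤ) (e : ℕ)
    (hG1 : ∀ i j, r i j → ∑ x, Mx i x * Mx j x = (e : ℤ) + 1)
    (hG0 : ∀ i j, ¬ r i j → ∑ x, Mx i x * Mx j x = (e : ℤ)) {i j : ι} (hij : ¬ r i j) (x : X) :
    Mx i x - Mx j x ≤ 1 ∧ -1 ≤ Mx i x - Mx j x := by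
  have h0 : ∑ y, (Mx i y - Mx j y) ^ 2 = 2 := by
    have hexp : ∀ y, (Mx i y - Mx j y) ^ 2
        = Mx i y * Mx i y - 2 * (Mx i y * Mx j y) + Mx j y * Mx j y := fun y => by ring
    simp only [hexp, Finset.sum_add_distrib, Finset.sum_sub_distrib, ← Finset.mul_sum]
    rw [hG1 i i (hr.refl i), hG0 i j hij, hG1 j j (hr.refl j)]
    ring
  have h1 : (Mx i x - Mx j x) ^ 2 ≤ 2 := by
    rw [← h0]
    exact Finset.single_le_sum (f := fun y => (Mx i y - Mx j y) ^ 2)
      (fun y _ => sq_nonneg _) (Finset.mem_univ x)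
  constructor <;> nlinarith

theorem star_four {ι X : Type*} [Fintype X] (r : ι → ι → Prop) (hr : Equivalence r)
    (Mx : ι → X → ℤ) (e : ℕ)
    (hG1 : ∀ i j, r i j → ∑ x, Mx i x * Mx j x = (e : ℤ) + 1)
    (hG0 : ∀ i j, ¬ r i j → ∑ x, Mx i x * Mx j x = (e : ℤ)) {i1 i2 j1 j2 : ι}
    (h12 : ¬ r i1 i2) (h13 : ¬ r i1 j1) (h14 : ¬ r i1 j2) (h23 : ¬ r i2 j1) (h24 : ¬ r i2 j2)
    (h34 : ¬ r j1 j2) (x0 : X) :
    Mx i1 x0 + Mx i2 x0 - Mx j1 x0 - Mx j2 x0 ≠ 2 ∧
      Mx i1 x0 + Mx i2 x0 - Mx j1 x0 - Mx j2 x0 ≠ -2 := by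
  classical
  obtain ⟨S, hS⟩ : ∃ S : X → ℤ, ∀ y, S y = Mx i1 y + Mx i2 y - Mx j1 y - Mx j2 y := ⟨_, fun _ => rfl⟩
  have hSS : ∑ y, S y ^ 2 = 4 := by
    have hexp : ∀ y, S y ^ 2 = Mx i1 y * Mx i1 y + Mx i2 y * Mx i2 y + Mx j1 y * Mx j1 y
        + Mx j2 y * Mx j2 y + 2 * (Mx i1 y * Mx i2 y) - 2 * (Mx i1 y * Mx j1 y)
        - 2 * (Mx i1 y * Mx j2 y) - 2 * (Mx i2 y * Mx j1 y) - 2 * (Mx i2 y * Mx j2 y)
        + 2 * (Mx j1 y * Mx j2 y) := fun y => by rw [hS]; ring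
    simp only [hexp, Finset.sum_add_distrib, Finset.sum_sub_distrib, ← Finset.mul_sum]
    rw [hG1 i1 i1 (hr.refl _), hG1 i2 i2 (hr.refl _), hG1 j1 j1 (hr.refl _),
      hG1 j2 j2 (hr.refl _), hG0 _ _ h12, hG0 _ _ h13, hG0 _ _ h14, hG0 _ _ h23, hG0 _ _ h24,
      hG0 _ _ h34]
    ring
  have haS : ∑ y, Mx i1 y * S y = 1 := by
    have hexp : ∀ y, Mx i1 y * S y = Mx i1 y * Mx i1 y + Mx i1 y * Mx i2 y - Mx i1 y * Mx j1 y
        - Mx i1 y * Mx j2 y := fun y => by rw [hS]; ring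
    simp only [hexp, Finset.sum_add_distrib, Finset.sum_sub_distrib]
    rw [hG1 i1 i1 (hr.refl _), hG0 _ _ h12, hG0 _ _ h13, hG0 _ _ h14]
    ring
  have key : S x0 = 2 ∨ S x0 = -2 → False := by
    intro h2
    have h4 : S x0 ^ 2 = 4 := by rcases h2 with h | h <;> rw [h] <;> norm_num
    have hrest : ∑ y ∈ Finset.univ.erase x0, S y ^ 2 = 0 := by
      have h : S x0 ^ 2 + ∑ y ∈ Finset.univ.erase x0, S y ^ 2 = ∑ y, S y ^ 2 :=
        Finset.add_sum_erase Finset.univ (fun y => S y ^ 2) (Finset.mem_univ x0)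
      linarith
    have hz : ∀ y, y ≠ x0 → S y = 0 := by
      intro y hy
      have h1 := (Finset.sum_eq_zero_iff_of_nonneg (fun y _ => sq_nonneg (S y))).mp hrest y
        (Finset.mem_erase.mpr ⟨hy, Finset.mem_univ y⟩)
      simpa using h1
    have hsum : ∑ y, Mx i1 y * S y = Mx i1 x0 * S x0 :=
      Finset.sum_eq_single x0 (fun y _ hy => by rw [hz y hy, mul_zero])
        (fun h => absurd (Finset.mem_univ x0) h)
    rw [haS] at hsum
    rcases h2 with h | h <;> rw [h] at hsum <;> omega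
  rw [← hS x0]
  exact ⟨fun h => key (Or.inl h), fun h => key (Or.inr h)⟩

theorem star_greedy {ι : Type*} [Fintype ι] [DecidableEq ι] (r : ι → ι → Prop) [DecidableRel r]
    (hr : Equivalence r) (c : ℕ)
    (hcls : ∀ i : ι, (Finset.univ.filter (fun j => r i j)).card ≤ c) (i' : ι) :
    ∀ n : ℕ, n * c < Fintype.card ι → ∃ J : Finset ι, J.card = n ∧ (∀ j ∈ J, ¬ r j i') ∧
      (∀ j ∈ J, ∀ k ∈ J, r j k → j = k) := by
  intro n
  induction n with
  | zero => intro _; exact ⟨∅, rfl, by simp, by simp⟩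
  | succ n ih =>
    intro hn
    have hn' : n * c < Fintype.card ι :=
      lt_of_le_of_lt (Nat.mul_le_mul_right c (Nat.le_succ n)) hn
    obtain ⟨J, hJc, hJi, hJp⟩ := ih hn'
    obtain ⟨B, hB⟩ : ∃ B : Finset ι, B = (Finset.univ.filter (fun l => r i' l)) ∪
        J.biUnion (fun j => Finset.univ.filter (fun l => r j l)) := ⟨_, rfl⟩
    have hBcard : B.card ≤ (n + 1) * c := by
      rw [hB]
      calc ((Finset.univ.filter (fun l => r i' l)) ∪
              J.biUnion (fun j => Finset.univ.filter (fun l => r j l))).card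
          ≤ (Finset.univ.filter (fun l => r i' l)).card +
              (J.biUnion (fun j => Finset.univ.filter (fun l => r j l))).card :=
            Finset.card_union_le _ _
        _ ≤ c + ∑ j ∈ J, (Finset.univ.filter (fun l => r j l)).card :=
            Nat.add_le_add (hcls i') Finset.card_biUnion_le
        _ ≤ c + ∑ _j ∈ J, c := Nat.add_le_add_left (Finset.sum_le_sum (fun j _ => hcls j)) c
        _ = (n + 1) * c := by rw [Finset.sum_const, hJc, smul_eq_mul]; ring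
    have hlt : B.card < Fintype.card ι := lt_of_le_of_lt hBcard hn
    obtain ⟨l, hl⟩ : ∃ l, l ∉ B := by
      by_contra hcon
      push Not at hcon
      have h1 : B = Finset.univ := Finset.eq_univ_iff_forall.mpr hcon
      rw [h1, Finset.card_univ] at hlt
      exact lt_irrefl _ hlt
    have hl1 : ¬ r i' l := fun h => hl (by rw [hB]; exact Finset.mem_union_left _ (by simp [h]))
    have hl2 : ∀ j ∈ J, ¬ r j l := fun j hj h =>
      hl (by rw [hB]; exact Finset.mem_union_right _ (Finset.mem_biUnion.mpr ⟨j, hj, by simp [h]⟩))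
    have hlJ : l ∉ J := fun h => hl2 l h (hr.refl l)
    refine ⟨insert l J, by rw [Finset.card_insert_of_notMem hlJ, hJc], ?_, ?_⟩
    · intro j hj
      rcases Finset.mem_insert.mp hj with rfl | hj
      · exact fun h => hl1 (hr.symm h)
      · exact hJi j hj
    · intro j hj k hk hjk
      rcases Finset.mem_insert.mp hj with hj | hj
      · rcases Finset.mem_insert.mp hk with hk | hk
        · rw [hj, hk]
        · rw [hj] at hjk
          exact absurd (hr.symm hjk) (hl2 k hk)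
      · rcases Finset.mem_insert.mp hk with hk | hk
        · rw [hk] at hjk
          exact absurd hjk (hl2 j hj)
        · exact hJp j hj k hk hjk

theorem star_structure {ι X : Type*} [Fintype X] [Finite ι] (r : ι → ι → Prop) (hr : Equivalence r)
    (Mx : ι → X → ℤ) (e c : ℕ)
    (hG1 : ∀ i j, r i j → ∑ x, Mx i x * Mx j x = (e : ℤ) + 1)
    (hG0 : ∀ i j, ¬ r i j → ∑ x, Mx i x * Mx j x = (e : ℤ))
    (x₁ : X) (hx₁ : ∀ i, Mx i x₁ = -1)
    (hcls : ∀ i : ι, Nat.card {j : ι // r i j} ≤ c) (hbig : c * (e + 1) < Nat.card ι) :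
    ∀ x : X, (∀ i j, Mx i x = Mx j x) ∨
      (∃ (i₀ : ι) (ε : ℤ), (ε = 1 ∨ ε = -1) ∧ (∀ i, r i i₀ → Mx i x = ε) ∧
        (∀ i, ¬ r i i₀ → Mx i x = 0)) := by
  classical
  have := Fintype.ofFinite ι
  intro x0
  by_cases hconst : ∀ i j, Mx i x0 = Mx j x0
  · exact Or.inl hconst
  right
  push Not at hconst
  obtain ⟨i0, j0, hne⟩ := hconst
  have hP : ∀ {i j : ι}, r i j → Mx i x0 = Mx j x0 :=
    fun h => star_eq_of_rel r hr Mx e hG1 h x0
  have hP' : ∀ {i j : ι}, ¬ r i j → Mx i x0 - Mx j x0 ≤ 1 ∧ -1 ≤ Mx i x0 - Mx j x0 :=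
    fun h => star_abs_le_of_not_rel r hr Mx e hG1 hG0 h x0
  have hnr : ¬ r i0 j0 := fun h => hne (hP h)
  have hab : Mx i0 x0 - Mx j0 x0 = 1 ∨ Mx i0 x0 - Mx j0 x0 = -1 := by
    have h1 := hP' hnr
    omega
  have hval : ∀ l, Mx l x0 = Mx i0 x0 ∨ Mx l x0 = Mx j0 x0 := by
    intro l
    by_cases h1 : r l i0
    · exact Or.inl (hP h1)
    by_cases h2 : r l j0
    · exact Or.inr (hP h2)
    have h3 := hP' h1
    have h4 := hP' h2
    omega
  have hstruct : ∃ (i' : ι) (ε' c' : ℤ), (ε' = 1 ∨ ε' = -1) ∧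
      ∀ l, Mx l x0 = c' + (if r l i' then ε' else 0) := by
    by_cases hA : ∀ l, Mx l x0 = Mx i0 x0 → r l i0
    · refine ⟨i0, Mx i0 x0 - Mx j0 x0, Mx j0 x0, hab, fun l => ?_⟩
      by_cases h : r l i0
      · rw [if_pos h, hP h]; ring
      · rw [if_neg h, add_zero]
        rcases hval l with h1 | h1
        · exact absurd (hA l h1) h
        · exact h1
    by_cases hB : ∀ l, Mx l x0 = Mx j0 x0 → r l j0
    · refine ⟨j0, Mx j0 x0 - Mx i0 x0, Mx i0 x0, by omega, fun l => ?_⟩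
      by_cases h : r l j0
      · rw [if_pos h, hP h]; ring
      · rw [if_neg h, add_zero]
        rcases hval l with h1 | h1
        · exact h1
        · exact absurd (hB l h1) h
    exfalso
    push Not at hA hB
    obtain ⟨l1, hl1, hl1r⟩ := hA
    obtain ⟨l2, hl2, hl2r⟩ := hB
    have h4 := star_four r hr Mx e hG1 hG0 (i1 := i0) (i2 := l1) (j1 := j0) (j2 := l2)
      (fun h => hl1r (hr.symm h)) hnr (fun h => hne (by rw [hP h, hl2]))
      (fun h => hne (by rw [← hl1]; exact hP h))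
      (fun h => hne (by rw [← hl1, ← hl2]; exact hP h))
      (fun h => hl2r (hr.symm h)) x0
    obtain ⟨h41, h42⟩ := h4
    omega
  obtain ⟨i', ε', c', hε', hform⟩ := hstruct
  have hx01 : x0 ≠ x₁ := by
    intro h
    apply hne
    rw [h, hx₁, hx₁]
  have hc0 : c' = 0 := by
    have hcls' : ∀ i : ι, (Finset.univ.filter (fun j => r i j)).card ≤ c := by
      intro i
      have h1 := hcls i
      rwa [Nat.card_eq_fintype_card, Fintype.card_subtype] at h1
    have hbig' : (e + 1) * c < Fintype.card ι := by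
      rw [← Nat.card_eq_fintype_card, mul_comm]
      exact hbig
    obtain ⟨J, hJc, hJi, hJp⟩ := star_greedy r hr c hcls' i' (e + 1) hbig'
    obtain ⟨T, hT⟩ : ∃ T : X → ℤ, ∀ y, T y = ∑ j ∈ J, Mx j y := ⟨_, fun _ => rfl⟩
    obtain ⟨Y, hY⟩ : ∃ Y : X → ℤ, ∀ y, Y y = ((e : ℤ) + 1) * Mx i' y - T y := ⟨_, fun _ => rfl⟩
    have huu : ∑ y, Mx i' y * Mx i' y = (e : ℤ) + 1 := hG1 i' i' (hr.refl i')
    have huT : ∑ y, Mx i' y * T y = ((e : ℤ) + 1) * e := by
      simp only [hT, Finset.mul_sum]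
      rw [Finset.sum_comm]
      rw [Finset.sum_congr rfl (fun j hj => hG0 i' j (fun h => hJi j hj (hr.symm h)))]
      rw [Finset.sum_const, hJc, nsmul_eq_mul]
      push_cast
      ring
    have hTT : ∑ y, T y * T y = ((e : ℤ) + 1) * (((e : ℤ) + 1) * e + 1) := by
      have h1 : ∀ y, T y * T y = ∑ j ∈ J, ∑ k ∈ J, Mx j y * Mx k y := fun y => by
        rw [hT, Finset.sum_mul_sum]
      simp only [h1]
      rw [Finset.sum_comm]
      have h2 : ∀ j ∈ J, ∑ y, ∑ k ∈ J, Mx j y * Mx k y = ((e : ℤ) + 1) * e + 1 := by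
        intro j hj
        rw [Finset.sum_comm]
        have h3 : ∀ k ∈ J, ∑ y, Mx j y * Mx k y = (e : ℤ) + (if j = k then 1 else 0) := by
          intro k hk
          by_cases hjk : j = k
          · rw [if_pos hjk, hG1 j k (hjk ▸ hr.refl j)]
          · rw [if_neg hjk, add_zero, hG0 j k (fun h => hjk (hJp j hj k hk h))]
        rw [Finset.sum_congr rfl h3, Finset.sum_add_distrib, Finset.sum_const,
          Finset.sum_ite_eq, if_pos hj, hJc, nsmul_eq_mul]
        push_cast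
        ring
      rw [Finset.sum_congr rfl h2, Finset.sum_const, hJc, nsmul_eq_mul]
      push_cast
      ring
    have huY : ∑ y, Mx i' y * Y y = (e : ℤ) + 1 := by
      have hexp : ∀ y, Mx i' y * Y y = ((e : ℤ) + 1) * (Mx i' y * Mx i' y) - Mx i' y * T y :=
        fun y => by rw [hY]; ring
      simp only [hexp, Finset.sum_sub_distrib, ← Finset.mul_sum]
      rw [huu, huT]
      ring
    have hYY : ∑ y, Y y ^ 2 = ((e : ℤ) + 1) ^ 2 + ((e : ℤ) + 1) := by
      have hexp : ∀ y, Y y ^ 2 = ((e : ℤ) + 1) ^ 2 * (Mx i' y * Mx i' y)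
          - 2 * ((e : ℤ) + 1) * (Mx i' y * T y) + T y * T y := fun y => by rw [hY]; ring
      simp only [hexp, Finset.sum_add_distrib, Finset.sum_sub_distrib, ← Finset.mul_sum]
      rw [huu, huT, hTT]
      ring
    have huu2 : ∑ y, Mx i' y ^ 2 = (e : ℤ) + 1 := by
      rw [← huu]
      exact Finset.sum_congr rfl (fun y _ => sq (Mx i' y))
    have hux0 : Mx i' x0 = c' + ε' := by rw [hform i', if_pos (hr.refl i')]
    have hTx0 : T x0 = ((e : ℤ) + 1) * c' := by
      rw [hT, Finset.sum_congr rfl (fun j hj => by rw [hform j, if_neg (hJi j hj), add_zero]),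
        Finset.sum_const, hJc, nsmul_eq_mul]
      push_cast
      ring
    have hTx1 : T x₁ = -((e : ℤ) + 1) := by
      rw [hT, Finset.sum_congr rfl (fun j _ => hx₁ j), Finset.sum_const, hJc, nsmul_eq_mul]
      push_cast
      ring
    have hYx0 : Y x0 = ((e : ℤ) + 1) * ε' := by rw [hY, hux0, hTx0]; ring
    have hYx1 : Y x₁ = 0 := by rw [hY, hx₁, hTx1]; ring
    have hsplit : ∀ f : X → ℤ,
        ∑ y, f y = f x0 + (f x₁ + ∑ y ∈ (Finset.univ.erase x0).erase x₁, f y) := by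
      intro f
      rw [Finset.add_sum_erase _ f (Finset.mem_erase.mpr ⟨hx01.symm, Finset.mem_univ _⟩),
        Finset.add_sum_erase _ f (Finset.mem_univ x0)]
    have hCS := Finset.sum_mul_sq_le_sq_mul_sq ((Finset.univ.erase x0).erase x₁)
      (fun y => Mx i' y) Y
    have hA := hsplit (fun y => Mx i' y * Y y)
    have hB := hsplit (fun y => Mx i' y ^ 2)
    have hC := hsplit (fun y => Y y ^ 2)
    rw [huY, hux0, hYx0, hx₁, hYx1] at hA
    rw [huu2, hux0, hx₁] at hB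
    rw [hYY, hYx0, hYx1] at hC
    have hE : (0 : ℤ) < (e : ℤ) + 1 := by positivity
    have he0 : (0 : ℤ) ≤ (e : ℤ) := by positivity
    by_contra hc
    have hc1 : 1 ≤ c' ^ 2 := by
      have : c' ≤ -1 ∨ 1 ≤ c' := by omega
      rcases this with h | h <;> nlinarith
    have hε2 : ε' ^ 2 = 1 := by rcases hε' with h | h <;> rw [h] <;> norm_num
    obtain ⟨a, ha⟩ : ∃ a : ℤ, a = ∑ y ∈ (Finset.univ.erase x0).erase x₁, Mx i' y * Y y := ⟨_, rfl⟩
    obtain ⟨b, hb⟩ : ∃ b : ℤ, b = ∑ y ∈ (Finset.univ.erase x0).erase x₁, Mx i' y ^ 2 := ⟨_, rfl⟩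
    obtain ⟨d, hd⟩ : ∃ d : ℤ, d = ∑ y ∈ (Finset.univ.erase x0).erase x₁, Y y ^ 2 := ⟨_, rfl⟩
    rw [← ha] at hA hCS
    rw [← hb] at hB hCS
    rw [← hd] at hC hCS
    have ha' : a = -(((e : ℤ) + 1) * (c' * ε')) := by
      have : (c' + ε') * (((e : ℤ) + 1) * ε') = ((e : ℤ) + 1) * (c' * ε') + ((e : ℤ) + 1) * ε' ^ 2 := by
        ring
      rw [hε2] at this
      linarith
    have hb' : b = (e : ℤ) - (c' + ε') ^ 2 := by linarith
    have hd' : d = (e : ℤ) + 1 := by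
      have : (((e : ℤ) + 1) * ε') ^ 2 = ((e : ℤ) + 1) ^ 2 * ε' ^ 2 := by ring
      rw [hε2] at this
      linarith
    have ha2 : a ^ 2 = ((e : ℤ) + 1) * c' ^ 2 * ((e : ℤ) + 1) := by
      rw [ha']
      have : (-(((e : ℤ) + 1) * (c' * ε'))) ^ 2 = ((e : ℤ) + 1) * c' ^ 2 * ((e : ℤ) + 1) * ε' ^ 2 := by
        ring
      rw [this, hε2, mul_one]
    rw [ha2, hb', hd'] at hCS
    have h5 : ((e : ℤ) + 1) * c' ^ 2 ≤ (e : ℤ) - (c' + ε') ^ 2 := le_of_mul_le_mul_right hCS hE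
    have h6 : (0 : ℤ) ≤ (c' + ε') ^ 2 := sq_nonneg _
    nlinarith
  refine ⟨i', ε', hε', fun i hi => ?_, fun i hi => ?_⟩
  · rw [hform i, if_pos hi, hc0, zero_add]
  · rw [hform i, if_neg hi, hc0, add_zero]

end Cfsg.Agent.Lib.helper57
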