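import Mathlib
import Cfsg.Agent.Lib.helper44.SUWDefs

/-!
# S2335 piece ANISO: a non-zero skew-Hermitian matrix has a non-isotropic vector
-/

set_option autoImplicit false

namespace Cfsg.Agent.Lib.helper44.SUW

open Matrix

/-- The map `x ↦ x ^ q` of a field with `q ^ 2` elements moves some element. -/
theorem h57_exists_not_fixed {K : Type*} [Field K] [Fintype K] {q : ℕ}
    (hK : Fintype.card K = q ^ 2) : ∃ μ : K, μ ^ q ≠ μ := by
  classical
  by_contra hcon
  push Not at hcon
  have hq2 : 2 ≤ q := by
    have h1 : 1 < Fintype.card K := Fintype.one_lt_card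
    rw [hK] at h1
    by_contra h
    have h2 : q ≤ 1 := by omega
    have h3 : q ^ 2 ≤ 1 ^ 2 := Nat.pow_le_pow_left h2 2
    omega
  have hne : (Polynomial.X ^ q - Polynomial.X : Polynomial K) ≠ 0 :=
    FiniteField.X_pow_card_sub_X_ne_zero K (by omega)
  have hsub : (Finset.univ : Finset K) ⊆
      (Polynomial.X ^ q - Polynomial.X : Polynomial K).roots.toFinset := by
    intro x _
    rw [Multiset.mem_toFinset, Polynomial.mem_roots hne]
    simp [Polynomial.IsRoot, hcon x]
  have h1 : Fintype.card K ≤ q := by
    calc Fintype.card K = (Finset.univ : Finset K).card := Finset.card_univ.symm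
      _ ≤ (Polynomial.X ^ q - Polynomial.X : Polynomial K).roots.toFinset.card :=
          Finset.card_le_card hsub
      _ ≤ Multiset.card (Polynomial.X ^ q - Polynomial.X : Polynomial K).roots :=
          Multiset.toFinset_card_le _
      _ ≤ (Polynomial.X ^ q - Polynomial.X : Polynomial K).natDegree :=
          Polynomial.card_roots' _
      _ = q := FiniteField.X_pow_card_sub_X_natDegree_eq K (by omega)
  rw [hK] at h1
  nlinarith

/-- ANISO (S/M) -/
theorem exists_aniso {K : Type*} [Field K] [Fintype K] {q m : ℕ} (hK : Fintype.card K = q ^ 2)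
    (σ : K →+* K) (hσ : ∀ x, σ x = x ^ q) (Y : Matrix (Fin m) (Fin m) K) (hY : Y ∈ skewH σ m)
    (hY0 : Y ≠ 0) : ∃ v : Fin m → K, hval σ Y v ≠ 0 := by
  classical
  by_cases hdiag : ∃ i, Y i i ≠ 0
  · obtain ⟨i, hi⟩ := hdiag
    refine ⟨Pi.single i 1, ?_⟩
    have h1 : hval σ Y (Pi.single i 1) = Y i i := by
      unfold hval
      rw [Finset.sum_eq_single i, Finset.sum_eq_single i]
      · simp
      · intro j _ hj
        simp [Pi.single_eq_of_ne hj]
      · intro h
        exact absurd (Finset.mem_univ i) h
      · intro k _ hk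
        apply Finset.sum_eq_zero
        intro j _
        simp [Pi.single_eq_of_ne hk]
      · intro h
        exact absurd (Finset.mem_univ i) h
    rw [h1]
    exact hi
  · push Not at hdiag
    obtain ⟨i, j, hij⟩ : ∃ i j, Y i j ≠ 0 := by
      by_contra h
      push Not at h
      exact hY0 (Matrix.ext (fun i j => h i j))
    have hne : i ≠ j := by
      rintro rfl
      exact hij (hdiag i)
    obtain ⟨μ, hμ⟩ := h57_exists_not_fixed hK
    have key : ∀ v : Fin m → K, v i = 1 → v j = μ / Y i j →
        (∀ k, k ≠ i → k ≠ j → v k = 0) → hval σ Y v = μ - σ μ := by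
      intro v hvi hvj hvk
      unfold hval
      have inner : ∀ k, ∑ l, σ (v k) * Y k l * v l =
          σ (v k) * Y k i + σ (v k) * Y k j * (μ / Y i j) := by
        intro k
        rw [Finset.sum_eq_add i j hne]
        · rw [hvi, hvj, mul_one]
        · intro l _ hl
          rw [hvk l hl.1 hl.2, mul_zero]
        · intro h
          exact absurd (Finset.mem_univ i) h
        · intro h
          exact absurd (Finset.mem_univ j) h
      rw [Finset.sum_congr rfl (fun k _ => inner k), Finset.sum_eq_add i j hne]
      · rw [hvi, hvj, map_one, hdiag i, hdiag j]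
        have hji : Y j i = - σ (Y i j) := by rw [hY i j, neg_neg]
        have hσij : σ (Y i j) ≠ 0 := (map_ne_zero σ).mpr hij
        rw [hji, map_div₀]
        field_simp
        ring
      · intro k _ hk
        rw [hvk k hk.1 hk.2, map_zero]
        ring
      · intro h
        exact absurd (Finset.mem_univ i) h
      · intro h
        exact absurd (Finset.mem_univ j) h
    refine ⟨Pi.single i 1 + Pi.single j (μ / Y i j), ?_⟩
    rw [key _ (by simp [Pi.single_eq_of_ne hne])
      (by simp [Pi.single_eq_of_ne (Ne.symm hne)])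
      (by intro k hki hkj; simp [Pi.single_eq_of_ne hki, Pi.single_eq_of_ne hkj]), hσ]
    intro h
    exact hμ (sub_eq_zero.mp h).symm

end Cfsg.Agent.Lib.helper44.SUW
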