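import Mathlib
import Cfsg.Agent.Lib.helper3.GfDefs

/-!
# S4395 piece CARDK: `|K| = |P| * q ^ r` for a cover `Cov p q r N P y`
-/

set_option autoImplicit false

namespace Cfsg.Agent.Lib.helper3.Gf

/-- CARDK -/
theorem cardk (p q r : ℕ) [Fact p.Prime] [Fact q.Prime] {K : Type*} [Group K] [Finite K]
    (N P : Subgroup K) (y : K) (h : Cov p q r N P y) : Nat.card K = Nat.card ↥P * q ^ r := by
  have hPn : P.Normal := h.P_normal
  have hord : orderOf (QuotientGroup.mk y : K ⧸ P) = q ^ r := by
    apply Nat.dvd_antisymm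
    · apply orderOf_dvd_of_pow_eq_one
      rw [← QuotientGroup.mk_pow, QuotientGroup.eq_one_iff]
      exact h.ord_mem
    · apply h.ord_dvd
      rw [← QuotientGroup.eq_one_iff, QuotientGroup.mk_pow]
      exact pow_orderOf_eq_one _
  have hgen : Subgroup.zpowers (QuotientGroup.mk y : K ⧸ P) = ⊤ := by
    have h2 : (P ⊔ Subgroup.zpowers y).map (QuotientGroup.mk' P) = ⊤ := by
      rw [h.sup_top, ← MonoidHom.range_eq_map, MonoidHom.range_eq_top]
      exact QuotientGroup.mk'_surjective P
    rw [Subgroup.map_sup] at h2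
    have h3 : P.map (QuotientGroup.mk' P) = ⊥ := QuotientGroup.map_mk'_self P
    rw [h3, bot_sup_eq, MonoidHom.map_zpowers] at h2
    exact h2
  have hcardQ : Nat.card (K ⧸ P) = q ^ r := by
    rw [← hord, ← Nat.card_zpowers, hgen, Subgroup.card_top]
  rw [Subgroup.card_eq_card_quotient_mul_card_subgroup P, hcardQ, mul_comm]

end Cfsg.Agent.Lib.helper3.Gf
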