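import Mathlib
import Cfsg.Prelude.Def_LieTypeChar
import Cfsg.Agent.Lib.helper44.LODefs
import Cfsg.Agent.S1063

/-!
# S2363, piece E6 (core): the order bound for `E_6(q)`, with the statement of ARITH (`lo_good`)
as a hypothesis
-/

set_option autoImplicit false

namespace Cfsg.Agent.Lib.helper44.LO

open Cfsg

/-- `p ∤ q ^ j - 1` when `p ∣ q`. -/
theorem h57_not_dvd_pow_sub_one {p q : ℕ} (hp : p.Prime) (hpq : p ∣ q) (hq : 1 ≤ q) (j : ℕ)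
    (hj : 1 ≤ j) : ¬ p ∣ q ^ j - 1 := by
  intro h
  have h1 : p ∣ q ^ j := dvd_pow hpq (by omega)
  have h2 : 1 ≤ q ^ j := Nat.one_le_pow _ _ hq
  have h3 : p ∣ q ^ j - (q ^ j - 1) := Nat.dvd_sub h1 h
  have h4 : q ^ j - (q ^ j - 1) = 1 := by omega
  rw [h4] at h3
  exact hp.one_lt.ne' (Nat.dvd_one.1 h3)

/-- `q ^ j - 1 < q ^ j`. -/
theorem h57_pow_sub_one_lt {q : ℕ} (hq : 1 ≤ q) (j : ℕ) : q ^ j - 1 < q ^ j :=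
  Nat.sub_lt (Nat.one_le_pow _ _ hq) Nat.one_pos

/-- E6, with the statement of `lo_good` as a hypothesis. -/
theorem h57_lo_e6_core {F : Type} [Field F] [Fintype F] (p : ℕ) (hp : p.Prime) [CharP F p]
    (hgood : ∀ (f : ℕ), 1 ≤ f → ∀ (c n N M e : ℕ), c * n = (p ^ f) ^ N * M → ¬ p ∣ c → ¬ p ∣ M →
      M < c * (p ^ f) ^ e → e ≤ 2 * N → 3 * e ≤ 5 * N → LOGood p n) :
    LOGood p (Nat.card ↥(Cfsg.Lie.chevE6.group F)) := by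
  obtain ⟨f, _, hcard⟩ := FiniteField.card F p
  have hf : 1 ≤ (f : ℕ) := f.pos
  have hres := Cfsg.Agent.S1063.result (F := F) (q := p ^ (f : ℕ)) hcard
  have hq1 : 1 ≤ p ^ (f : ℕ) := Nat.one_le_pow _ _ hp.pos
  have hpq : p ∣ p ^ (f : ℕ) := dvd_pow_self p (by omega)
  have hnd := h57_not_dvd_pow_sub_one hp hpq hq1
  have hlt := h57_pow_sub_one_lt hq1
  refine hgood (f : ℕ) hf (Nat.gcd 3 (p ^ (f : ℕ) - 1)) _ 36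
    (((p ^ (f : ℕ)) ^ 2 - 1) * ((p ^ (f : ℕ)) ^ 5 - 1) * ((p ^ (f : ℕ)) ^ 6 - 1)
      * ((p ^ (f : ℕ)) ^ 8 - 1) * ((p ^ (f : ℕ)) ^ 9 - 1) * ((p ^ (f : ℕ)) ^ 12 - 1)) 42
    ?_ ?_ ?_ ?_ (by norm_num) (by norm_num)
  · rw [hres]
    simp only [mul_assoc]
  · intro h
    have h1 : p ∣ p ^ (f : ℕ) - 1 := h.trans (Nat.gcd_dvd_right _ _)
    have h2 := hnd 1 le_rfl
    rw [pow_one] at h2
    exact h2 h1
  · intro h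
    have n2 := hnd 2 (by norm_num)
    have n5 := hnd 5 (by norm_num)
    have n6 := hnd 6 (by norm_num)
    have n8 := hnd 8 (by norm_num)
    have n9 := hnd 9 (by norm_num)
    have n12 := hnd 12 (by norm_num)
    simp only [Nat.Prime.dvd_mul hp] at h
    rcases h with ((((h | h) | h) | h) | h) | h <;> contradiction
  · have hg : 1 ≤ Nat.gcd 3 (p ^ (f : ℕ) - 1) := Nat.gcd_pos_of_pos_left _ (by norm_num)
    have hM : ((p ^ (f : ℕ)) ^ 2 - 1) * ((p ^ (f : ℕ)) ^ 5 - 1) * ((p ^ (f : ℕ)) ^ 6 - 1)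
        * ((p ^ (f : ℕ)) ^ 8 - 1) * ((p ^ (f : ℕ)) ^ 9 - 1) * ((p ^ (f : ℕ)) ^ 12 - 1)
        < (p ^ (f : ℕ)) ^ 2 * (p ^ (f : ℕ)) ^ 5 * (p ^ (f : ℕ)) ^ 6 * (p ^ (f : ℕ)) ^ 8
          * (p ^ (f : ℕ)) ^ 9 * (p ^ (f : ℕ)) ^ 12 :=
      Nat.mul_lt_mul'' (Nat.mul_lt_mul'' (Nat.mul_lt_mul'' (Nat.mul_lt_mul''
        (Nat.mul_lt_mul'' (hlt 2) (hlt 5)) (hlt 6)) (hlt 8)) (hlt 9)) (hlt 12)
    have h42 : (p ^ (f : ℕ)) ^ 2 * (p ^ (f : ℕ)) ^ 5 * (p ^ (f : ℕ)) ^ 6 * (p ^ (f : ℕ)) ^ 8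
          * (p ^ (f : ℕ)) ^ 9 * (p ^ (f : ℕ)) ^ 12 = (p ^ (f : ℕ)) ^ 42 := by
      ring
    rw [h42] at hM
    calc _ < (p ^ (f : ℕ)) ^ 42 := hM
      _ = 1 * (p ^ (f : ℕ)) ^ 42 := (one_mul _).symm
      _ ≤ Nat.gcd 3 (p ^ (f : ℕ) - 1) * (p ^ (f : ℕ)) ^ 42 := Nat.mul_le_mul_right _ hg

end Cfsg.Agent.Lib.helper44.LO
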