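import Mathlib
import Cfsg.Prelude.Def_Solvable
import Cfsg.Prelude.Def_Transfer
import Cfsg.Prelude.Def_BaumannBlocks
import Cfsg.Agent.Lib.helper12.Conj
import Cfsg.Agent.Lib.helper12.ProdCard
import Cfsg.Agent.Lib.helper12.SylowNormal
import Cfsg.Agent.Lib.helper27.Radical
import Cfsg.Agent.Lib.helper2.Schmidt
import Cfsg.Agent.S0008
import Cfsg.Agent.S0044
import Cfsg.Agent.S0065
import Cfsg.Agent.S0559
import Cfsg.Agent.S0561
import Cfsg.Agent.S0562

/-!
# General lemmas for the Kegel–Wielandt theorem (coprime nilpotent factors)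

* `rpart N r`: the subgroup generated by the `r`-elements of `N`; for nilpotent `N` it is the Sylow
  `r`-subgroup of `N`.
* Hall-type containment lemmas, invariant Sylow subgroups under a coprime-like action, a Fitting
  package for solvable subgroups, the `r`-residual of a nilpotent group.
-/

set_option autoImplicit false
set_option linter.style.haveILetI false
open Pointwise

namespace Cfsg.Agent.Lib.helper57

variable {G : Type*} [Group G]

/-! ### Nilpotent subgroups -/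

theorem kw_isNilpotent_of_le {X A : Subgroup G} (hA : Group.IsNilpotent A) (h : X ≤ A) :
    Group.IsNilpotent X :=
  Group.nilpotent_of_mulEquiv (Subgroup.subgroupOfEquivOfLe h)

theorem kw_isNilpotent_conj {N : Subgroup G} (hN : Group.IsNilpotent N) (g : G) :
    Group.IsNilpotent (MulAut.conj g • N : Subgroup G) :=
  Group.nilpotent_of_mulEquiv (Subgroup.equivSMul (MulAut.conj g) N)

/-! ### The `r`-part of a subgroup -/

/-- the subgroup generated by the `r`-elements of `N` -/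
def rpart (N : Subgroup G) (r : ℕ) : Subgroup G :=
  Subgroup.closure {x | x ∈ N ∧ ∃ k : ℕ, x ^ r ^ k = 1}

theorem rpart_le (N : Subgroup G) (r : ℕ) : rpart N r ≤ N :=
  (Subgroup.closure_le N).2 fun _ hx => hx.1

theorem mem_rpart_of (N : Subgroup G) (r : ℕ) {x : G} (hx : x ∈ N) {k : ℕ} (hk : x ^ r ^ k = 1) :
    x ∈ rpart N r :=
  Subgroup.subset_closure ⟨hx, k, hk⟩

theorem rpart_eq_map_sylow [Finite G] {N : Subgroup G} (hN : Group.IsNilpotent N) {r : ℕ}
    [Fact r.Prime] (P : Sylow r N) : rpart N r = (P : Subgroup N).map N.subtype := by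
  apply le_antisymm
  · refine (Subgroup.closure_le _).2 ?_
    rintro x ⟨hx, k, hk⟩
    have hPn : (P : Subgroup N).Normal := inferInstance
    haveI := Sylow.unique_of_normal P hPn
    have ho : orderOf (⟨x, hx⟩ : N) ∣ r ^ k :=
      orderOf_dvd_of_pow_eq_one (Subtype.ext (by simpa using hk))
    obtain ⟨j, -, hj⟩ := (Nat.dvd_prime_pow Fact.out).1 ho
    have hz : IsPGroup r (Subgroup.zpowers (⟨x, hx⟩ : N)) :=
      IsPGroup.of_card ((Nat.card_zpowers _).trans hj)
    obtain ⟨Q, hQ⟩ := hz.exists_le_sylow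
    have hQP : Q = P := Subsingleton.elim _ _
    exact ⟨⟨x, hx⟩, hQP ▸ hQ (Subgroup.mem_zpowers _), rfl⟩
  · rintro _ ⟨y, hy, rfl⟩
    obtain ⟨k, hk⟩ := P.isPGroup' ⟨y, hy⟩
    refine mem_rpart_of N r y.2 (k := k) ?_
    have h1 : y ^ r ^ k = 1 := by simpa using congrArg Subtype.val hk
    simpa using congrArg Subtype.val h1

theorem mem_rpart_iff [Finite G] {N : Subgroup G} (hN : Group.IsNilpotent N) {r : ℕ}
    (hr : r.Prime) {x : G} : x ∈ rpart N r ↔ x ∈ N ∧ ∃ k : ℕ, x ^ r ^ k = 1 := by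
  haveI : Fact r.Prime := ⟨hr⟩
  constructor
  · intro hx
    obtain ⟨P⟩ : Nonempty (Sylow r N) := inferInstance
    rw [rpart_eq_map_sylow hN P] at hx
    obtain ⟨y, hy, rfl⟩ := hx
    obtain ⟨k, hk⟩ := P.isPGroup' ⟨y, hy⟩
    have h1 : y ^ r ^ k = 1 := by simpa using congrArg Subtype.val hk
    exact ⟨y.2, k, by simpa using congrArg Subtype.val h1⟩
  · rintro ⟨hx, k, hk⟩
    exact mem_rpart_of N r hx hk

theorem rpart_isPGroup [Finite G] {N : Subgroup G} (hN : Group.IsNilpotent N) {r : ℕ}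
    (hr : r.Prime) : IsPGroup r (rpart N r) := by
  rintro ⟨x, hx⟩
  obtain ⟨-, k, hk⟩ := (mem_rpart_iff hN hr).1 hx
  exact ⟨k, Subtype.ext (by simpa using hk)⟩

theorem not_dvd_relIndex_rpart [Finite G] {N : Subgroup G} (hN : Group.IsNilpotent N) {r : ℕ}
    (hr : r.Prime) : ¬ r ∣ (rpart N r).relIndex N := by
  haveI : Fact r.Prime := ⟨hr⟩
  obtain ⟨P⟩ : Nonempty (Sylow r N) := inferInstance
  rw [rpart_eq_map_sylow hN P]
  have h1 : ((P : Subgroup N).map N.subtype).subgroupOf N = (P : Subgroup N) :=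
    Subgroup.comap_map_eq_self_of_injective (Subgroup.subtype_injective N) _
  show ¬ r ∣ (((P : Subgroup N).map N.subtype).subgroupOf N).index
  rw [h1]
  exact P.not_dvd_index

theorem rpart_ne_bot [Finite G] {N : Subgroup G} {r : ℕ} (hr : r.Prime) (hd : r ∣ Nat.card N) :
    rpart N r ≠ ⊥ := by
  haveI : Fact r.Prime := ⟨hr⟩
  obtain ⟨x, hx⟩ := exists_prime_orderOf_dvd_card' r hd
  intro h
  have h0 : (x : G) ^ r ^ 1 = 1 := by
    have : x ^ r = 1 := by rw [← hx, pow_orderOf_eq_one]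
    simpa using congrArg Subtype.val this
  have h1 : (x : G) ∈ rpart N r := mem_rpart_of N r x.2 h0
  rw [h, Subgroup.mem_bot] at h1
  have h2 : x = 1 := Subtype.ext h1
  rw [h2, orderOf_one] at hx
  exact hr.one_lt.ne hx

theorem not_dvd_card_of_rpart_eq_bot [Finite G] {N : Subgroup G} {r : ℕ} (hr : r.Prime)
    (h : rpart N r = ⊥) : ¬ r ∣ Nat.card N :=
  fun hd => rpart_ne_bot hr hd h

theorem normalizer_le_normalizer_rpart [Finite G] {N : Subgroup G} (hN : Group.IsNilpotent N)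
    {r : ℕ} (hr : r.Prime) :
    Subgroup.normalizer (N : Set G) ≤ Subgroup.normalizer (rpart N r : Set G) := by
  intro g hg
  rw [Subgroup.mem_normalizer_iff]
  intro h
  rw [mem_rpart_iff hN hr, mem_rpart_iff hN hr, ← Subgroup.mem_normalizer_iff.1 hg h]
  simp only [conj_pow, conj_eq_one_iff]

theorem le_normalizer_rpart [Finite G] {N : Subgroup G} (hN : Group.IsNilpotent N)
    {r : ℕ} (hr : r.Prime) : N ≤ Subgroup.normalizer (rpart N r : Set G) :=
  Subgroup.le_normalizer.trans (normalizer_le_normalizer_rpart hN hr)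

theorem conj_mem_rpart_smul [Finite G] {N : Subgroup G} (hN : Group.IsNilpotent N) {r : ℕ}
    (hr : r.Prime) (g : G) {x : G} (hx : x ∈ rpart N r) :
    g * x * g⁻¹ ∈ rpart (MulAut.conj g • N) r := by
  obtain ⟨hxN, k, hk⟩ := (mem_rpart_iff hN hr).1 hx
  exact mem_rpart_of _ r (Cfsg.Agent.Lib.helper12.conj_mem_conj_smul g hxN) (k := k)
    (by rw [conj_pow, hk, mul_one, mul_inv_cancel])

theorem inv_conj_mem_rpart_of_smul [Finite G] {N : Subgroup G} (hN : Group.IsNilpotent N) {r : ℕ}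
    (hr : r.Prime) (g : G) {x : G} (hx : x ∈ rpart (MulAut.conj g • N) r) :
    g⁻¹ * x * g ∈ rpart N r := by
  obtain ⟨hxN, k, hk⟩ := (mem_rpart_iff (kw_isNilpotent_conj hN g) hr).1 hx
  refine mem_rpart_of _ r (Cfsg.Agent.Lib.helper12.mem_conj_smul_iff.1 hxN) (k := k) ?_
  have := conj_pow (i := r ^ k) (a := g⁻¹) (b := x)
  rw [inv_inv] at this
  rw [this, hk, mul_one, inv_mul_cancel]

theorem exists_sylow_eq_rpart [Finite G] {N : Subgroup G} (hN : Group.IsNilpotent N) {r : ℕ}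
    [Fact r.Prime] (h : ¬ r ∣ N.index) : ∃ P : Sylow r G, (P : Subgroup G) = rpart N r := by
  have h1 : ¬ r ∣ (rpart N r).index := by
    rw [← Subgroup.relIndex_mul_index (rpart_le N r)]
    exact Nat.Prime.not_dvd_mul Fact.out (not_dvd_relIndex_rpart hN Fact.out) h
  exact ⟨(rpart_isPGroup hN Fact.out).toSylow h1, IsPGroup.toSylow_coe _ _⟩

theorem rpart_card_coprime_index [Finite G] {N : Subgroup G} (hN : Group.IsNilpotent N) {r : ℕ}
    (hr : r.Prime) (h : ¬ r ∣ N.index) : (Nat.card (rpart N r)).Coprime (rpart N r).index := by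
  haveI : Fact r.Prime := ⟨hr⟩
  obtain ⟨P, hP⟩ := exists_sylow_eq_rpart hN h
  rw [← hP]
  exact P.card_coprime_index

/-- elements of the `p`-part and the `q`-part of a nilpotent subgroup commute -/
theorem rpart_commute [Finite G] {N : Subgroup G} (hN : Group.IsNilpotent N) {p q : ℕ}
    (hp : p.Prime) (hq : q.Prime) (hpq : p ≠ q) {x y : G} (hx : x ∈ rpart N p)
    (hy : y ∈ rpart N q) : x * y = y * x := by
  haveI : Fact p.Prime := ⟨hp⟩
  haveI : Fact q.Prime := ⟨hq⟩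
  exact Cfsg.Agent.Lib.helper2.commute_of_le_isNilpotent N hN hpq (rpart N p) (rpart N q)
    (rpart_le N p) (rpart_le N q) (rpart_isPGroup hN hp) (rpart_isPGroup hN hq) x hx y hy

/-- a subgroup of a nilpotent group containing all its `s`-parts is everything -/
theorem le_of_forall_rpart_le [Finite G] {N J : Subgroup G} (hN : Group.IsNilpotent N)
    (h : ∀ s : ℕ, s.Prime → rpart N s ≤ J) : N ≤ J := by
  rw [← Subgroup.relIndex_eq_one]
  by_contra hne
  obtain ⟨s, hs, hsd⟩ := Nat.exists_prime_and_dvd hne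
  have h1 : J.relIndex N ∣ (rpart N s).relIndex N := Subgroup.relIndex_dvd_of_le_left N (h s hs)
  exact not_dvd_relIndex_rpart hN hs (hsd.trans h1)

/-! ### Normalizers -/

theorem le_normalizer_of_conj_mem {S H : Subgroup G}
    (h : ∀ g ∈ S, ∀ x ∈ H, g * x * g⁻¹ ∈ H) : S ≤ Subgroup.normalizer (H : Set G) := by
  intro g hg
  rw [Subgroup.mem_normalizer_iff]
  intro x
  refine ⟨h g hg x, fun hx => ?_⟩
  have := h g⁻¹ (S.inv_mem hg) _ hx
  simpa [mul_assoc] using this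

theorem mem_normalizer_of_conj_mem [Finite G] {H : Subgroup G} {g : G}
    (h : ∀ x ∈ H, g * x * g⁻¹ ∈ H) : g ∈ Subgroup.normalizer (H : Set G) := by
  apply Cfsg.Agent.Lib.helper12.mem_normalizer_of_conj_smul_le
  intro y hy
  have h1 := h _ (Cfsg.Agent.Lib.helper12.mem_conj_smul_iff.1 hy)
  simpa [mul_assoc] using h1

theorem conj_mem_of_mem_normalizer {H : Subgroup G} {g x : G}
    (hg : g ∈ Subgroup.normalizer (H : Set G)) (hx : x ∈ H) : g * x * g⁻¹ ∈ H :=
  (Subgroup.mem_normalizer_iff.1 hg x).1 hx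

theorem inv_conj_mem_of_mem_normalizer {H : Subgroup G} {g x : G}
    (hg : g ∈ Subgroup.normalizer (H : Set G)) (hx : x ∈ H) : g⁻¹ * x * g ∈ H := by
  have := conj_mem_of_mem_normalizer (inv_mem hg) hx
  simpa using this

/-! ### Hall-type containments -/

/-- an element normalizing `A` whose order is prime to the index of `A` lies in `A` -/
theorem mem_of_mem_normalizer_of_coprime [Finite G] {A : Subgroup G} {x : G}
    (hx : x ∈ Subgroup.normalizer (A : Set G)) (hc : (orderOf x).Coprime A.index) : x ∈ A := by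
  haveI : (A.subgroupOf (Subgroup.normalizer (A : Set G))).Normal := Subgroup.normal_in_normalizer
  have h1 : orderOf (QuotientGroup.mk' (A.subgroupOf (Subgroup.normalizer (A : Set G)))
      ⟨x, hx⟩) ∣ orderOf x := by
    have := orderOf_map_dvd (QuotientGroup.mk' (A.subgroupOf (Subgroup.normalizer (A : Set G))))
      (⟨x, hx⟩ : Subgroup.normalizer (A : Set G))
    rwa [Subgroup.orderOf_mk] at this
  have h2 : orderOf (QuotientGroup.mk' (A.subgroupOf (Subgroup.normalizer (A : Set G)))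
      ⟨x, hx⟩) ∣ A.index := by
    refine (orderOf_dvd_natCard _).trans ?_
    rw [← Subgroup.index_eq_card]
    exact Subgroup.relIndex_dvd_index_of_le Subgroup.le_normalizer
  have h3 := Nat.Coprime.eq_one_of_dvd (Nat.Coprime.coprime_dvd_left h1 hc) h2
  have h4 := orderOf_eq_one_iff.1 h3
  have h5 : (⟨x, hx⟩ : Subgroup.normalizer (A : Set G)) ∈
      A.subgroupOf (Subgroup.normalizer (A : Set G)) := (QuotientGroup.eq_one_iff _).1 h4
  exact Subgroup.mem_subgroupOf.1 h5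

theorem kw_card_mul_relIndex {D L : Subgroup G} (h : D ≤ L) :
    Nat.card D * D.relIndex L = Nat.card L := by
  have := Subgroup.relIndex_mul_relIndex ⊥ D L bot_le h
  rwa [Subgroup.relIndex_bot_left, Subgroup.relIndex_bot_left] at this

/-- a subgroup `F` of `H` normalized by `D ≤ H`, of order prime to `|H : D|`, lies in `D` -/
theorem le_of_le_normalizer_of_coprime [Finite G] {H D F : Subgroup G} (hDH : D ≤ H) (hFH : F ≤ H)
    (hn : D ≤ Subgroup.normalizer (F : Set G)) (hc : (Nat.card F).Coprime (D.relIndex H)) :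
    F ≤ D := by
  have h1 := Cfsg.Agent.Lib.helper27.card_sup_dvd_mul_of_le_normalizer D F hn
  have h2 : D ⊔ F ≤ H := sup_le hDH hFH
  have h3 : Nat.card D * D.relIndex (D ⊔ F) = Nat.card (D ⊔ F : Subgroup G) :=
    kw_card_mul_relIndex le_sup_left
  have h4 : D.relIndex (D ⊔ F) ∣ Nat.card F := by
    rw [← h3] at h1
    exact Nat.dvd_of_mul_dvd_mul_left Nat.card_pos h1
  have h5 : D.relIndex (D ⊔ F) ∣ D.relIndex H :=
    Dvd.intro _ (Subgroup.relIndex_mul_relIndex D (D ⊔ F) H le_sup_left h2)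
  have h6 : D.relIndex (D ⊔ F) = 1 :=
    Nat.Coprime.eq_one_of_dvd (Nat.Coprime.coprime_dvd_left h4 hc) h5
  exact le_sup_right.trans (Subgroup.relIndex_eq_one.1 h6)

/-! ### Factorizations -/

theorem eq_of_mul_eq_mul_of_inf_eq_bot {X Y : Subgroup G} (h : X ⊓ Y = ⊥) {x x' y y' : G}
    (hx : x ∈ X) (hx' : x' ∈ X) (hy : y ∈ Y) (hy' : y' ∈ Y) (e : x * y = x' * y') :
    x = x' ∧ y = y' := by
  have e1 : x'⁻¹ * x = y' * y⁻¹ := by
    rw [inv_mul_eq_iff_eq_mul, ← mul_assoc, ← e, mul_assoc, mul_inv_cancel, mul_one]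
  have h1 : x'⁻¹ * x ∈ X ⊓ Y :=
    Subgroup.mem_inf.2 ⟨X.mul_mem (X.inv_mem hx') hx, e1 ▸ Y.mul_mem hy' (Y.inv_mem hy)⟩
  rw [h, Subgroup.mem_bot] at h1
  have h2 : x = x' := (inv_mul_eq_one.1 h1).symm
  refine ⟨h2, ?_⟩
  rw [h1] at e1
  exact (mul_inv_eq_one.1 e1.symm).symm

theorem card_eq_of_factorized [Finite G] {H X Y : Subgroup G} (hX : X ≤ H) (hY : Y ≤ H)
    (hXY : X ⊓ Y = ⊥) (hf : ∀ h ∈ H, ∃ x ∈ X, ∃ y ∈ Y, h = x * y) :
    Nat.card H = Nat.card X * Nat.card Y := by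
  rw [← Nat.card_prod]
  symm
  refine Nat.card_congr (Equiv.ofBijective
    (fun z : X × Y => (⟨(z.1 : G) * (z.2 : G), H.mul_mem (hX z.1.2) (hY z.2.2)⟩ : H)) ⟨?_, ?_⟩)
  · rintro ⟨⟨x, hx⟩, ⟨y, hy⟩⟩ ⟨⟨x', hx'⟩, ⟨y', hy'⟩⟩ e
    have e' : x * y = x' * y' := congrArg Subtype.val e
    obtain ⟨rfl, rfl⟩ := eq_of_mul_eq_mul_of_inf_eq_bot hXY hx hx' hy hy' e'
    rfl
  · rintro ⟨h, hh⟩
    obtain ⟨x, hx, y, hy, rfl⟩ := hf h hh
    exact ⟨(⟨x, hx⟩, ⟨y, hy⟩), rfl⟩

/-! ### Invariant Sylow subgroups -/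

theorem exists_fixed_sylow {K R : Type*} [Group K] [Finite K] [Group R] [Finite R]
    [MulDistribMulAction R K] {r q : ℕ} [Fact r.Prime] [Fact q.Prime] (hR : IsPGroup r R)
    (Z : Subgroup K) (hZ : Z ≤ Subgroup.center K) (hZi : ¬ r ∣ Z.index) :
    ∃ Y : Sylow q K, ∀ g : R, g • Y = Y := by
  have hcard : ¬ r ∣ Nat.card (Sylow q K) := by
    obtain ⟨Y⟩ : Nonempty (Sylow q K) := inferInstance
    rw [Y.card_eq_index_normalizer]
    intro h
    exact hZi (h.trans (Subgroup.index_dvd_of_le (hZ.trans (Subgroup.center_le_normalizer _))))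
  obtain ⟨Y, hY⟩ := hR.nonempty_fixed_point_of_prime_not_dvd_card (Sylow q K) hcard
  exact ⟨Y, fun g => hY g⟩

/-- an `r`-group `R` normalizing `K`, where some central subgroup `Z` of `K` has index prime to `r`
in `K`, normalizes a Sylow `q`-subgroup of `K` -/
theorem exists_invariant_sylow [Finite G] {K R : Subgroup G} {r q : ℕ} (hr : r.Prime)
    (hq : q.Prime) (hR : IsPGroup r R) (hRK : R ≤ Subgroup.normalizer (K : Set G))
    (Z : Subgroup G) (hZc : ∀ z ∈ Z, ∀ k ∈ K, z * k = k * z) (hZi : ¬ r ∣ Z.relIndex K) :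
    ∃ Y : Subgroup G, Y ≤ K ∧ IsPGroup q Y ∧ R ≤ Subgroup.normalizer (Y : Set G) ∧
      (Y = ⊥ → ¬ q ∣ Nat.card K) := by
  haveI : Fact r.Prime := ⟨hr⟩
  haveI : Fact q.Prime := ⟨hq⟩
  letI : MulDistribMulAction R K :=
    { smul := fun g k => ⟨(g : G) * k * (g : G)⁻¹, conj_mem_of_mem_normalizer (hRK g.2) k.2⟩
      one_smul := fun k => Subtype.ext (by show (1 : G) * k * (1 : G)⁻¹ = k; simp)
      mul_smul := fun a b k => Subtype.ext (by
        show ((a : G) * (b : G)) * k * ((a : G) * (b : G))⁻¹ =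
          (a : G) * ((b : G) * k * (b : G)⁻¹) * (a : G)⁻¹
        simp [mul_assoc])
      smul_mul := fun a k l => Subtype.ext (by
        show (a : G) * ((k : G) * (l : G)) * (a : G)⁻¹ =
          ((a : G) * k * (a : G)⁻¹) * ((a : G) * l * (a : G)⁻¹)
        simp [mul_assoc])
      smul_one := fun a => Subtype.ext (by show (a : G) * (1 : G) * (a : G)⁻¹ = 1; simp) }
  have hZ : Z.subgroupOf K ≤ Subgroup.center K := by
    intro z hz
    rw [Subgroup.mem_center_iff]
    intro k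
    exact Subtype.ext (hZc z (Subgroup.mem_subgroupOf.1 hz) k k.2).symm
  obtain ⟨Y, hY⟩ := exists_fixed_sylow (K := K) (R := R) (q := q) hR (Z.subgroupOf K) hZ hZi
  refine ⟨(Y : Subgroup K).map K.subtype, Subgroup.map_subtype_le _, Y.isPGroup'.map _, ?_, ?_⟩
  · apply le_normalizer_of_conj_mem
    rintro g hg _ ⟨y, hy, rfl⟩
    have h1 : (⟨g, hg⟩ : R) • y ∈ (((⟨g, hg⟩ : R) • Y : Sylow q K) : Subgroup K) :=
      Subgroup.smul_mem_pointwise_smul _ _ _ hy
    rw [hY] at h1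
    exact ⟨_, h1, rfl⟩
  · intro hbot hd
    have h1 : (Y : Subgroup K) = ⊥ :=
      (Subgroup.map_eq_bot_iff_of_injective _ K.subtype_injective).1 hbot
    exact Y.ne_bot_of_dvd_card hd h1

/-! ### The Fitting subgroup of a solvable subgroup -/

theorem exists_fitting [Finite G] (H : Subgroup G) (hH : Group.IsSolvable H) :
    ∃ F : Subgroup G, F ≤ H ∧ Group.IsNilpotent F ∧ H ≤ Subgroup.normalizer (F : Set G) ∧
      (∀ x ∈ H, (∀ f ∈ F, x * f = f * x) → x ∈ F) ∧
      ∀ X : Subgroup G, X ≤ H → Group.IsNilpotent X → H ≤ Subgroup.normalizer (X : Set G) →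
        X ≤ F := by
  haveI := hH
  haveI hnil : Group.IsNilpotent (Cfsg.fittingSubgroup H) := Cfsg.Agent.S0008.result
  refine ⟨(Cfsg.fittingSubgroup H).map H.subtype, Subgroup.map_subtype_le _,
    Group.nilpotent_of_mulEquiv
      ((Cfsg.fittingSubgroup H).equivMapOfInjective H.subtype H.subtype_injective), ?_, ?_, ?_⟩
  · apply le_normalizer_of_conj_mem
    rintro h hh _ ⟨f, hf, rfl⟩
    have hn : (Cfsg.fittingSubgroup H).Normal := inferInstance
    exact ⟨_, hn.conj_mem f hf ⟨h, hh⟩, rfl⟩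
  · intro x hx hc
    have h1 : (⟨x, hx⟩ : H) ∈ Subgroup.centralizer (Cfsg.fittingSubgroup H : Set H) := by
      rw [Subgroup.mem_centralizer_iff]
      intro f hf
      exact Subtype.ext (hc f ⟨f, hf, rfl⟩).symm
    exact ⟨_, Cfsg.Agent.S0044.result h1, rfl⟩
  · intro X hXH hXn hHX x hx
    have h1 : (X.subgroupOf H).Normal := (Subgroup.normal_subgroupOf_iff_le_normalizer hXH).2 hHX
    have h2 : Group.IsNilpotent (X.subgroupOf H) :=
      Group.nilpotent_of_mulEquiv (Subgroup.subgroupOfEquivOfLe hXH).symm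
    have h3 : X.subgroupOf H ≤ Cfsg.fittingSubgroup H := le_sSup ⟨h1, h2⟩
    exact ⟨⟨x, hXH hx⟩, h3 (Subgroup.mem_subgroupOf.2 hx), rfl⟩

/-! ### The `r`-residual of a nilpotent group -/

theorem mem_pPrimeCore_of_coprime {T : Type*} [Group T] [Finite T] [Group.IsNilpotent T] {r : ℕ}
    [Fact r.Prime] {g : T} (h : (orderOf g).Coprime r) : g ∈ Cfsg.pPrimeCore r T := by
  have hr : r.Prime := Fact.out
  obtain ⟨P⟩ : Nonempty (Sylow r T) := inferInstance
  haveI hKn : (Cfsg.pPrimeCore r T).Normal := inferInstance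
  have htop : (P : Subgroup T) ⊔ Cfsg.pPrimeCore r T = ⊤ := by
    apply Cfsg.Agent.Lib.helper27.eq_top_of_forall_sylow_le
    intro q _ S
    have hSn : (S : Subgroup T).Normal := inferInstance
    by_cases hqr : q = r
    · subst hqr
      exact le_sup_of_le_left (IsPGroup.le_sylow_of_normal S.isPGroup' P)
    · apply le_sup_of_le_right
      apply Cfsg.Agent.Lib.helper27.normal_coprime_le_pPrimeCore
      obtain ⟨n, hn⟩ := IsPGroup.iff_card.mp S.isPGroup'
      rw [hn]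
      exact Nat.Coprime.pow_left n ((Nat.coprime_primes Fact.out hr).2 hqr)
  have hidx : (Cfsg.pPrimeCore r T).index ∣ Nat.card (P : Subgroup T) := by
    rw [← Subgroup.relIndex_top_right, ← htop, Subgroup.relIndex_sup_right]
    exact Subgroup.relIndex_dvd_card _ _
  obtain ⟨n, hn⟩ := IsPGroup.iff_card.mp P.isPGroup'
  rw [hn] at hidx
  have h1 : orderOf (QuotientGroup.mk' (Cfsg.pPrimeCore r T) g) ∣ orderOf g :=
    orderOf_map_dvd _ g
  have h2 : orderOf (QuotientGroup.mk' (Cfsg.pPrimeCore r T) g) ∣ r ^ n := by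
    refine (orderOf_dvd_natCard _).trans ?_
    rw [← Subgroup.index_eq_card]
    exact hidx
  have h3 := Nat.Coprime.eq_one_of_dvd
    (Nat.Coprime.coprime_dvd_left h1 (Nat.Coprime.pow_right n h)) h2
  exact (QuotientGroup.eq_one_iff _).1 (orderOf_eq_one_iff.1 h3)

theorem eq_one_of_mem_pResidual_of_isNilpotent {T : Type*} [Group T] [Finite T]
    [Group.IsNilpotent T] {r : ℕ} [Fact r.Prime] {x : T} (hx : x ∈ Cfsg.pResidual r T) {k : ℕ}
    (hk : x ^ r ^ k = 1) : x = 1 := by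
  have h1 : Cfsg.pResidual r T ≤ Cfsg.pPrimeCore r T :=
    (Subgroup.closure_le _).2 fun g hg => mem_pPrimeCore_of_coprime hg
  have h2 : orderOf x ∣ Nat.card (Cfsg.pPrimeCore r T) :=
    Subgroup.orderOf_dvd_natCard _ (h1 hx)
  have h3 : (orderOf x).Coprime r :=
    Nat.Coprime.coprime_dvd_left h2 (Cfsg.Agent.Lib.helper27.pPrimeCore_coprime r)
  have h4 : orderOf x ∣ r ^ k := orderOf_dvd_of_pow_eq_one hk
  exact orderOf_eq_one_iff.1 (Nat.Coprime.eq_one_of_dvd (Nat.Coprime.pow_right k h3) h4)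

/-! ### Central elements of the `r`-part -/

theorem exists_central_mem_rpart [Finite G] {A : Subgroup G} (hA : Group.IsNilpotent A) {r : ℕ}
    (hr : r.Prime) (hrA : r ∣ Nat.card A) :
    ∃ z ∈ rpart A r, z ≠ 1 ∧ ∀ a ∈ A, a * z = z * a := by
  haveI := hA
  haveI hNn : ((rpart A r).subgroupOf A).Normal :=
    (Subgroup.normal_subgroupOf_iff_le_normalizer (rpart_le A r)).2 (le_normalizer_rpart hA hr)
  have hN1 : (rpart A r).subgroupOf A ≠ ⊥ := by
    intro hb
    apply rpart_ne_bot hr hrA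
    rw [Subgroup.eq_bot_iff_forall]
    intro x hx
    have h1 : (⟨x, rpart_le A r hx⟩ : A) ∈ (rpart A r).subgroupOf A := Subgroup.mem_subgroupOf.2 hx
    rw [hb, Subgroup.mem_bot] at h1
    exact congrArg Subtype.val h1
  have h65 := Cfsg.Agent.S0065.result ((rpart A r).subgroupOf A) hN1
  obtain ⟨⟨z, hz⟩, hz1⟩ := Subgroup.ne_bot_iff_exists_ne_one.1 h65
  obtain ⟨hzr, hzc⟩ := Subgroup.mem_inf.1 hz
  refine ⟨(z : G), Subgroup.mem_subgroupOf.1 hzr, ?_, ?_⟩
  · intro h1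
    apply hz1
    exact Subtype.ext (Subtype.ext h1)
  · intro a ha
    have := Subgroup.mem_center_iff.1 hzc ⟨a, ha⟩
    exact congrArg Subtype.val this

/-! ### Products of Hall subgroups in a solvable factorized subgroup -/

/-- `H` is factorized with respect to `(A, B)` -/
def Fz (A B H : Subgroup G) : Prop :=
  ∀ h ∈ H, ∃ a ∈ H ⊓ A, ∃ b ∈ H ⊓ B, h = a * b

theorem exists_prod_subgroup_of_solvable [Finite G] {A B A0 B0 L : Subgroup G}
    (hL : Group.IsSolvable L) (hFz : Fz A B L)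
    (hA0 : A0 ≤ A) (hA0L : A0 ≤ L) (hA0n : A ≤ Subgroup.normalizer (A0 : Set G))
    (hB0 : B0 ≤ B) (hB0L : B0 ≤ L) (hB0n : B ≤ Subgroup.normalizer (B0 : Set G))
    (hAh : (Nat.card A0).Coprime A0.index) (hBh : (Nat.card B0).Coprime B0.index) :
    ∃ Y : Subgroup G, Y ≤ L ∧ ∀ g, g ∈ Y ↔ ∃ u ∈ A0, ∃ v ∈ B0, g = u * v := by
  haveI := hL
  have hA : A0.subgroupOf L ≤ A.subgroupOf L := fun x hx =>
    Subgroup.mem_subgroupOf.2 (hA0 (Subgroup.mem_subgroupOf.1 hx))
  have hB : B0.subgroupOf L ≤ B.subgroupOf L := fun x hx =>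
    Subgroup.mem_subgroupOf.2 (hB0 (Subgroup.mem_subgroupOf.1 hx))
  have hAn : ((A0.subgroupOf L).subgroupOf (A.subgroupOf L)).Normal := by
    refine (Subgroup.normal_subgroupOf_iff_le_normalizer hA).2 (le_normalizer_of_conj_mem ?_)
    intro g hg x hx
    exact Subgroup.mem_subgroupOf.2
      (conj_mem_of_mem_normalizer (hA0n (Subgroup.mem_subgroupOf.1 hg)) (Subgroup.mem_subgroupOf.1 hx))
  have hBn : ((B0.subgroupOf L).subgroupOf (B.subgroupOf L)).Normal := by
    refine (Subgroup.normal_subgroupOf_iff_le_normalizer hB).2 (le_normalizer_of_conj_mem ?_)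
    intro g hg x hx
    exact Subgroup.mem_subgroupOf.2
      (conj_mem_of_mem_normalizer (hB0n (Subgroup.mem_subgroupOf.1 hg)) (Subgroup.mem_subgroupOf.1 hx))
  have hAh' : (Nat.card (A0.subgroupOf L)).Coprime (A0.subgroupOf L).index := by
    rw [Cfsg.Agent.Lib.helper27.card_subgroupOf_of_le hA0L]
    exact Nat.Coprime.coprime_dvd_right (Subgroup.relIndex_dvd_index_of_le hA0L) hAh
  have hBh' : (Nat.card (B0.subgroupOf L)).Coprime (B0.subgroupOf L).index := by
    rw [Cfsg.Agent.Lib.helper27.card_subgroupOf_of_le hB0L]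
    exact Nat.Coprime.coprime_dvd_right (Subgroup.relIndex_dvd_index_of_le hB0L) hBh
  have hHK : ∀ g : L, ∃ h ∈ A.subgroupOf L, ∃ k ∈ B.subgroupOf L, g = h * k := by
    intro g
    obtain ⟨a, ha, b, hb, e⟩ := hFz g g.2
    exact ⟨⟨a, (Subgroup.mem_inf.1 ha).1⟩, Subgroup.mem_subgroupOf.2 (Subgroup.mem_inf.1 ha).2,
      ⟨b, (Subgroup.mem_inf.1 hb).1⟩, Subgroup.mem_subgroupOf.2 (Subgroup.mem_inf.1 hb).2,
      Subtype.ext e⟩
  obtain ⟨S, hS⟩ := Cfsg.Agent.S0561.result (G := L) (A.subgroupOf L) (B.subgroupOf L)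
    (A0.subgroupOf L) (B0.subgroupOf L) hHK hA hAn hB hBn hAh' hBh' 1 1
  simp only [map_one, one_smul] at hS
  refine ⟨S.map L.subtype, Subgroup.map_subtype_le _, fun g => ⟨?_, ?_⟩⟩
  · rintro ⟨s, hs, rfl⟩
    have hs' : s ∈ (S : Set L) := hs
    rw [hS] at hs'
    obtain ⟨u, hu, v, hv, rfl⟩ := Set.mem_mul.1 hs'
    exact ⟨u, Subgroup.mem_subgroupOf.1 hu, v, Subgroup.mem_subgroupOf.1 hv, rfl⟩
  · rintro ⟨u, hu, v, hv, rfl⟩
    have h1 : (⟨u, hA0L hu⟩ * ⟨v, hB0L hv⟩ : L) ∈ (S : Set L) := by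
      rw [hS]
      exact Set.mul_mem_mul (Subgroup.mem_subgroupOf.2 hu) (Subgroup.mem_subgroupOf.2 hv)
    exact ⟨_, h1, rfl⟩

/-! ### Factorizations by nilpotent subgroups of coprime orders -/

/-- `G = AB` with `A`, `B` nilpotent of coprime orders -/
structure KW (A B : Subgroup G) : Prop where
  nilA : Group.IsNilpotent A
  nilB : Group.IsNilpotent B
  cop : (Nat.card A).Coprime (Nat.card B)
  fact : ∀ g : G, ∃ a ∈ A, ∃ b ∈ B, g = a * b

theorem KW.symm {A B : Subgroup G} (h : KW A B) : KW B A := by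
  refine ⟨h.nilB, h.nilA, h.cop.symm, fun g => ?_⟩
  obtain ⟨a, ha, b, hb, e⟩ := h.fact g⁻¹
  refine ⟨b⁻¹, B.inv_mem hb, a⁻¹, A.inv_mem ha, ?_⟩
  rw [← mul_inv_rev, ← e, inv_inv]

theorem KW.conj [Finite G] {A B : Subgroup G} (h : KW A B) (x y : G) :
    KW (MulAut.conj x • A) (MulAut.conj y • B) := by
  refine ⟨kw_isNilpotent_conj h.nilA x, kw_isNilpotent_conj h.nilB y, ?_, ?_⟩
  · rw [Cfsg.Agent.Lib.helper12.card_conj_smul, Cfsg.Agent.Lib.helper12.card_conj_smul]
    exact h.cop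
  · exact (Cfsg.Agent.S0559.result A B _ _ h.fact ⟨x, rfl⟩ ⟨y, rfl⟩).1

theorem KW.conj_right [Finite G] {A B : Subgroup G} (h : KW A B) (y : G) :
    KW A (MulAut.conj y • B) := by
  have := h.conj 1 y
  rwa [Cfsg.Agent.Lib.helper12.conj_one_smul] at this

theorem KW.inf_eq_bot {A B : Subgroup G} (h : KW A B) : A ⊓ B = ⊥ :=
  (Subgroup.disjoint_of_coprime_natCard h.cop).eq_bot

theorem KW.card [Finite G] {A B : Subgroup G} (h : KW A B) :
    Nat.card G = Nat.card A * Nat.card B := by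
  rw [← Subgroup.card_top (G := G)]
  exact card_eq_of_factorized le_top le_top h.inf_eq_bot (fun g _ => h.fact g)

theorem KW.index_left [Finite G] {A B : Subgroup G} (h : KW A B) : A.index = Nat.card B := by
  have h1 := Subgroup.card_mul_index A
  rw [h.card] at h1
  exact Nat.eq_of_mul_eq_mul_left Nat.card_pos h1

theorem KW.index_right [Finite G] {A B : Subgroup G} (h : KW A B) : B.index = Nat.card A :=
  h.symm.index_left

theorem KW.not_dvd_right {A B : Subgroup G} (h : KW A B) {r : ℕ} (hr : r.Prime)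
    (hrA : r ∣ Nat.card A) : ¬ r ∣ Nat.card B := fun hb =>
  hr.one_lt.ne' (Nat.Coprime.eq_one_of_dvd (Nat.Coprime.coprime_dvd_left hrA h.cop) hb)

theorem KW.not_dvd_index [Finite G] {A B : Subgroup G} (h : KW A B) {r : ℕ} (hr : r.Prime)
    (hrA : r ∣ Nat.card A) : ¬ r ∣ A.index := by
  rw [h.index_left]
  exact h.not_dvd_right hr hrA

theorem KW.mem_of_normalizer [Finite G] {A B : Subgroup G} (h : KW A B) {x : G}
    (hx : x ∈ Subgroup.normalizer (A : Set G)) (hc : (orderOf x).Coprime (Nat.card B)) : x ∈ A :=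
  mem_of_mem_normalizer_of_coprime hx (h.index_left ▸ hc)

theorem coprime_orderOf_of_pow {r m : ℕ} (hr : r.Prime) (hnd : ¬ r ∣ m) {y : G} {k : ℕ}
    (hk : y ^ r ^ k = 1) : (orderOf y).Coprime m :=
  Nat.Coprime.coprime_dvd_left (orderOf_dvd_of_pow_eq_one hk)
    (Nat.Coprime.pow_left k ((Nat.Prime.coprime_iff_not_dvd hr).2 hnd))

theorem kw_inv_conj_pow (g x : G) (m : ℕ) : (g⁻¹ * x * g) ^ m = g⁻¹ * x ^ m * g := by
  have := conj_pow (i := m) (a := g⁻¹) (b := x)
  rwa [inv_inv] at this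

/-- a nontrivial element of a finite group has a power of prime order -/
theorem exists_prime_pow_ne_one [Finite G] {x : G} (hx : x ≠ 1) :
    ∃ p : ℕ, p.Prime ∧ ∃ n : ℕ, (x ^ n) ^ p = 1 ∧ x ^ n ≠ 1 := by
  have h1 : orderOf x ≠ 1 := fun h => hx (orderOf_eq_one_iff.1 h)
  obtain ⟨p, hp, hpd⟩ := Nat.exists_prime_and_dvd h1
  have h2 : orderOf (x ^ (orderOf x / p)) = p :=
    orderOf_pow_orderOf_div (orderOf_pos x).ne' hpd
  refine ⟨p, hp, orderOf x / p, ?_, ?_⟩
  · have := pow_orderOf_eq_one (x ^ (orderOf x / p))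
    rwa [h2] at this
  · intro h
    rw [h, orderOf_one] at h2
    exact hp.one_lt.ne h2

theorem mem_centralizer_singleton' {w x : G} :
    x ∈ Subgroup.centralizer ({w} : Set G) ↔ w * x = x * w := by
  simp [Subgroup.mem_centralizer_iff]

theorem fz_of_le_left {A B H : Subgroup G} (h : ∀ g : G, ∃ a ∈ A, ∃ b ∈ B, g = a * b)
    (hAH : A ≤ H) : Fz A B H := by
  intro g hg
  obtain ⟨a, ha, b, hb, rfl⟩ := h g
  refine ⟨a, Subgroup.mem_inf.2 ⟨hAH ha, ha⟩, b, Subgroup.mem_inf.2 ⟨?_, hb⟩, rfl⟩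
  have := H.mul_mem (H.inv_mem (hAH ha)) hg
  simpa using this

theorem Fz.symm {A B H : Subgroup G} (h : Fz A B H) : Fz B A H := by
  intro g hg
  obtain ⟨a, ha, b, hb, e⟩ := h g⁻¹ (H.inv_mem hg)
  refine ⟨b⁻¹, inv_mem hb, a⁻¹, inv_mem ha, ?_⟩
  rw [← mul_inv_rev, ← e, inv_inv]

theorem fz_centralizer {A B : Subgroup G} (h : KW A B) {w : G}
    (hwA : w ∈ Subgroup.normalizer (A : Set G)) (hwB : w ∈ Subgroup.normalizer (B : Set G)) :
    Fz A B (Subgroup.centralizer ({w} : Set G)) := by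
  intro c hc
  rw [mem_centralizer_singleton'] at hc
  obtain ⟨a, ha, b, hb, rfl⟩ := h.fact c
  have e : (w * a * w⁻¹) * (w * b * w⁻¹) = a * b := by
    have : (w * a * w⁻¹) * (w * b * w⁻¹) = w * (a * b) * w⁻¹ := by group
    rw [this, hc]
    group
  obtain ⟨e1, e2⟩ := eq_of_mul_eq_mul_of_inf_eq_bot h.inf_eq_bot
    (conj_mem_of_mem_normalizer hwA ha) ha (conj_mem_of_mem_normalizer hwB hb) hb e
  refine ⟨a, Subgroup.mem_inf.2 ⟨?_, ha⟩, b, Subgroup.mem_inf.2 ⟨?_, hb⟩, rfl⟩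
  · rw [mem_centralizer_singleton']
    exact (mul_inv_eq_iff_eq_mul.1 e1)
  · rw [mem_centralizer_singleton']
    exact (mul_inv_eq_iff_eq_mul.1 e2)

theorem fz_normalizer_sup [Finite G] {A B A0 B0 : Subgroup G}
    (h : ∀ g : G, ∃ a ∈ A, ∃ b ∈ B, g = a * b) (hA0 : A0 ≤ A)
    (hA0n : A ≤ Subgroup.normalizer (A0 : Set G)) (hB0 : B0 ≤ B)
    (hB0n : B ≤ Subgroup.normalizer (B0 : Set G)) :
    Fz A B (Subgroup.normalizer ((A0 ⊔ B0 : Subgroup G) : Set G)) :=
  Cfsg.Agent.S0562.result A B A0 B0 h hA0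
    ((Subgroup.normal_subgroupOf_iff_le_normalizer hA0).2 hA0n) hB0
    ((Subgroup.normal_subgroupOf_iff_le_normalizer hB0).2 hB0n)

theorem Fz.card [Finite G] {A B H : Subgroup G} (h : KW A B) (hf : Fz A B H) :
    Nat.card H = Nat.card (H ⊓ A : Subgroup G) * Nat.card (H ⊓ B : Subgroup G) := by
  refine card_eq_of_factorized inf_le_left inf_le_left ?_ hf
  rw [eq_bot_iff, ← h.inf_eq_bot]
  exact inf_le_inf inf_le_right inf_le_right

/-- in a factorized subgroup `H`, a normal subgroup of order prime to `|A|` lies in `B` -/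
theorem Fz.le_right_of_coprime [Finite G] {A B H F : Subgroup G} (h : KW A B) (hf : Fz A B H)
    (hFH : F ≤ H) (hn : H ≤ Subgroup.normalizer (F : Set G))
    (hc : (Nat.card F).Coprime (Nat.card A)) : F ≤ B := by
  have h1 : Nat.card (H ⊓ B : Subgroup G) * (H ⊓ B).relIndex H = Nat.card H :=
    kw_card_mul_relIndex inf_le_left
  rw [hf.card h, mul_comm] at h1
  have h2 : (H ⊓ B).relIndex H = Nat.card (H ⊓ A : Subgroup G) :=
    Nat.eq_of_mul_eq_mul_right Nat.card_pos h1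
  have h3 : F ≤ H ⊓ B := by
    refine le_of_le_normalizer_of_coprime inf_le_left hFH (inf_le_left.trans hn) ?_
    rw [h2]
    exact Nat.Coprime.coprime_dvd_right (Subgroup.card_dvd_of_le inf_le_right) hc
  exact h3.trans inf_le_right

theorem Fz.le_left_of_coprime [Finite G] {A B H F : Subgroup G} (h : KW A B) (hf : Fz A B H)
    (hFH : F ≤ H) (hn : H ≤ Subgroup.normalizer (F : Set G))
    (hc : (Nat.card F).Coprime (Nat.card B)) : F ≤ A :=
  hf.symm.le_right_of_coprime h.symm hFH hn hc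

/-- a `q`-subgroup lies in the `q`-part of a conjugate of `B` -/
theorem KW.exists_conj_rpart_ge [Finite G] {A B : Subgroup G} (h : KW A B) {q : ℕ} (hq : q.Prime)
    (hqB : q ∣ Nat.card B) {Y : Subgroup G} (hY : IsPGroup q Y) :
    ∃ y : G, Y ≤ rpart (MulAut.conj y • B) q := by
  haveI : Fact q.Prime := ⟨hq⟩
  obtain ⟨Q, hQ⟩ := hY.exists_le_sylow
  obtain ⟨Q0, hQ0⟩ := exists_sylow_eq_rpart h.nilB (r := q) (h.symm.not_dvd_index hq hqB)
  obtain ⟨y, hy⟩ := MulAction.exists_smul_eq G Q0 Q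
  refine ⟨y, fun x hx => ?_⟩
  have h1 : x ∈ ((y • Q0 : Sylow q G) : Subgroup G) := hy ▸ hQ hx
  rw [Sylow.coe_subgroup_smul, Cfsg.Agent.Lib.helper12.mem_conj_smul_iff, hQ0] at h1
  have h2 := conj_mem_rpart_smul h.nilB hq y h1
  have e : y * (y⁻¹ * x * y) * y⁻¹ = x := by group
  rwa [e] at h2

/-- the subgroup version of `KW` inside a subgroup -/
theorem kw_subgroupOf {H X Y : Subgroup G} (hX : X ≤ H) (hY : Y ≤ H)
    (hXn : Group.IsNilpotent X) (hYn : Group.IsNilpotent Y)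
    (hc : (Nat.card X).Coprime (Nat.card Y)) (hf : ∀ h ∈ H, ∃ x ∈ X, ∃ y ∈ Y, h = x * y) :
    KW (X.subgroupOf H) (Y.subgroupOf H) := by
  refine ⟨Group.nilpotent_of_mulEquiv (Subgroup.subgroupOfEquivOfLe hX).symm,
    Group.nilpotent_of_mulEquiv (Subgroup.subgroupOfEquivOfLe hY).symm, ?_, ?_⟩
  · rw [Cfsg.Agent.Lib.helper27.card_subgroupOf_of_le hX,
      Cfsg.Agent.Lib.helper27.card_subgroupOf_of_le hY]
    exact hc
  · intro g
    obtain ⟨x, hx, y, hy, e⟩ := hf g g.2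
    exact ⟨⟨x, hX hx⟩, Subgroup.mem_subgroupOf.2 hx, ⟨y, hY hy⟩, Subgroup.mem_subgroupOf.2 hy,
      Subtype.ext e⟩

/-- a normal subgroup of a group factorized by Hall subgroups is factorized -/
theorem fz_of_normal [Finite G] {A B : Subgroup G} (h : KW A B) (N : Subgroup G) [hN : N.Normal] :
    Fz A B N := by
  have hA1 : Nat.card (N ⊓ A : Subgroup G) * A.relIndex N = Nat.card N := by
    have := kw_card_mul_relIndex (inf_le_left : N ⊓ A ≤ N)
    rwa [Subgroup.inf_relIndex_left] at this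
  have hB1 : Nat.card (N ⊓ B : Subgroup G) * B.relIndex N = Nat.card N := by
    have := kw_card_mul_relIndex (inf_le_left : N ⊓ B ≤ N)
    rwa [Subgroup.inf_relIndex_left] at this
  have hA2 : A.relIndex N ∣ Nat.card B := by
    rw [Cfsg.Agent.Lib.helper12.relIndex_eq_relIndex_sup_of_normal A N, ← h.index_left]
    exact Subgroup.relIndex_dvd_index_of_le le_sup_left
  have hB2 : B.relIndex N ∣ Nat.card A := by
    rw [Cfsg.Agent.Lib.helper12.relIndex_eq_relIndex_sup_of_normal B N, ← h.index_right]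
    exact Subgroup.relIndex_dvd_index_of_le le_sup_left
  have ha : Nat.card (N ⊓ A : Subgroup G) ∣ Nat.card A := Subgroup.card_dvd_of_le inf_le_right
  have hb : Nat.card (N ⊓ B : Subgroup G) ∣ Nat.card B := Subgroup.card_dvd_of_le inf_le_right
  have heq : Nat.card (N ⊓ A : Subgroup G) * A.relIndex N =
      Nat.card (N ⊓ B : Subgroup G) * B.relIndex N := hA1.trans hB1.symm
  have h1 : Nat.card (N ⊓ B : Subgroup G) ∣ A.relIndex N := by
    have hc : (Nat.card (N ⊓ B : Subgroup G)).Coprime (Nat.card (N ⊓ A : Subgroup G)) :=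
      Nat.Coprime.coprime_dvd_left hb (Nat.Coprime.coprime_dvd_right ha h.cop.symm)
    exact hc.dvd_of_dvd_mul_left (Dvd.intro _ heq.symm)
  have h2 : A.relIndex N ∣ Nat.card (N ⊓ B : Subgroup G) := by
    have hc : (A.relIndex N).Coprime (B.relIndex N) :=
      Nat.Coprime.coprime_dvd_left hA2 (Nat.Coprime.coprime_dvd_right hB2 h.cop.symm)
    exact hc.dvd_of_dvd_mul_right (Dvd.intro_left _ heq)
  have hcard : Nat.card N = Nat.card (N ⊓ A : Subgroup G) * Nat.card (N ⊓ B : Subgroup G) := by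
    rw [← hA1, Nat.dvd_antisymm h2 h1]
  have hinj : Function.Injective (fun z : (N ⊓ A : Subgroup G) × (N ⊓ B : Subgroup G) =>
      (⟨(z.1 : G) * (z.2 : G),
        N.mul_mem (Subgroup.mem_inf.1 z.1.2).1 (Subgroup.mem_inf.1 z.2.2).1⟩ : N)) := by
    rintro ⟨⟨x, hx⟩, ⟨y, hy⟩⟩ ⟨⟨x', hx'⟩, ⟨y', hy'⟩⟩ e
    have e' : x * y = x' * y' := congrArg Subtype.val e
    obtain ⟨rfl, rfl⟩ := eq_of_mul_eq_mul_of_inf_eq_bot h.inf_eq_bot (Subgroup.mem_inf.1 hx).2
      (Subgroup.mem_inf.1 hx').2 (Subgroup.mem_inf.1 hy).2 (Subgroup.mem_inf.1 hy').2 e'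
    rfl
  have hbij := hinj.bijective_of_nat_card_le (by rw [Nat.card_prod, hcard])
  intro g hg
  obtain ⟨⟨x, y⟩, hxy⟩ := hbij.2 ⟨g, hg⟩
  exact ⟨x, x.2, y, y.2, (congrArg Subtype.val hxy).symm⟩

end Cfsg.Agent.Lib.helper57
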