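import Mathlib
import Cfsg.Prelude.Def_Solvable
import Cfsg.Agent.Lib.helper38.RO1
import Cfsg.Agent.Lib.helper55.NormalElemAb
import Cfsg.Agent.Lib.helper30.Critical

set_option autoImplicit false
open Pointwise

namespace Cfsg.Agent.Lib.helper38.RO

universe u v

/-- PIECE STRUCT-C of the S4330 split: the elements of order `p` of `C_Q(E)` lie in `Z`. -/
theorem struct_C (p : ℕ) [Fact p.Prime] (hp : p ≠ 2) {Γ : Type*} [Group Γ] [Finite Γ]
    (Q Z E : Subgroup Γ) (hQ : IsPGroup p ↥Q) (h : StructData p Q Z E)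
    (hB : ∀ q ∈ Q, ∃ e ∈ E, ∀ f ∈ E, (e⁻¹ * q) * f = f * (e⁻¹ * q)) :
    ∀ c ∈ Q, (∀ f ∈ E, c * f = f * c) → c ^ p = 1 → c ∈ Z := by
  classical
  intro c₀ hc₀Q hc₀E hc₀p
  by_contra hc₀Z
  obtain ⟨C, hCdef⟩ : ∃ C : Subgroup Γ, C = Q ⊓ Subgroup.centralizer (E : Set Γ) := ⟨_, rfl⟩
  have hmemC : ∀ c : Γ, c ∈ C ↔ c ∈ Q ∧ ∀ f ∈ E, c * f = f * c := by
    intro c
    rw [hCdef, Subgroup.mem_inf, Subgroup.mem_centralizer_iff]
    constructor
    · rintro ⟨h1, h2⟩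
      exact ⟨h1, fun f hf => (h2 f hf).symm⟩
    · rintro ⟨h1, h2⟩
      exact ⟨h1, fun f hf => (h2 f hf).symm⟩
  have hCQ : C ≤ Q := fun c hc => ((hmemC c).mp hc).1
  have hZC : Z ≤ C := by
    intro z hz
    exact (hmemC z).mpr ⟨h.hEQ (h.hZE hz), fun f hf => h.hZcent z hz f (h.hEQ hf)⟩
  have hCp : IsPGroup p ↥C := hQ.to_le hCQ
  have hZp : ∀ z ∈ Z, z ^ p = 1 := fun z hz => h.hEp z (h.hZE hz)
  -- the preimage of `Z` in `C` has `p` elements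
  have hZ'card : Nat.card ↥(Z.subgroupOf C) = p := by
    rw [← h.hZcard]
    exact Nat.card_congr (Subgroup.subgroupOfEquivOfLe hZC).toEquiv
  -- `C` is not cyclic
  have hnc : ¬ IsCyclic ↥C := by
    intro hcyc
    have hfin : Fintype ↥C := Fintype.ofFinite _
    have hle := IsCyclic.card_pow_eq_one_le (α := ↥C) (n := p) (Fact.out : p.Prime).pos
    have hsub : (Finset.univ.filter fun a : ↥C => (a : Γ) ∈ Z) ⊂
        (Finset.univ.filter fun a : ↥C => a ^ p = 1) := by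
      rw [Finset.ssubset_iff_of_subset]
      · refine ⟨⟨c₀, (hmemC c₀).mpr ⟨hc₀Q, hc₀E⟩⟩, ?_, ?_⟩
        · rw [Finset.mem_filter]
          exact ⟨Finset.mem_univ _, Subtype.ext (by simpa using hc₀p)⟩
        · rw [Finset.mem_filter]
          exact fun hh => hc₀Z hh.2
      · intro a ha
        rw [Finset.mem_filter] at ha ⊢
        exact ⟨Finset.mem_univ _, Subtype.ext (by simpa using hZp _ ha.2)⟩
    have hlt := Finset.card_lt_card hsub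
    have hc1 : (Finset.univ.filter fun a : ↥C => (a : Γ) ∈ Z).card = p := by
      rw [← hZ'card, Nat.card_eq_fintype_card, Fintype.card_subtype]
      rfl
    omega
  obtain ⟨B, hBn, hBe, hBcard⟩ := Cfsg.Agent.Lib.helper55.exists_normal_elemAb_sq hp hCp hnc
  have hnil : Group.IsNilpotent ↥C := hCp.isNilpotent
  have hBZ : ¬ B ≤ Z.subgroupOf C := by
    intro hle
    have h1 : Nat.card ↥B ≤ Nat.card ↥(Z.subgroupOf C) := Subgroup.card_le_of_le hle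
    rw [hBcard, hZ'card] at h1
    have hp2 : 2 ≤ p := (Fact.out : p.Prime).two_le
    nlinarith
  obtain ⟨k, hkB, hkZ, hk⟩ := Cfsg.Agent.Lib.helper30.exists_central_mod B (Z.subgroupOf C) hBZ
  apply hkZ
  rw [Subgroup.mem_subgroupOf]
  have hkC := (hmemC (k : Γ)).mp k.2
  have hkp : (k : Γ) ^ p = 1 := by
    have := hBe.2 k hkB
    simpa using congrArg Subtype.val this
  have hkE : (k : Γ) ∈ E := by
    apply h.hEmax _ hkC.1 hkp
    intro q hq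
    obtain ⟨e, he, hec⟩ := hB q hq
    have hcC : e⁻¹ * q ∈ C :=
      (hmemC _).mpr ⟨Q.mul_mem (Q.inv_mem (h.hEQ he)) hq, hec⟩
    have hζ : (k : Γ) * (e⁻¹ * q) * (k : Γ)⁻¹ * (e⁻¹ * q)⁻¹ ∈ Z := by
      have := hk ⟨_, hcC⟩
      rw [Subgroup.mem_subgroupOf] at this
      simpa using this
    have hke : (k : Γ) * e = e * (k : Γ) := hkC.2 e he
    have hζe := h.hZcent _ hζ e (h.hEQ he)
    have heq : (k : Γ) * q * (k : Γ)⁻¹ * q⁻¹ =
        (k : Γ) * (e⁻¹ * q) * (k : Γ)⁻¹ * (e⁻¹ * q)⁻¹ := by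
      calc (k : Γ) * q * (k : Γ)⁻¹ * q⁻¹
          = ((k : Γ) * e) * (e⁻¹ * q) * (k : Γ)⁻¹ * (e⁻¹ * q)⁻¹ * e⁻¹ := by group
        _ = e * ((k : Γ) * (e⁻¹ * q) * (k : Γ)⁻¹ * (e⁻¹ * q)⁻¹) * e⁻¹ := by rw [hke]; group
        _ = ((k : Γ) * (e⁻¹ * q) * (k : Γ)⁻¹ * (e⁻¹ * q)⁻¹) * e * e⁻¹ := by rw [← hζe]
        _ = (k : Γ) * (e⁻¹ * q) * (k : Γ)⁻¹ * (e⁻¹ * q)⁻¹ := by group
    rw [heq]
    exact hζ
  exact h.hEcenter _ hkE hkC.2

end Cfsg.Agent.Lib.helper38.RO
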