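import Mathlib
import Cfsg.Prelude.Def_Solvable
import Cfsg.Agent.Lib.helper38.RO1

set_option autoImplicit false
open Pointwise

namespace Cfsg.Agent.Lib.helper38.RO

universe u v

/-- Core of piece GRP-B1 of the S4330 split: `key_step` with the regular-orbit theorem `ro_main`
and the two GRP-C facts as hypotheses. -/
theorem key_step_of {G : Type u} [Group G] [Finite G] (p : ℕ) [Fact p.Prime]
    (Mn K : Subgroup G) [Mn.Normal] [K.Normal] (hMab : ∀ a ∈ Mn, ∀ b ∈ Mn, a * b = b * a)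
    (hKp : ∀ k ∈ K, ∃ j : ℕ, k ^ (p ^ j) ∈ Mn)
    (A : Subgroup G) (hA : IsPGroup p A) (hAK : A ≤ K)
    (H : ∀ c : G, ∃ g : G, IsConj c g ∧ IsPGroup p ↥(A ⊔ MulAut.conj g • A))
    (hro : ∀ {M : Type u} [CommGroup M] [Finite M], ¬ p ∣ Nat.card M →
      ∀ (φ : G →* MulAut M) (Q X : Subgroup G) [Q.Normal], IsPGroup p ↥(Q.map φ) → X ≤ Q →
      (∃ x ∈ X, φ x ≠ 1) → ∃ m : M, ∀ n : G, ∃ x ∈ X, φ (n * x * n⁻¹) m ≠ m)
    (hnd : ¬ p ∣ Nat.card ↥Mn)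
    (hcent : ∀ a ∈ K, (∃ j : ℕ, a ^ (p ^ j) = 1) → (∀ m ∈ Mn, a * m = m * a) → a = 1) :
    A = ⊥ := by
  classical
  let instC : CommGroup ↥Mn :=
    { (inferInstance : Group ↥Mn) with
      mul_comm := fun a b => Subtype.ext (hMab a.1 a.2 b.1 b.2) }
  let φ : G →* MulAut ↥Mn := MulAut.conjNormal
  have hφ : ∀ (g : G) (m : ↥Mn), ((φ g) m : G) = g * m * g⁻¹ :=
    fun g m => MulAut.conjNormal_apply g m
  -- `K.map φ` is a `p`-group
  have hKφ : IsPGroup p ↥(K.map φ) := by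
    rintro ⟨y, hy⟩
    obtain ⟨k, hk, rfl⟩ := Subgroup.mem_map.mp hy
    obtain ⟨j, hj⟩ := hKp k hk
    refine ⟨j, Subtype.ext ?_⟩
    show (φ k) ^ (p ^ j) = 1
    rw [← map_pow]
    ext m
    rw [hφ]
    have h1 := hMab _ hj m.1 m.2
    rw [h1]
    simp
  by_cases htriv : ∀ x ∈ A, φ x = 1
  · rw [eq_bot_iff]
    intro x hx
    rw [Subgroup.mem_bot]
    apply hcent x (hAK hx)
    · obtain ⟨j, hj⟩ := hA ⟨x, hx⟩
      exact ⟨j, by simpa using congrArg Subtype.val hj⟩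
    · intro m hm
      have h1 : ((φ x) ⟨m, hm⟩ : G) = m := by rw [htriv x hx]; rfl
      rw [hφ] at h1
      calc x * m = (x * m * x⁻¹) * x := by group
        _ = m * x := by rw [h1]
  · exfalso
    push Not at htriv
    obtain ⟨m, hm⟩ := @hro ↥Mn instC _ hnd φ K A _ hKφ hAK htriv
    obtain ⟨g, hcg, hL⟩ := H (m : G)
    obtain ⟨c₀, hc₀⟩ := isConj_iff.mp hcg
    obtain ⟨x, hxA, hx⟩ := hm c₀⁻¹
    apply hx
    have hgM : g ∈ Mn := by
      rw [← hc₀]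
      exact Subgroup.Normal.conj_mem inferInstance _ m.2 c₀
    have hcomm : x * g * x⁻¹ * g⁻¹ = 1 := by
      have h1 : x * g * x⁻¹ * g⁻¹ ∈ Mn :=
        Mn.mul_mem (Subgroup.Normal.conj_mem inferInstance _ hgM x) (Mn.inv_mem hgM)
      have h2 : x * g * x⁻¹ * g⁻¹ ∈ A ⊔ MulAut.conj g • A := by
        have h3 : x * g * x⁻¹ * g⁻¹ = x * (g * x⁻¹ * g⁻¹) := by group
        rw [h3]
        refine Subgroup.mul_mem _ (Subgroup.mem_sup_left hxA) (Subgroup.mem_sup_right ?_)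
        exact ⟨x⁻¹, A.inv_mem hxA, rfl⟩
      obtain ⟨j, hj⟩ := hL ⟨_, h2⟩
      have hj' : (x * g * x⁻¹ * g⁻¹) ^ (p ^ j) = 1 := by simpa using congrArg Subtype.val hj
      have ho1 : orderOf (x * g * x⁻¹ * g⁻¹) ∣ p ^ j := orderOf_dvd_of_pow_eq_one hj'
      have ho2 : orderOf (x * g * x⁻¹ * g⁻¹) ∣ Nat.card ↥Mn := by
        have h4 : orderOf (⟨_, h1⟩ : ↥Mn) ∣ Nat.card ↥Mn := orderOf_dvd_natCard _
        rwa [← Subgroup.orderOf_coe] at h4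
      have hcop : Nat.Coprime (p ^ j) (Nat.card ↥Mn) :=
        Nat.Coprime.pow_left _ ((Nat.Prime.coprime_iff_not_dvd Fact.out).mpr hnd)
      have ho3 : orderOf (x * g * x⁻¹ * g⁻¹) = 1 := Nat.eq_one_of_dvd_coprimes hcop ho1 ho2
      exact orderOf_eq_one_iff.mp ho3
    apply Subtype.ext
    rw [hφ]
    have hxg : x * g = g * x := by
      calc x * g = (x * g * x⁻¹ * g⁻¹) * g * x := by group
        _ = g * x := by rw [hcomm, one_mul]
    rw [← hc₀] at hxg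
    have h5 : c₀⁻¹ * x * c₀⁻¹⁻¹ * (m : G) * (c₀⁻¹ * x * c₀⁻¹⁻¹)⁻¹
        = c₀⁻¹ * (x * (c₀ * m * c₀⁻¹)) * x⁻¹ * c₀ := by group
    rw [h5, hxg]
    group

end Cfsg.Agent.Lib.helper38.RO
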