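import Mathlib

set_option autoImplicit false

namespace Cfsg.Agent.Lib.helper57

open Subgroup
open scoped commutatorElement

variable {G : Type*} [Group G]

/-- `|K| = |H| * [K : H]` for `H ≤ K`. -/
theorem card_eq_card_mul_relIndex {H K : Subgroup G} (h : H ≤ K) :
    Nat.card K = Nat.card H * H.relIndex K := by
  rw [← relIndex_bot_left, ← relIndex_bot_left]
  exact (relIndex_mul_relIndex ⊥ H K bot_le h).symm

/-- The product formula as an inequality, valid for arbitrary subgroups of a finite group: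
`|H| * |K| ≤ |H ⊔ K| * |H ⊓ K|`. -/
theorem card_mul_card_le_card_sup_mul_card_inf [Finite G] (H K : Subgroup G) :
    Nat.card H * Nat.card K ≤ Nat.card ↥(H ⊔ K) * Nat.card ↥(H ⊓ K) := by
  have h1 : K.relIndex H ≤ K.relIndex (H ⊔ K) :=
    relIndex_le_of_le_right le_sup_left (Subgroup.index_ne_zero_of_finite)
  have h2 : Nat.card H = Nat.card ↥(H ⊓ K) * K.relIndex H := by
    rw [card_eq_card_mul_relIndex (inf_le_left : H ⊓ K ≤ H), inf_relIndex_left]
  have h3 : Nat.card ↥(H ⊔ K) = Nat.card K * K.relIndex (H ⊔ K) :=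
    card_eq_card_mul_relIndex le_sup_right
  rw [h2, h3]
  calc Nat.card ↥(H ⊓ K) * K.relIndex H * Nat.card K
      ≤ Nat.card ↥(H ⊓ K) * K.relIndex (H ⊔ K) * Nat.card K :=
        Nat.mul_le_mul_right _ (Nat.mul_le_mul_left _ h1)
    _ = Nat.card K * K.relIndex (H ⊔ K) * Nat.card ↥(H ⊓ K) := by ring

/-- Coset counting: if `ψ` maps `B'` into `E` and distinct cosets of `B₁` in `B'` go to distinct
cosets of `C` in `E`, then `|B'| * |C| ≤ |B₁| * |E|`. -/
theorem card_mul_card_le_of_coset_injective [Finite G] {B₁ B' C E : Subgroup G}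
    (hB : B₁ ≤ B') (hC : C ≤ E) (ψ : G → G) (hψ : ∀ b ∈ B', ψ b ∈ E)
    (hinj : ∀ b₁ ∈ B', ∀ b₂ ∈ B', (ψ b₁)⁻¹ * ψ b₂ ∈ C → b₁⁻¹ * b₂ ∈ B₁) :
    Nat.card B' * Nat.card C ≤ Nat.card B₁ * Nat.card E := by
  have hrel : B₁.relIndex B' ≤ C.relIndex E := by
    unfold relIndex
    rw [index_eq_card, index_eq_card]
    let F : (↥B' ⧸ B₁.subgroupOf B') → (↥E ⧸ C.subgroupOf E) :=
      fun q => QuotientGroup.mk ⟨ψ (q.out : G), hψ _ q.out.2⟩
    apply Nat.card_le_card_of_injective F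
    intro q₁ q₂ h
    have h' : (⟨ψ (q₁.out : G), hψ _ q₁.out.2⟩ : ↥E)⁻¹ * ⟨ψ (q₂.out : G), hψ _ q₂.out.2⟩ ∈
        C.subgroupOf E := QuotientGroup.eq.1 h
    rw [mem_subgroupOf] at h'
    have h'' : (q₁.out : G)⁻¹ * (q₂.out : G) ∈ B₁ := hinj _ q₁.out.2 _ q₂.out.2 h'
    have h3 : (QuotientGroup.mk q₁.out : ↥B' ⧸ B₁.subgroupOf B') = QuotientGroup.mk q₂.out := by
      rw [QuotientGroup.eq, mem_subgroupOf]
      exact h''
    rw [QuotientGroup.out_eq', QuotientGroup.out_eq'] at h3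
    exact h3
  rw [card_eq_card_mul_relIndex hB, card_eq_card_mul_relIndex hC]
  calc Nat.card B₁ * B₁.relIndex B' * Nat.card C
      ≤ Nat.card B₁ * C.relIndex E * Nat.card C :=
        Nat.mul_le_mul_right _ (Nat.mul_le_mul_left _ hrel)
    _ = Nat.card B₁ * (Nat.card C * C.relIndex E) := by ring

/-- In a commutative situation, `x * y⁻¹ = z * w⁻¹ ↔ x * w = z * y`. -/
theorem mul_inv_eq_mul_inv_iff_of_commute {x y z w : G} (hyw : Commute y w) :
    x * y⁻¹ = z * w⁻¹ ↔ x * w = z * y := by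
  constructor
  · intro h
    have hx : x = z * w⁻¹ * y := by rw [← h]; group
    rw [hx, mul_assoc, mul_assoc, hyw.eq, ← mul_assoc w⁻¹, inv_mul_cancel, one_mul]
  · intro h
    have hx : x = z * y * w⁻¹ := by rw [← h]; group
    have h1 : y * w⁻¹ = w⁻¹ * y := hyw.inv_right.eq
    rw [hx, mul_assoc, mul_assoc, ← mul_assoc y, h1, mul_assoc, mul_inv_cancel, mul_one]

/-- Symmetry of the double commutator for commuting `b`, `c` acting on an abelian normal
subgroup: `c` commutes with `⁅a, b⁆` iff `b` commutes with `⁅a, c⁆`. -/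
theorem commute_commutator_symm {M : Subgroup G} [hMn : M.Normal] [hMc : IsMulCommutative M]
    {a b c : G} (ha : a ∈ M) (hbc : Commute b c) :
    Commute c ⁅a, b⁆ ↔ Commute b ⁅a, c⁆ := by
  have hub : b * a * b⁻¹ ∈ M := hMn.conj_mem a ha b
  have huc : c * a * c⁻¹ ∈ M := hMn.conj_mem a ha c
  have hubc : b * (c * a * c⁻¹) * b⁻¹ ∈ M := hMn.conj_mem _ huc b
  have e1 : Commute c ⁅a, b⁆ ↔ (c * a * c⁻¹) * (b * (c * a * c⁻¹) * b⁻¹)⁻¹ = a * (b * a * b⁻¹)⁻¹ := by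
    have hcb : c * b = b * c := hbc.eq.symm
    have : c * ⁅a, b⁆ * c⁻¹ = (c * a * c⁻¹) * (b * (c * a * c⁻¹) * b⁻¹)⁻¹ := by
      have h1 : b * (c * a * c⁻¹) * b⁻¹ = c * (b * a * b⁻¹) * c⁻¹ := by
        calc b * (c * a * c⁻¹) * b⁻¹ = (b * c) * a * (b * c)⁻¹ := by group
          _ = (c * b) * a * (c * b)⁻¹ := by rw [hcb]
          _ = c * (b * a * b⁻¹) * c⁻¹ := by group
      rw [h1, commutatorElement_def]; group
    rw [← this]
    have h2 : ⁅a, b⁆ = a * (b * a * b⁻¹)⁻¹ := by rw [commutatorElement_def]; group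
    rw [← h2]
    constructor
    · intro h; rw [h.eq, mul_inv_cancel_right]
    · intro h
      show c * ⁅a, b⁆ = ⁅a, b⁆ * c
      calc c * ⁅a, b⁆ = (c * ⁅a, b⁆ * c⁻¹) * c := by group
        _ = ⁅a, b⁆ * c := by rw [h]
  have e2 : Commute b ⁅a, c⁆ ↔ (b * a * b⁻¹) * (b * (c * a * c⁻¹) * b⁻¹)⁻¹ = a * (c * a * c⁻¹)⁻¹ := by
    have : b * ⁅a, c⁆ * b⁻¹ = (b * a * b⁻¹) * (b * (c * a * c⁻¹) * b⁻¹)⁻¹ := by
      rw [commutatorElement_def]; group
    rw [← this]
    have h2 : ⁅a, c⁆ = a * (c * a * c⁻¹)⁻¹ := by rw [commutatorElement_def]; group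
    rw [← h2]
    constructor
    · intro h; rw [h.eq, mul_inv_cancel_right]
    · intro h
      show b * ⁅a, c⁆ = ⁅a, c⁆ * b
      calc b * ⁅a, c⁆ = (b * ⁅a, c⁆ * b⁻¹) * b := by group
        _ = ⁅a, c⁆ * b := by rw [h]
  rw [e1, e2, mul_inv_eq_mul_inv_iff_of_commute (setLike_mul_comm hubc hub),
    mul_inv_eq_mul_inv_iff_of_commute (setLike_mul_comm hubc huc),
    setLike_mul_comm huc hub]

end Cfsg.Agent.Lib.helper57
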