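import Mathlib
import Cfsg.Prelude.Def_PLocal
import Cfsg.Agent.Lib.helper57.Counting

set_option autoImplicit false

namespace Cfsg.Agent.Lib.helper57

open Subgroup
open scoped commutatorElement

variable {S : Type*} [Group S]

/-- An abelian subgroup of largest order contains its centralizer. -/
theorem centralizer_le_of_mem_maxAbelian [Finite S] {A : Subgroup S}
    (hA : A ∈ Cfsg.maxAbelianSubgroups S) : centralizer (A : Set S) ≤ A := by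
  obtain ⟨hAc, hmax⟩ := hA
  intro x hx
  set N : Subgroup S := closure ((A : Set S) ∪ {x}) with hN
  have hAN : A ≤ N := fun y hy => subset_closure (Or.inl hy)
  have hxN : x ∈ N := subset_closure (Or.inr rfl)
  have hNc : IsMulCommutative N := by
    apply isMulCommutative_closure
    rintro u (hu | hu) v (hv | hv)
    · exact setLike_mul_comm hu hv
    · rw [Set.mem_singleton_iff] at hv; subst hv
      exact (mem_centralizer_iff.1 hx) u hu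
    · rw [Set.mem_singleton_iff] at hu; subst hu
      exact ((mem_centralizer_iff.1 hx) v hv).symm
    · rw [Set.mem_singleton_iff] at hu hv; subst hu; subst hv; rfl
  have := eq_of_le_of_card_ge hAN (hmax N hNc)
  rw [this]
  exact hxN

/-- The commutator identity `⁅a * a', g⁆ = ⁅a, ⁅a', g⁆⁆ * ⁅a', g⁆ * ⁅a, g⁆`. -/
theorem commutatorElement_mul_left_expand (a a' g : S) :
    ⁅a * a', g⁆ = ⁅a, ⁅a', g⁆⁆ * ⁅a', g⁆ * ⁅a, g⁆ := by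
  simp only [commutatorElement_def]
  group

/-- Replacement step (Thompson/Gillam style). Let `A` be an abelian subgroup,
`Bn` an abelian subgroup and `g` an element such that all commutators `⁅a, g⁆`
(`a ∈ A`) lie in `Bn` and normalize `A`. Then there is an abelian subgroup `A*` of order at least
`|A|` inside the normal closure of `A`, containing all `⁅a, g⁆` and with `A ⊓ Bn ≤ A* ⊓ Bn`. -/
theorem replacement_key [Finite S] (A Bn : Subgroup S) [hAc : IsMulCommutative A]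
    [hBc : IsMulCommutative Bn] (g : S)
    (hg : ∀ a ∈ A, ⁅a, g⁆ ∈ Bn ∧ ⁅a, g⁆ ∈ normalizer (A : Set S)) :
    ∃ Astar : Subgroup S, IsMulCommutative Astar ∧ Nat.card A ≤ Nat.card Astar ∧
      Astar ≤ normalClosure (A : Set S) ∧ A ⊓ Bn ≤ Astar ⊓ Bn ∧ ∀ a ∈ A, ⁅a, g⁆ ∈ Astar := by
  set M : Subgroup S := closure {y | ∃ a ∈ A, y = ⁅a, g⁆} with hM
  have hcM : ∀ a ∈ A, ⁅a, g⁆ ∈ M := fun a ha => subset_closure ⟨a, ha, rfl⟩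
  have hMBn : M ≤ Bn := by
    rw [hM, closure_le]
    rintro _ ⟨a, ha, rfl⟩
    exact (hg a ha).1
  have hMN : M ≤ normalizer (A : Set S) := by
    rw [hM, closure_le]
    rintro _ ⟨a, ha, rfl⟩
    exact (hg a ha).2
  have hMcomm : ∀ u ∈ M, ∀ v ∈ M, u * v = v * u := fun u hu v hv =>
    setLike_mul_comm (hMBn hu) (hMBn hv)
  set K : Subgroup S := A ⊓ centralizer (M : Set S) with hK
  have hKA : K ≤ A := inf_le_left
  have hKM : ∀ k ∈ K, ∀ u ∈ M, u * k = k * u := fun k hk u hu =>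
    (mem_centralizer_iff.1 (Subgroup.mem_inf.1 hk).2) u hu
  -- the double commutators
  have heA : ∀ a ∈ A, ∀ a' ∈ A, ⁅a, ⁅a', g⁆⁆ ∈ A := by
    intro a ha a' ha'
    have h1 : ⁅a', g⁆ * a⁻¹ * ⁅a', g⁆⁻¹ ∈ A :=
      ((mem_normalizer_iff.1 (hg a' ha').2) a⁻¹).1 (inv_mem ha)
    have : ⁅a, ⁅a', g⁆⁆ = a * (⁅a', g⁆ * a⁻¹ * ⁅a', g⁆⁻¹) := by
      rw [commutatorElement_def a]
      group
    rw [this]
    exact mul_mem ha h1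
  have heM : ∀ a ∈ A, ∀ a' ∈ A, ⁅a, ⁅a', g⁆⁆ ∈ M := by
    intro a ha a' ha'
    have h1 := commutatorElement_mul_left_expand a a' g
    have : ⁅a, ⁅a', g⁆⁆ = ⁅a * a', g⁆ * ⁅a, g⁆⁻¹ * ⁅a', g⁆⁻¹ := by
      rw [h1]
      group
    rw [this]
    exact mul_mem (mul_mem (hcM _ (mul_mem ha ha')) (inv_mem (hcM a ha))) (inv_mem (hcM a' ha'))
  have hesymm : ∀ a ∈ A, ∀ a' ∈ A, ⁅a, ⁅a', g⁆⁆ = ⁅a', ⁅a, g⁆⁆ := by
    intro a ha a' ha'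
    have h1 := commutatorElement_mul_left_expand a a' g
    have h2 := commutatorElement_mul_left_expand a' a g
    rw [setLike_mul_comm ha ha'] at h1
    rw [h1] at h2
    have h3 : ⁅a', g⁆ * ⁅a, g⁆ = ⁅a, g⁆ * ⁅a', g⁆ := hMcomm _ (hcM a' ha') _ (hcM a ha)
    rw [mul_assoc, mul_assoc, h3] at h2
    exact mul_right_cancel h2
  -- if ⁅a, g⁆ ∈ A then a ∈ K
  have hL1 : ∀ a ∈ A, ⁅a, g⁆ ∈ A → a ∈ K := by
    intro a ha hca
    rw [hK]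
    refine Subgroup.mem_inf.2 ⟨ha, ?_⟩
    have hle : M ≤ centralizer ({a} : Set S) := by
      rw [hM, closure_le]
      rintro _ ⟨a', ha', rfl⟩
      rw [SetLike.mem_coe, mem_centralizer_iff]
      intro y hy
      rw [Set.mem_singleton_iff] at hy
      subst hy
      have h1 : ⁅a', ⁅y, g⁆⁆ = 1 := by
        rw [commutatorElement_eq_one_iff_mul_comm]
        exact setLike_mul_comm ha' hca
      have h2 : ⁅y, ⁅a', g⁆⁆ = 1 := by rw [hesymm y ha a' ha', h1]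
      exact commutatorElement_eq_one_iff_mul_comm.1 h2
    rw [mem_centralizer_iff]
    intro u hu
    have := (mem_centralizer_iff.1 (hle hu)) a rfl
    exact this.symm
  -- injectivity on cosets
  have hinj : ∀ a₁ ∈ A, ∀ a₂ ∈ A, ⁅a₁, g⁆⁻¹ * ⁅a₂, g⁆ ∈ M ⊓ A → a₁⁻¹ * a₂ ∈ K := by
    intro a₁ ha₁ a₂ ha₂ h
    apply hL1 _ (mul_mem (inv_mem ha₁) ha₂)
    have h1 := commutatorElement_mul_left_expand a₁⁻¹ a₂ g
    have h2 := commutatorElement_mul_left_expand a₁⁻¹ a₁ g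
    rw [inv_mul_cancel, commutatorElement_one_left] at h2
    have h3 : ⁅a₁⁻¹, g⁆ = ⁅a₁, g⁆⁻¹ * ⁅a₁⁻¹, ⁅a₁, g⁆⁆⁻¹ := by
      have : ⁅a₁⁻¹, ⁅a₁, g⁆⁆ * ⁅a₁, g⁆ * ⁅a₁⁻¹, g⁆ = 1 := h2.symm
      calc ⁅a₁⁻¹, g⁆ = ⁅a₁, g⁆⁻¹ * ⁅a₁⁻¹, ⁅a₁, g⁆⁆⁻¹ *
            (⁅a₁⁻¹, ⁅a₁, g⁆⁆ * ⁅a₁, g⁆ * ⁅a₁⁻¹, g⁆) := by group
        _ = ⁅a₁, g⁆⁻¹ * ⁅a₁⁻¹, ⁅a₁, g⁆⁆⁻¹ := by rw [this, mul_one]
    have h4 : ⁅a₂, g⁆ * ⁅a₁, g⁆⁻¹ = ⁅a₁, g⁆⁻¹ * ⁅a₂, g⁆ :=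
      hMcomm _ (hcM a₂ ha₂) _ (inv_mem (hcM a₁ ha₁))
    have h5 : ⁅a₁⁻¹ * a₂, g⁆ =
        ⁅a₁⁻¹, ⁅a₂, g⁆⁆ * (⁅a₁, g⁆⁻¹ * ⁅a₂, g⁆) * ⁅a₁⁻¹, ⁅a₁, g⁆⁆⁻¹ := by
      rw [h1, h3, ← h4]
      group
    rw [h5]
    exact mul_mem (mul_mem (heA _ (inv_mem ha₁) _ ha₂) (Subgroup.mem_inf.1 h).2)
      (inv_mem (heA _ (inv_mem ha₁) _ ha₁))
  have hcount1 : Nat.card A * Nat.card ↥(M ⊓ A) ≤ Nat.card K * Nat.card M :=
    card_mul_card_le_of_coset_injective hKA inf_le_left (fun a => ⁅a, g⁆) hcM hinj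
  have hcount2 := card_mul_card_le_card_sup_mul_card_inf M K
  have hinfeq : M ⊓ K = M ⊓ A := by
    apply le_antisymm (inf_le_inf_left M hKA)
    intro u hu
    obtain ⟨huM, huA⟩ := Subgroup.mem_inf.1 hu
    refine Subgroup.mem_inf.2 ⟨huM, Subgroup.mem_inf.2 ⟨huA, ?_⟩⟩
    rw [mem_centralizer_iff]
    intro v hv
    exact hMcomm v hv u huM
  rw [hinfeq] at hcount2
  refine ⟨M ⊔ K, ?_, ?_, ?_, ?_, ?_⟩
  · have hsup : M ⊔ K = closure ((M : Set S) ∪ (K : Set S)) := by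
      rw [Subgroup.closure_union, closure_eq, closure_eq]
    rw [hsup]
    apply isMulCommutative_closure
    rintro u (hu | hu) v (hv | hv)
    · exact hMcomm u hu v hv
    · exact hKM v hv u hu
    · exact (hKM u hu v hv).symm
    · exact setLike_mul_comm (hKA hu) (hKA hv)
  · have hpos : 0 < Nat.card ↥(M ⊓ A) := Nat.card_pos
    have : Nat.card A * Nat.card ↥(M ⊓ A) ≤ Nat.card ↥(M ⊔ K) * Nat.card ↥(M ⊓ A) := by
      calc Nat.card A * Nat.card ↥(M ⊓ A) ≤ Nat.card K * Nat.card M := hcount1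
        _ = Nat.card M * Nat.card K := Nat.mul_comm _ _
        _ ≤ Nat.card ↥(M ⊔ K) * Nat.card ↥(M ⊓ A) := hcount2
    exact Nat.le_of_mul_le_mul_right this hpos
  · apply sup_le
    · rw [hM, closure_le]
      rintro _ ⟨a, ha, rfl⟩
      have hn : (normalClosure (A : Set S)).Normal := normalClosure_normal
      have h1 : a ∈ normalClosure (A : Set S) := le_normalClosure ha
      have h2 : g * a⁻¹ * g⁻¹ ∈ normalClosure (A : Set S) := hn.conj_mem _ (inv_mem h1) g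
      have : ⁅a, g⁆ = a * (g * a⁻¹ * g⁻¹) := by rw [commutatorElement_def]; group
      rw [SetLike.mem_coe, this]
      exact mul_mem h1 h2
    · exact hKA.trans le_normalClosure
  · intro u hu
    obtain ⟨huA, huB⟩ := Subgroup.mem_inf.1 hu
    refine Subgroup.mem_inf.2 ⟨?_, huB⟩
    apply (le_sup_right : K ≤ M ⊔ K)
    refine Subgroup.mem_inf.2 ⟨huA, ?_⟩
    rw [mem_centralizer_iff]
    intro v hv
    exact setLike_mul_comm (hMBn hv) huB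
  · intro a ha
    exact (le_sup_left : M ≤ M ⊔ K) (hcM a ha)

/-! ### An exact replacement construction

For an abelian subgroup `A` and an element `x`, put `M = ⟨⁅a, x⁆ : a ∈ A⟩` and
`K = {a ∈ A | ⁅a, x⁆ ∈ A}`.  If the commutators `⁅a, x⁆` normalize `A` and commute pairwise,
then `M ⊔ K` is abelian of order at least `|A|`, with equality if moreover `⁅u, x⁆ ∈ A` for all
`u ∈ M ⊓ A`. -/

/-- `M = ⟨⁅a, x⁆ : a ∈ A⟩`. -/
def replM (A : Subgroup S) (x : S) : Subgroup S := closure {y | ∃ a ∈ A, y = ⁅a, x⁆}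

/-- `K = {a ∈ A | ⁅a, x⁆ ∈ A} = A ⊓ x⁻¹ A x`. -/
def replK (A : Subgroup S) (x : S) : Subgroup S :=
  A ⊓ A.map (MulAut.conj x⁻¹).toMonoidHom

/-- The replacement subgroup `M ⊔ K`. -/
def replStar (A : Subgroup S) (x : S) : Subgroup S := replM A x ⊔ replK A x

theorem commutator_mem_replM {A : Subgroup S} {x a : S} (ha : a ∈ A) : ⁅a, x⁆ ∈ replM A x :=
  subset_closure ⟨a, ha, rfl⟩

theorem mem_replK {A : Subgroup S} {x a : S} : a ∈ replK A x ↔ a ∈ A ∧ ⁅a, x⁆ ∈ A := by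
  rw [replK, Subgroup.mem_inf]
  have h1 : a ∈ A.map (MulAut.conj x⁻¹).toMonoidHom ↔ x * a * x⁻¹ ∈ A := by
    constructor
    · rintro ⟨b, hb, rfl⟩
      have : x * (MulAut.conj x⁻¹).toMonoidHom b * x⁻¹ = b := by
        show x * (x⁻¹ * b * x⁻¹⁻¹) * x⁻¹ = b
        group
      rw [this]
      exact hb
    · intro h
      refine ⟨x * a * x⁻¹, h, ?_⟩
      show x⁻¹ * (x * a * x⁻¹) * x⁻¹⁻¹ = a
      group
  rw [h1]
  constructor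
  · rintro ⟨ha, h⟩
    refine ⟨ha, ?_⟩
    have : ⁅a, x⁆ = a * (x * a * x⁻¹)⁻¹ := by rw [commutatorElement_def]; group
    rw [this]
    exact mul_mem ha (inv_mem h)
  · rintro ⟨ha, h⟩
    refine ⟨ha, ?_⟩
    have : x * a * x⁻¹ = ⁅a, x⁆⁻¹ * a := by rw [commutatorElement_def]; group
    rw [this]
    exact mul_mem (inv_mem h) ha

theorem replK_le (A : Subgroup S) (x : S) : replK A x ≤ A := inf_le_left

theorem replM_le_normalizer {A : Subgroup S} {x : S}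
    (hN : ∀ a ∈ A, ⁅a, x⁆ ∈ normalizer (A : Set S)) : replM A x ≤ normalizer (A : Set S) := by
  rw [replM, closure_le]
  rintro _ ⟨a, ha, rfl⟩
  exact hN a ha

theorem replStar_le_normalizer {A : Subgroup S} {x : S}
    (hN : ∀ a ∈ A, ⁅a, x⁆ ∈ normalizer (A : Set S)) : replStar A x ≤ normalizer (A : Set S) :=
  sup_le (replM_le_normalizer hN) ((replK_le A x).trans le_normalizer)

theorem replStar_le_normalClosure (A : Subgroup S) (x : S) :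
    replStar A x ≤ normalClosure (A : Set S) := by
  apply sup_le
  · rw [replM, closure_le]
    rintro _ ⟨a, ha, rfl⟩
    have hn : (normalClosure (A : Set S)).Normal := normalClosure_normal
    have h1 : a ∈ normalClosure (A : Set S) := le_normalClosure ha
    have h2 : x * a⁻¹ * x⁻¹ ∈ normalClosure (A : Set S) := hn.conj_mem _ (inv_mem h1) x
    have : ⁅a, x⁆ = a * (x * a⁻¹ * x⁻¹) := by rw [commutatorElement_def]; group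
    rw [SetLike.mem_coe, this]
    exact mul_mem h1 h2
  · exact (replK_le A x).trans le_normalClosure

section replacement

variable {A : Subgroup S} [hAc : IsMulCommutative A] {x : S}

theorem replM_comm (hC : ∀ a ∈ A, ∀ a' ∈ A, Commute ⁅a, x⁆ ⁅a', x⁆) :
    ∀ u ∈ replM A x, ∀ v ∈ replM A x, u * v = v * u := by
  have : IsMulCommutative (replM A x) := by
    rw [replM]
    apply isMulCommutative_closure
    rintro _ ⟨a, ha, rfl⟩ _ ⟨a', ha', rfl⟩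
    exact (hC a ha a' ha').eq
  intro u hu v hv
  exact setLike_mul_comm hu hv

theorem repl_double_mem (hN : ∀ a ∈ A, ⁅a, x⁆ ∈ normalizer (A : Set S)) :
    ∀ a ∈ A, ∀ a' ∈ A, ⁅a, ⁅a', x⁆⁆ ∈ A := by
  intro a ha a' ha'
  have h1 : ⁅a', x⁆ * a⁻¹ * ⁅a', x⁆⁻¹ ∈ A :=
    ((mem_normalizer_iff.1 (hN a' ha')) a⁻¹).1 (inv_mem ha)
  have : ⁅a, ⁅a', x⁆⁆ = a * (⁅a', x⁆ * a⁻¹ * ⁅a', x⁆⁻¹) := by
    rw [commutatorElement_def a]
    group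
  rw [this]
  exact mul_mem ha h1

theorem repl_double_mem_replM : ∀ a ∈ A, ∀ a' ∈ A, ⁅a, ⁅a', x⁆⁆ ∈ replM A x := by
  intro a ha a' ha'
  have h1 := commutatorElement_mul_left_expand a a' x
  have : ⁅a, ⁅a', x⁆⁆ = ⁅a * a', x⁆ * ⁅a, x⁆⁻¹ * ⁅a', x⁆⁻¹ := by
    rw [h1]
    group
  rw [this]
  exact mul_mem (mul_mem (commutator_mem_replM (mul_mem ha ha'))
    (inv_mem (commutator_mem_replM ha))) (inv_mem (commutator_mem_replM ha'))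

theorem repl_double_symm (hC : ∀ a ∈ A, ∀ a' ∈ A, Commute ⁅a, x⁆ ⁅a', x⁆) :
    ∀ a ∈ A, ∀ a' ∈ A, ⁅a, ⁅a', x⁆⁆ = ⁅a', ⁅a, x⁆⁆ := by
  intro a ha a' ha'
  have h1 := commutatorElement_mul_left_expand a a' x
  have h2 := commutatorElement_mul_left_expand a' a x
  rw [setLike_mul_comm ha ha'] at h1
  rw [h1] at h2
  have h3 : ⁅a', x⁆ * ⁅a, x⁆ = ⁅a, x⁆ * ⁅a', x⁆ := (hC a' ha' a ha).eq
  rw [mul_assoc, mul_assoc, h3] at h2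
  exact mul_right_cancel h2

/-- Elements of `K` centralize `M`. -/
theorem replK_commute_replM (hC : ∀ a ∈ A, ∀ a' ∈ A, Commute ⁅a, x⁆ ⁅a', x⁆) :
    ∀ k ∈ replK A x, ∀ u ∈ replM A x, u * k = k * u := by
  intro a hak u hu
  obtain ⟨ha, hca⟩ := mem_replK.1 hak
  have hle : replM A x ≤ centralizer ({a} : Set S) := by
    rw [replM, closure_le]
    rintro _ ⟨a', ha', rfl⟩
    rw [SetLike.mem_coe, mem_centralizer_iff]
    intro y hy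
    rw [Set.mem_singleton_iff] at hy
    subst hy
    have h1 : ⁅a', ⁅y, x⁆⁆ = 1 := by
      rw [commutatorElement_eq_one_iff_mul_comm]
      exact setLike_mul_comm ha' hca
    have h2 : ⁅y, ⁅a', x⁆⁆ = 1 := by rw [repl_double_symm hC y ha a' ha', h1]
    exact commutatorElement_eq_one_iff_mul_comm.1 h2
  have := (mem_centralizer_iff.1 (hle hu)) a rfl
  exact this.symm

theorem replStar_comm (hC : ∀ a ∈ A, ∀ a' ∈ A, Commute ⁅a, x⁆ ⁅a', x⁆) :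
    IsMulCommutative (replStar A x) := by
  have hsup : replStar A x = closure ((replM A x : Set S) ∪ (replK A x : Set S)) := by
    rw [replStar, Subgroup.closure_union, closure_eq, closure_eq]
  rw [hsup]
  apply isMulCommutative_closure
  rintro u (hu | hu) v (hv | hv)
  · exact replM_comm hC u hu v hv
  · exact replK_commute_replM hC v hv u hu
  · exact (replK_commute_replM hC u hu v hv).symm
  · exact setLike_mul_comm (replK_le A x hu) (replK_le A x hv)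

/-- The expansion of `⁅a₁⁻¹ * a₂, x⁆`. -/
theorem repl_expand_inv_mul (hC : ∀ a ∈ A, ∀ a' ∈ A, Commute ⁅a, x⁆ ⁅a', x⁆)
    {a₁ a₂ : S} (ha₁ : a₁ ∈ A) (ha₂ : a₂ ∈ A) :
    ⁅a₁⁻¹ * a₂, x⁆ = ⁅a₁⁻¹, ⁅a₂, x⁆⁆ * (⁅a₁, x⁆⁻¹ * ⁅a₂, x⁆) * ⁅a₁⁻¹, ⁅a₁, x⁆⁆⁻¹ := by
  have h1 := commutatorElement_mul_left_expand a₁⁻¹ a₂ x
  have h2 := commutatorElement_mul_left_expand a₁⁻¹ a₁ x
  rw [inv_mul_cancel, commutatorElement_one_left] at h2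
  have h3 : ⁅a₁⁻¹, x⁆ = ⁅a₁, x⁆⁻¹ * ⁅a₁⁻¹, ⁅a₁, x⁆⁆⁻¹ := by
    have : ⁅a₁⁻¹, ⁅a₁, x⁆⁆ * ⁅a₁, x⁆ * ⁅a₁⁻¹, x⁆ = 1 := h2.symm
    calc ⁅a₁⁻¹, x⁆ = ⁅a₁, x⁆⁻¹ * ⁅a₁⁻¹, ⁅a₁, x⁆⁆⁻¹ *
          (⁅a₁⁻¹, ⁅a₁, x⁆⁆ * ⁅a₁, x⁆ * ⁅a₁⁻¹, x⁆) := by group
      _ = ⁅a₁, x⁆⁻¹ * ⁅a₁⁻¹, ⁅a₁, x⁆⁆⁻¹ := by rw [this, mul_one]
  have h4 : ⁅a₂, x⁆ * ⁅a₁, x⁆⁻¹ = ⁅a₁, x⁆⁻¹ * ⁅a₂, x⁆ := ((hC a₂ ha₂ a₁ ha₁).inv_right).eq
  rw [h1, h3, ← h4]
  group

/-- The replacement subgroup has order at least `|A|`. -/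
theorem card_le_card_replStar [Finite S] (hN : ∀ a ∈ A, ⁅a, x⁆ ∈ normalizer (A : Set S))
    (hC : ∀ a ∈ A, ∀ a' ∈ A, Commute ⁅a, x⁆ ⁅a', x⁆) :
    Nat.card A ≤ Nat.card (replStar A x) := by
  have hinj : ∀ a₁ ∈ A, ∀ a₂ ∈ A, ⁅a₁, x⁆⁻¹ * ⁅a₂, x⁆ ∈ replK A x → a₁⁻¹ * a₂ ∈ replK A x := by
    intro a₁ ha₁ a₂ ha₂ h
    rw [mem_replK]
    refine ⟨mul_mem (inv_mem ha₁) ha₂, ?_⟩
    rw [repl_expand_inv_mul hC ha₁ ha₂]
    exact mul_mem (mul_mem (repl_double_mem hN _ (inv_mem ha₁) _ ha₂) (replK_le A x h))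
      (inv_mem (repl_double_mem hN _ (inv_mem ha₁) _ ha₁))
  have h1 : Nat.card A * Nat.card (replK A x) ≤ Nat.card (replK A x) * Nat.card (replStar A x) :=
    card_mul_card_le_of_coset_injective (replK_le A x) (le_sup_right : replK A x ≤ replStar A x)
      (fun a => ⁅a, x⁆) (fun a ha => (le_sup_left : replM A x ≤ replStar A x)
        (commutator_mem_replM ha)) hinj
  have hpos : 0 < Nat.card (replK A x) := Nat.card_pos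
  rw [Nat.mul_comm (Nat.card (replK A x))] at h1
  exact Nat.le_of_mul_le_mul_right h1 hpos

/-- Every element of the replacement subgroup is of the form `⁅a, x⁆ * k` with `a ∈ A`,
`k ∈ K`. -/
theorem exists_of_mem_replStar (hN : ∀ a ∈ A, ⁅a, x⁆ ∈ normalizer (A : Set S))
    (hC : ∀ a ∈ A, ∀ a' ∈ A, Commute ⁅a, x⁆ ⁅a', x⁆)
    (hMA : ∀ u ∈ replM A x, u ∈ A → ⁅u, x⁆ ∈ A) :
    ∀ m ∈ replStar A x, ∃ a ∈ A, ⁅a, x⁆⁻¹ * m ∈ replK A x := by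
  have hcomm := replStar_comm (A := A) (x := x) hC
  have hdK : ∀ a ∈ A, ∀ a' ∈ A, ⁅a, ⁅a', x⁆⁆ ∈ replK A x := by
    intro a ha a' ha'
    rw [mem_replK]
    exact ⟨repl_double_mem hN a ha a' ha',
      hMA _ (repl_double_mem_replM a ha a' ha') (repl_double_mem hN a ha a' ha')⟩
  have hcS : ∀ a ∈ A, ⁅a, x⁆ ∈ replStar A x := fun a ha =>
    (le_sup_left : replM A x ≤ replStar A x) (commutator_mem_replM ha)
  have hKS : replK A x ≤ replStar A x := le_sup_right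
  have hsup : replStar A x = closure ((replM A x : Set S) ∪ (replK A x : Set S)) := by
    rw [replStar, Subgroup.closure_union, closure_eq, closure_eq]
  have hgen : replStar A x = closure ({y | ∃ a ∈ A, y = ⁅a, x⁆} ∪ (replK A x : Set S)) := by
    rw [replStar, replM, Subgroup.closure_union, closure_eq]
  intro m hm
  rw [hgen] at hm
  induction hm using closure_induction with
  | mem y hy =>
    rcases hy with ⟨a, ha, rfl⟩ | hy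
    · exact ⟨a, ha, by rw [inv_mul_cancel]; exact one_mem _⟩
    · exact ⟨1, one_mem _, by rw [commutatorElement_one_left, inv_one, one_mul]; exact hy⟩
  | one => exact ⟨1, one_mem _, by rw [commutatorElement_one_left, inv_one, one_mul]; exact one_mem _⟩
  | mul m₁ m₂ hm₁ hm₂ ih₁ ih₂ =>
    obtain ⟨a₁, ha₁, hk₁⟩ := ih₁
    obtain ⟨a₂, ha₂, hk₂⟩ := ih₂
    refine ⟨a₁ * a₂, mul_mem ha₁ ha₂, ?_⟩
    have hm₁S : m₁ ∈ replStar A x := by rw [hgen]; exact hm₁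
    have hm₂S : m₂ ∈ replStar A x := by rw [hgen]; exact hm₂
    have e1 := commutatorElement_mul_left_expand a₁ a₂ x
    -- ⁅a₁ * a₂, x⁆⁻¹ * (m₁ * m₂) = (⁅a₁,x⁆⁻¹ * m₁) * (⁅a₂,x⁆⁻¹ * m₂) * ⁅a₁,⁅a₂,x⁆⁆⁻¹
    have e2 : ⁅a₁ * a₂, x⁆⁻¹ * (m₁ * m₂) =
        (⁅a₁, x⁆⁻¹ * m₁) * (⁅a₂, x⁆⁻¹ * m₂) * ⁅a₁, ⁅a₂, x⁆⁆⁻¹ := by
      have c1 : m₁ * ⁅a₂, x⁆⁻¹ = ⁅a₂, x⁆⁻¹ * m₁ :=
        setLike_mul_comm hm₁S (inv_mem (hcS a₂ ha₂))
      have c2 : (⁅a₁, x⁆⁻¹ * m₁) * (⁅a₂, x⁆⁻¹ * m₂) * ⁅a₁, ⁅a₂, x⁆⁆⁻¹ =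
          ⁅a₁, ⁅a₂, x⁆⁆⁻¹ * ((⁅a₁, x⁆⁻¹ * m₁) * (⁅a₂, x⁆⁻¹ * m₂)) :=
        setLike_mul_comm (mul_mem (mul_mem (inv_mem (hcS a₁ ha₁)) hm₁S)
          (mul_mem (inv_mem (hcS a₂ ha₂)) hm₂S)) (inv_mem (hKS (hdK a₁ ha₁ a₂ ha₂)))
      rw [c2, e1]
      calc (⁅a₁, ⁅a₂, x⁆⁆ * ⁅a₂, x⁆ * ⁅a₁, x⁆)⁻¹ * (m₁ * m₂)
          = ⁅a₁, x⁆⁻¹ * ⁅a₂, x⁆⁻¹ * ⁅a₁, ⁅a₂, x⁆⁆⁻¹ * (m₁ * m₂) := by group
        _ = ⁅a₁, ⁅a₂, x⁆⁆⁻¹ * (⁅a₁, x⁆⁻¹ * ⁅a₂, x⁆⁻¹) * (m₁ * m₂) := by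
          rw [setLike_mul_comm (mul_mem (inv_mem (hcS a₁ ha₁)) (inv_mem (hcS a₂ ha₂)))
            (inv_mem (hKS (hdK a₁ ha₁ a₂ ha₂)))]
        _ = ⁅a₁, ⁅a₂, x⁆⁆⁻¹ * (⁅a₁, x⁆⁻¹ * (⁅a₂, x⁆⁻¹ * m₁) * m₂) := by group
        _ = ⁅a₁, ⁅a₂, x⁆⁆⁻¹ * (⁅a₁, x⁆⁻¹ * (m₁ * ⁅a₂, x⁆⁻¹) * m₂) := by rw [c1]
        _ = ⁅a₁, ⁅a₂, x⁆⁆⁻¹ * (⁅a₁, x⁆⁻¹ * m₁ * (⁅a₂, x⁆⁻¹ * m₂)) := by group
    rw [e2]
    exact mul_mem (mul_mem hk₁ hk₂) (inv_mem (hdK a₁ ha₁ a₂ ha₂))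
  | inv m hm ih =>
    obtain ⟨a, ha, hk⟩ := ih
    refine ⟨a⁻¹, inv_mem ha, ?_⟩
    have hmS : m ∈ replStar A x := by rw [hgen]; exact hm
    have h2 := commutatorElement_mul_left_expand a⁻¹ a x
    rw [inv_mul_cancel, commutatorElement_one_left] at h2
    -- ⁅a⁻¹, x⁆⁻¹ = ⁅a⁻¹, ⁅a, x⁆⁆ * ⁅a, x⁆
    have h3 : ⁅a⁻¹, x⁆⁻¹ = ⁅a⁻¹, ⁅a, x⁆⁆ * ⁅a, x⁆ := by
      have : ⁅a⁻¹, ⁅a, x⁆⁆ * ⁅a, x⁆ * ⁅a⁻¹, x⁆ = 1 := h2.symm
      exact inv_eq_of_mul_eq_one_left this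
    have e : ⁅a⁻¹, x⁆⁻¹ * m⁻¹ = ⁅a⁻¹, ⁅a, x⁆⁆ * (⁅a, x⁆⁻¹ * m)⁻¹ := by
      rw [h3, mul_inv_rev, inv_inv, mul_assoc]
      congr 1
      exact setLike_mul_comm (hcS a ha) (inv_mem hmS)
    rw [e]
    exact mul_mem (hdK _ (inv_mem ha) a ha) (inv_mem hk)

/-- The replacement subgroup has order at most `|A|`. -/
theorem card_replStar_le [Finite S] (hN : ∀ a ∈ A, ⁅a, x⁆ ∈ normalizer (A : Set S))
    (hC : ∀ a ∈ A, ∀ a' ∈ A, Commute ⁅a, x⁆ ⁅a', x⁆)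
    (hMA : ∀ u ∈ replM A x, u ∈ A → ⁅u, x⁆ ∈ A) :
    Nat.card (replStar A x) ≤ Nat.card A := by
  classical
  have hcomm := replStar_comm (A := A) (x := x) hC
  have hex := exists_of_mem_replStar hN hC hMA
  let ψ : S → S := fun m => if h : m ∈ replStar A x then Classical.choose (hex m h) else 1
  have hψ : ∀ m ∈ replStar A x, ψ m ∈ A ∧ ⁅ψ m, x⁆⁻¹ * m ∈ replK A x := by
    intro m hm
    have := Classical.choose_spec (hex m hm)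
    simp only [ψ, dif_pos hm]
    exact this
  have hcS : ∀ a ∈ A, ⁅a, x⁆ ∈ replStar A x := fun a ha =>
    (le_sup_left : replM A x ≤ replStar A x) (commutator_mem_replM ha)
  have hKS : replK A x ≤ replStar A x := le_sup_right
  have hinj : ∀ m₁ ∈ replStar A x, ∀ m₂ ∈ replStar A x,
      (ψ m₁)⁻¹ * ψ m₂ ∈ replK A x → m₁⁻¹ * m₂ ∈ replK A x := by
    intro m₁ hm₁ m₂ hm₂ h
    obtain ⟨ha₁, hk₁⟩ := hψ m₁ hm₁
    obtain ⟨ha₂, hk₂⟩ := hψ m₂ hm₂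
    set a₁ := ψ m₁
    set a₂ := ψ m₂
    -- ⁅a₁, x⁆⁻¹ * ⁅a₂, x⁆ ∈ K
    have hcA : ⁅a₁⁻¹ * a₂, x⁆ ∈ A := (mem_replK.1 h).2
    have hexp := repl_expand_inv_mul hC ha₁ ha₂
    have hu : ⁅a₁, x⁆⁻¹ * ⁅a₂, x⁆ ∈ A := by
      have : ⁅a₁, x⁆⁻¹ * ⁅a₂, x⁆ =
          ⁅a₁⁻¹, ⁅a₂, x⁆⁆⁻¹ * ⁅a₁⁻¹ * a₂, x⁆ * ⁅a₁⁻¹, ⁅a₁, x⁆⁆ := by
        rw [hexp]
        group
      rw [this]
      exact mul_mem (mul_mem (inv_mem (repl_double_mem hN _ (inv_mem ha₁) _ ha₂)) hcA)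
        (repl_double_mem hN _ (inv_mem ha₁) _ ha₁)
    have huK : ⁅a₁, x⁆⁻¹ * ⁅a₂, x⁆ ∈ replK A x := by
      rw [mem_replK]
      exact ⟨hu, hMA _ (mul_mem (inv_mem (commutator_mem_replM ha₁)) (commutator_mem_replM ha₂)) hu⟩
    have e : m₁⁻¹ * m₂ = (⁅a₁, x⁆⁻¹ * m₁)⁻¹ * (⁅a₁, x⁆⁻¹ * ⁅a₂, x⁆) * (⁅a₂, x⁆⁻¹ * m₂) := by
      group
    rw [e]
    exact mul_mem (mul_mem (inv_mem hk₁) huK) hk₂
  have h1 : Nat.card (replStar A x) * Nat.card (replK A x) ≤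
      Nat.card (replK A x) * Nat.card A :=
    card_mul_card_le_of_coset_injective hKS (replK_le A x) ψ (fun m hm => (hψ m hm).1) hinj
  have hpos : 0 < Nat.card (replK A x) := Nat.card_pos
  rw [Nat.mul_comm (Nat.card (replK A x))] at h1
  exact Nat.le_of_mul_le_mul_right h1 hpos

end replacement

end Cfsg.Agent.Lib.helper57
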