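import Mathlib
import Cfsg.Agent.Lib.helper44.CubeDefs

set_option autoImplicit false

namespace Cfsg.Agent.Lib.helper57.Cube

open Cfsg.Agent.Lib.helper44.Cube

/-- Cayley–Hamilton in `SL₂`. -/
theorem sl2_cayley {K : Type*} [Field K] (s : Matrix.SpecialLinearGroup (Fin 2) K) :
    (s : Matrix (Fin 2) (Fin 2) K) * (s : Matrix (Fin 2) (Fin 2) K) =
      Matrix.trace (s : Matrix (Fin 2) (Fin 2) K) • (s : Matrix (Fin 2) (Fin 2) K) - 1 := by
  have hd := s.2
  rw [Matrix.det_fin_two] at hd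
  rw [Matrix.trace_fin_two]
  ext i j
  fin_cases i <;> fin_cases j <;>
    simp [Matrix.mul_apply, Fin.sum_univ_two] <;>
    first
      | linear_combination (-1 : K) * hd
      | linear_combination hd
      | ring

/-- The trace of the Frobenius twist is the cube of the trace. -/
theorem trace_frobSL {K : Type*} [Field K] [ExpChar K 3]
    (g : Matrix.SpecialLinearGroup (Fin 2) K) :
    Matrix.trace ((frobSL K g : Matrix.SpecialLinearGroup (Fin 2) K) : Matrix (Fin 2) (Fin 2) K)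
      = (Matrix.trace (g : Matrix (Fin 2) (Fin 2) K)) ^ 3 := by
  rw [Matrix.trace_fin_two, Matrix.trace_fin_two]
  have h : ∀ i j, ((frobSL K g : Matrix.SpecialLinearGroup (Fin 2) K) :
      Matrix (Fin 2) (Fin 2) K) i j = frobenius K 3 ((g : Matrix (Fin 2) (Fin 2) K) i j) :=
    fun i j => rfl
  rw [h, h, ← map_add, frobenius_def]

/-- PIECE C3 of the S3626 split: the twisted action has no fixed points. -/
theorem twL_no_fix {K : Type*} [Field K] [ExpChar K 3] (hsq : ∀ y : K, y * y ≠ -1)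
    (ε : K) (hε : ε = 1 ∨ ε = -1) (g : Matrix.SpecialLinearGroup (Fin 2) K)
    (ht0 : Matrix.trace (g : Matrix (Fin 2) (Fin 2) K) ≠ 0)
    (ht1 : (Matrix.trace (g : Matrix (Fin 2) (Fin 2) K)) ^ 2 ≠ 1)
    (X : Matrix (Fin 2) (Fin 2) K) (hX : twL ε g X = X) : X = 0 := by
  obtain ⟨Gm, hGm⟩ : ∃ Gm : Matrix (Fin 2) (Fin 2) K, Gm = (g : Matrix (Fin 2) (Fin 2) K) :=
    ⟨_, rfl⟩
  obtain ⟨Sm, hSm⟩ : ∃ Sm : Matrix (Fin 2) (Fin 2) K,
      Sm = ((frobSL K g : Matrix.SpecialLinearGroup (Fin 2) K) : Matrix (Fin 2) (Fin 2) K) :=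
    ⟨_, rfl⟩
  obtain ⟨t, ht⟩ : ∃ t : K, t = Matrix.trace (g : Matrix (Fin 2) (Fin 2) K) := ⟨_, rfl⟩
  have hεε : ε * ε = 1 := sign_mul_self hε
  have hSS : (((frobSL K g)⁻¹ : Matrix.SpecialLinearGroup (Fin 2) K) :
      Matrix (Fin 2) (Fin 2) K) * Sm = 1 := by
    rw [hSm, ← Matrix.SpecialLinearGroup.coe_mul, inv_mul_cancel]
    rfl
  have hGG : ((g⁻¹ : Matrix.SpecialLinearGroup (Fin 2) K) : Matrix (Fin 2) (Fin 2) K) * Gm = 1 := by
    rw [hGm, ← Matrix.SpecialLinearGroup.coe_mul, inv_mul_cancel]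
    rfl
  -- `ε • (G X) = X S`
  have hE : ε • (Gm * X) = X * Sm := by
    have h1 : X * Sm = (twL ε g X) * Sm := by rw [hX]
    rw [h1, twL_def, ← hGm, Matrix.smul_mul, Matrix.mul_assoc, hSS, Matrix.mul_one]
  have hE' : Gm * X = ε • (X * Sm) := by
    rw [← hE, smul_smul, hεε, one_smul]
  -- Cayley–Hamilton for both
  have hG2 : Gm * Gm = t • Gm - 1 := by rw [hGm, ht]; exact sl2_cayley g
  have hS2 : Sm * Sm = (t ^ 3) • Sm - 1 := by
    rw [hSm, ht, ← trace_frobSL]
    exact sl2_cayley (frobSL K g)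
  -- `G G X = X S S`
  have h2 : Gm * Gm * X = X * Sm * Sm := by
    have h3 : Gm * (X * Sm) = ε • (Gm * Gm * X) := by
      rw [← hE, Matrix.mul_smul, Matrix.mul_assoc]
    have h4 : Gm * (X * Sm) = ε • (X * Sm * Sm) := by
      rw [← Matrix.mul_assoc, hE', Matrix.smul_mul]
    have h5 : ε • (Gm * Gm * X) = ε • (X * Sm * Sm) := by rw [← h3, h4]
    have h6 := congrArg (fun M => ε • M) h5
    simp only [smul_smul, hεε, one_smul] at h6
    exact h6
  have h7 : (t - t ^ 3 * ε) • (Gm * X) = 0 := by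
    have h8 : Gm * Gm * X = t • (Gm * X) - X := by
      rw [hG2, Matrix.sub_mul, Matrix.smul_mul, Matrix.one_mul]
    have h9 : X * Sm * Sm = (t ^ 3 * ε) • (Gm * X) - X := by
      rw [Matrix.mul_assoc, hS2, Matrix.mul_sub, Matrix.mul_smul, Matrix.mul_one, ← hE, smul_smul]
    rw [h8, h9] at h2
    rw [sub_smul]
    have h10 := sub_left_injective h2  -- t • (G X) = (t^3 ε) • (G X)
    rw [h10, sub_self]
  by_cases hz : t - t ^ 3 * ε = 0
  · exfalso
    have h11 : t * (1 - t ^ 2 * ε) = 0 := by linear_combination hz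
    rcases mul_eq_zero.mp h11 with h12 | h12
    · exact ht0 (ht ▸ h12)
    · rcases hε with h13 | h13
      · rw [h13] at h12
        apply ht1
        rw [← ht]
        linear_combination -h12
      · rw [h13] at h12
        apply hsq t
        linear_combination h12
  · have h14 : Gm * X = 0 := by
      rcases smul_eq_zero.mp h7 with h15 | h15
      · exact absurd h15 hz
      · exact h15
    have h16 : X = ((g⁻¹ : Matrix.SpecialLinearGroup (Fin 2) K) : Matrix (Fin 2) (Fin 2) K) *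
        (Gm * X) := by
      rw [← Matrix.mul_assoc, hGG, Matrix.one_mul]
    rw [h16, h14, Matrix.mul_zero]

end Cfsg.Agent.Lib.helper57.Cube
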