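import Mathlib
import Cfsg.Prelude.Def_LieTypeChar
import Cfsg.Agent.Lib.helper44.LODefs
import Cfsg.Agent.Lib.helper6.LOARITH
import Cfsg.Agent.Lib.helper57.LOE6core

/-!
# S2363, piece E6: `lo_e6` (verbatim Skel statement)
-/

set_option autoImplicit false

namespace Cfsg.Agent.Lib.helper44.LO

open Cfsg

/-- E6. -/
theorem lo_e6 {F : Type} [Field F] [Fintype F] (p : ℕ) (hp : p.Prime) [CharP F p] :
    LOGood p (Nat.card ↥(Cfsg.Lie.chevE6.group F)) :=
  h57_lo_e6_core p hp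
    (fun f hf c n N M e hc hcp hMp hM h1 h2 => lo_good hp f hf c n N M e hc hcp hMp hM h1 h2)

end Cfsg.Agent.Lib.helper44.LO
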