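import Mathlib
import Cfsg.Agent.Lib.helper44.SL3Defs

/-!
# S2287: auxiliary lemmas for the abstract sides `abs_gen`, `abs_prime`

Membership of the torus word `w12` and of the Weyl product in `rootE`, and the two
assemblies with the pieces MOD2 / MODP, A2G, GEN as hypotheses (`h57_abs_gen_core`,
`h57_abs_prime_core`).
-/

set_option autoImplicit false

namespace Cfsg.Agent.Lib.helper44.SL3

theorem h57_commute_of_cm {G : Type*} [Group G] {a b : G} (h : cm a b = 1) : Commute a b := by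
  unfold cm at h
  have h2 := congrArg (fun t => t * b * a) h
  have h3 : a * b = b * a := by simpa [mul_assoc] using h2
  exact h3

theorem h57_cc_mem {G : Type*} [Group G] {F : Type*} [Field F] {x : F → G} {c : G}
    (hcE : ∀ e ∈ rootE x c, c * e * c⁻¹ ∈ rootE x c) {e : G} (he : e ∈ rootE x c) :
    c * c * e * (c * c)⁻¹ ∈ rootE x c := by
  have h1 := hcE _ (hcE e he)
  have h2 : c * c * e * (c * c)⁻¹ = c * (c * e * c⁻¹) * c⁻¹ := by group
  rw [h2]; exact h1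

theorem h57_ZZ_one {G : Type*} [Group G] {F : Type*} [Field F] {x : F → G} {c u : G}
    (hx1 : x 1 = u) : ZZ x c 1 = wz u c := by
  unfold ZZ zz yy wz
  rw [hx1]

theorem h57_yy_one {G : Type*} [Group G] {F : Type*} [Field F] {x : F → G} {c u : G}
    (hx1 : x 1 = u) : yy x c 1 = wy u c := by
  unfold yy wy
  rw [hx1]

/-- `c ∈ rootE` from the Weyl relation `c = w21 * (c w21 c⁻¹)`. -/
theorem h57_c_mem {G : Type*} [Group G] {F : Type*} [Field F] {x : F → G} {c u : G}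
    (hx1 : x 1 = u) (hxE : ∀ a, x a ∈ rootE x c) (hZE : ∀ a, ZZ x c a ∈ rootE x c)
    (hcE : ∀ e ∈ rootE x c, c * e * c⁻¹ ∈ rootE x c)
    (r13 : c = w21 u c * (c * w21 u c * c⁻¹)) : c ∈ rootE x c := by
  have hz : wz u c ∈ rootE x c := by
    rw [← h57_ZZ_one (c := c) hx1]; exact hZE 1
  have hu : u ∈ rootE x c := by rw [← hx1]; exact hxE 1
  have hw : w21 u c ∈ rootE x c := by
    unfold w21
    exact (rootE x c).mul_mem ((rootE x c).mul_mem (hcE _ hz) ((rootE x c).inv_mem hu))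
      (hcE _ hz)
  have hw2 : w21 u c * (c * w21 u c * c⁻¹) ∈ rootE x c :=
    (rootE x c).mul_mem hw (hcE _ hw)
  exact (congrArg (fun t => t ∈ rootE x c) r13).mpr hw2

/-- `h ∈ rootE` from the torus relation `h = w12 u h c`. -/
theorem h57_h_mem {G : Type*} [Group G] {F : Type*} [Field F] {x : F → G} {h c u : G} {ω : F}
    (hx1 : x 1 = u) (hxE : ∀ a, x a ∈ rootE x c) (hZE : ∀ a, ZZ x c a ∈ rootE x c)
    (hcE : ∀ e ∈ rootE x c, c * e * c⁻¹ ∈ rootE x c)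
    (h_x : ∀ a, h * x a * h⁻¹ = x (ω * a)) (hω0 : ω ≠ 0)
    (r12 : h = w12 u h c) : h ∈ rootE x c := by
  have hz : wz u c ∈ rootE x c := by
    rw [← h57_ZZ_one (c := c) hx1]; exact hZE 1
  have hu : u ∈ rootE x c := by rw [← hx1]; exact hxE 1
  have hA : wZω u h c = ZZ x c ω := by
    unfold wZω ZZ zz yy
    rw [← hx1, h_x 1, mul_one]
  have hAm : wZω u h c ∈ rootE x c := by rw [hA]; exact hZE ω
  have h1 : h * x ω⁻¹ * h⁻¹ = x 1 := by rw [h_x, mul_inv_cancel₀ hω0]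
  have hB : h⁻¹ * u⁻¹ * h = (x ω⁻¹)⁻¹ := by
    rw [← hx1, ← h1]; group
  have hBm : c * c * (h⁻¹ * u⁻¹ * h) * (c * c)⁻¹ ∈ rootE x c := by
    rw [hB]; exact h57_cc_mem hcE ((rootE x c).inv_mem (hxE _))
  have hCm : c * c * u * (c * c)⁻¹ ∈ rootE x c := h57_cc_mem hcE hu
  have hw : w12 u h c ∈ rootE x c := by
    unfold w12
    exact (rootE x c).mul_mem ((rootE x c).mul_mem ((rootE x c).mul_mem ((rootE x c).mul_mem
      ((rootE x c).mul_mem hAm hBm) hAm) ((rootE x c).inv_mem hz)) hCm) ((rootE x c).inv_mem hz)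
  exact (congrArg (fun t => t ∈ rootE x c) r12).mpr hw

open Polynomial

/-- Core of `abs_gen`: the pieces MOD2, A2G, GEN enter as hypotheses. -/
theorem h57_abs_gen_core {G : Type*} [Group G] {F : Type*} [Field F] [Fintype F] {p : ℕ}
    [Fact p.Prime] [Algebra (ZMod p) F] (u h c g : G) (ω : F) (j : ℕ)
    (hω3 : Algebra.adjoin (ZMod p) {ω ^ 3} = ⊤) (hω0 : ω ≠ 0)
    (hrel : ∀ w ∈ relsGen p j (minpoly (ZMod p) ω) u h c g, w = 1)
    (hMOD : Algebra.adjoin (ZMod p) {ω} = ⊤ → ω ≠ 0 → Commute u (h * u * h⁻¹) →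
      h ^ j * u * (h ^ j)⁻¹ = u * (h * u * h⁻¹) →
      Pres.polyWord h u (minpoly (ZMod p) ω) = 1 →
      u ^ p = h * (c * h * c⁻¹) * (c * c * h * (c * c)⁻¹) → c * c * c = 1 →
      Commute h (c * h * c⁻¹) → Commute (h⁻¹ * (c * c * h * (c * c)⁻¹)) u →
      ∃ x : F → G, x 1 = u ∧ IsBase x h c ω ∧
        ∀ f : (ZMod p)[X], x (aeval ω f) = Pres.polyWord h u f)
    (hA2 : ∀ x : F → G, IsBase x h c ω → Algebra.adjoin (ZMod p) {ω ^ 3} = ⊤ →
      Commute (x 1) (ZZ x c 1) → Commute (yy x c 1) (ZZ x c 1) →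
      cm (ZZ x c 1) (WW x c 1) = x 1 →
      Commute ((c * c * h * (c * c)⁻¹) * (c * h * c⁻¹)⁻¹) (ZZ x c 1) → IsA2Conf x c)
    (hGEN : ∀ x : F → G, IsA2Conf x c →
      (∀ a, x a ∈ rootE x c) ∧ (∀ a, ZZ x c a ∈ rootE x c) ∧
        (∀ e ∈ rootE x c, c * e * c⁻¹ ∈ rootE x c)) :
    ∃ x : F → G, x 1 = u ∧ IsA2Conf x c ∧
      (∀ f : (ZMod p)[X], x (aeval ω f) = Pres.polyWord h u f) ∧
      h ∈ rootE x c ∧ c ∈ rootE x c ∧ g ∈ rootE x c := by
  obtain ⟨r1, r2, r3, r4, r5, r6, r7, r8, r9, r10, r11, r12, r13, r14, -⟩ :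
      cm (u) (h * u * h⁻¹) = 1 ∧
      h ^ j * u * (h ^ j)⁻¹ * (u * (h * u * h⁻¹))⁻¹ = 1 ∧
      Pres.polyWord h u (minpoly (ZMod p) ω) = 1 ∧
      u ^ p * (h * wk h c * wk' h c)⁻¹ = 1 ∧
      c * c * c = 1 ∧
      cm (h) (wk h c) = 1 ∧
      cm (h⁻¹ * wk' h c) (u) = 1 ∧
      cm (u) (wz u c) = 1 ∧
      cm (wy u c) (wz u c) = 1 ∧
      cm (wz u c) (c * c * wz u c * (c * c)⁻¹) * u⁻¹ = 1 ∧
      cm (wk' h c * (wk h c)⁻¹) (wz u c) = 1 ∧
      h * (w12 u h c)⁻¹ = 1 ∧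
      c * (w21 u c * (c * w21 u c * c⁻¹))⁻¹ = 1 ∧
      g = 1 ∧ True := by
    unfold relsGen at hrel
    simpa only [List.forall_mem_cons, List.not_mem_nil, false_imp_iff, implies_true] using hrel
  have hω : Algebra.adjoin (ZMod p) {ω} = ⊤ := by
    apply top_le_iff.mp
    rw [← hω3]
    apply Algebra.adjoin_le
    intro y hy
    rw [Set.mem_singleton_iff] at hy
    rw [hy]
    exact pow_mem (Algebra.subset_adjoin (Set.mem_singleton ω)) 3
  have hE : Commute u (h * u * h⁻¹) := h57_commute_of_cm r1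
  have hF : h ^ j * u * (h ^ j)⁻¹ = u * (h * u * h⁻¹) := mul_inv_eq_one.mp r2
  have hup : u ^ p = h * (c * h * c⁻¹) * (c * c * h * (c * c)⁻¹) := mul_inv_eq_one.mp r4
  have hk : Commute h (c * h * c⁻¹) := h57_commute_of_cm r6
  have h7 : Commute (h⁻¹ * (c * c * h * (c * c)⁻¹)) u := h57_commute_of_cm r7
  obtain ⟨x, hx1, hB, hxf⟩ := hMOD hω hω0 hE hF r3 hup r5 hk h7
  have hZ1 : ZZ x c 1 = wz u c := h57_ZZ_one hx1
  have hy1 : yy x c 1 = wy u c := h57_yy_one hx1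
  have h8 : Commute (x 1) (ZZ x c 1) := by
    rw [hZ1, hx1]; exact h57_commute_of_cm r8
  have h9 : Commute (yy x c 1) (ZZ x c 1) := by
    rw [hZ1, hy1]; exact h57_commute_of_cm r9
  have h10 : cm (ZZ x c 1) (WW x c 1) = x 1 := by
    unfold WW
    rw [hZ1, hx1]; exact mul_inv_eq_one.mp r10
  have h11 : Commute ((c * c * h * (c * c)⁻¹) * (c * h * c⁻¹)⁻¹) (ZZ x c 1) := by
    rw [hZ1]; exact h57_commute_of_cm r11
  have hconf : IsA2Conf x c := hA2 x hB hω3 h8 h9 h10 h11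
  obtain ⟨hxE, hZE, hcE⟩ := hGEN x hconf
  refine ⟨x, hx1, hconf, hxf, ?_, ?_, ?_⟩
  · exact h57_h_mem hx1 hxE hZE hcE hB.h_x hω0 (mul_inv_eq_one.mp r12)
  · exact h57_c_mem hx1 hxE hZE hcE (mul_inv_eq_one.mp r13)
  · rw [r14]; exact (rootE x c).one_mem

/-- Core of `abs_prime`: the pieces MODP, A2G, GEN enter as hypotheses. -/
theorem h57_abs_prime_core {G : Type*} [Group G] {F : Type*} [Field F] [Fintype F] {p : ℕ}
    [Fact p.Prime] [Algebra (ZMod p) F] (u h c g : G)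
    (hrel : ∀ w ∈ relsPrime p u h c g, w = 1)
    (hMOD : u ^ p = 1 → c * c * c = 1 →
      ∃ x : F → G, x 1 = u ∧ IsBase x 1 c 1 ∧
        Algebra.adjoin (ZMod p) {((1 : F)) ^ 3} = ⊤ ∧
        ∀ f : (ZMod p)[X], x (aeval (1 : F) f) = Pres.polyWord (1 : G) u f)
    (hA2 : ∀ x : F → G, IsBase x (1 : G) c (1 : F) →
      Algebra.adjoin (ZMod p) {((1 : F)) ^ 3} = ⊤ →
      Commute (x 1) (ZZ x c 1) → Commute (yy x c 1) (ZZ x c 1) →
      cm (ZZ x c 1) (WW x c 1) = x 1 →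
      Commute ((c * c * (1 : G) * (c * c)⁻¹) * (c * (1 : G) * c⁻¹)⁻¹) (ZZ x c 1) →
      IsA2Conf x c)
    (hGEN : ∀ x : F → G, IsA2Conf x c →
      (∀ a, x a ∈ rootE x c) ∧ (∀ a, ZZ x c a ∈ rootE x c) ∧
        (∀ e ∈ rootE x c, c * e * c⁻¹ ∈ rootE x c)) :
    ∃ x : F → G, x 1 = u ∧ IsA2Conf x c ∧
      (∀ f : (ZMod p)[X], x (aeval (1 : F) f) = Pres.polyWord (1 : G) u f) ∧
      h ∈ rootE x c ∧ c ∈ rootE x c ∧ g ∈ rootE x c := by
  obtain ⟨r1, r2, r3, r4, r5, r6, r7, r8, -⟩ :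
      u ^ p = 1 ∧ h = 1 ∧ g = 1 ∧ c * c * c = 1 ∧
      cm (u) (wz u c) = 1 ∧
      cm (wy u c) (wz u c) = 1 ∧
      cm (wz u c) (c * c * wz u c * (c * c)⁻¹) * u⁻¹ = 1 ∧
      c * (w21 u c * (c * w21 u c * c⁻¹))⁻¹ = 1 ∧ True := by
    unfold relsPrime at hrel
    simpa only [List.forall_mem_cons, List.not_mem_nil, false_imp_iff, implies_true] using hrel
  obtain ⟨x, hx1, hB, hκ, hxf⟩ := hMOD r1 r4
  have hZ1 : ZZ x c 1 = wz u c := h57_ZZ_one hx1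
  have hy1 : yy x c 1 = wy u c := h57_yy_one hx1
  have h8 : Commute (x 1) (ZZ x c 1) := by
    rw [hZ1, hx1]; exact h57_commute_of_cm r5
  have h9 : Commute (yy x c 1) (ZZ x c 1) := by
    rw [hZ1, hy1]; exact h57_commute_of_cm r6
  have h10 : cm (ZZ x c 1) (WW x c 1) = x 1 := by
    unfold WW
    rw [hZ1, hx1]; exact mul_inv_eq_one.mp r7
  have h11 : Commute ((c * c * (1 : G) * (c * c)⁻¹) * (c * (1 : G) * c⁻¹)⁻¹) (ZZ x c 1) := by
    have e : (c * c * (1 : G) * (c * c)⁻¹) * (c * (1 : G) * c⁻¹)⁻¹ = 1 := by group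
    rw [e]; exact Commute.one_left _
  have hconf : IsA2Conf x c := hA2 x hB hκ h8 h9 h10 h11
  obtain ⟨hxE, hZE, hcE⟩ := hGEN x hconf
  refine ⟨x, hx1, hconf, hxf, ?_, ?_, ?_⟩
  · rw [r2]; exact (rootE x c).one_mem
  · exact h57_c_mem hx1 hxE hZE hcE (mul_inv_eq_one.mp r8)
  · rw [r3]; exact (rootE x c).one_mem

end Cfsg.Agent.Lib.helper44.SL3
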