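import Mathlib
import Cfsg.Agent.Lib.helper44.SL3Defs
import Cfsg.Agent.Lib.helper57.SL3ABSaux
import Cfsg.Agent.Lib.helper73.SL3MOD2
import Cfsg.Agent.Lib.helper10.SL3A2G
import Cfsg.Agent.Lib.helper6.SL3GEN

/-!
# S2287 piece ABSG: `abs_gen` (assembly of MOD2, A2G, GEN)
-/

set_option autoImplicit false

namespace Cfsg.Agent.Lib.helper44.SL3

open Polynomial

-- ABSG
theorem abs_gen {G : Type*} [Group G] {F : Type*} [Field F] [Fintype F] {p : ℕ} [Fact p.Prime]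
    [Algebra (ZMod p) F] (u h c g : G) (ω : F) (j : ℕ)
    (hω3 : Algebra.adjoin (ZMod p) {ω ^ 3} = ⊤) (hω0 : ω ≠ 0)
    (hrel : ∀ w ∈ relsGen p j (minpoly (ZMod p) ω) u h c g, w = 1) :
    ∃ x : F → G, x 1 = u ∧ IsA2Conf x c ∧
      (∀ f : (ZMod p)[X], x (aeval ω f) = Pres.polyWord h u f) ∧
      h ∈ rootE x c ∧ c ∈ rootE x c ∧ g ∈ rootE x c :=
  h57_abs_gen_core u h c g ω j hω3 hω0 hrel (base_of_rels u h c ω j)
    (fun x => a2conf_of_base x h c ω) (fun x => rootE_props x c)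

end Cfsg.Agent.Lib.helper44.SL3
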