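import Mathlib
import Cfsg.Agent.Lib.helper44.SL3Defs
import Cfsg.Agent.Lib.helper57.SL3ABSaux
import Cfsg.Agent.Lib.helper11.SL3MODP
import Cfsg.Agent.Lib.helper10.SL3A2G
import Cfsg.Agent.Lib.helper6.SL3GEN

/-!
# S2287 piece ABSP: `abs_prime` (assembly of MODP, A2G, GEN)
-/

set_option autoImplicit false

namespace Cfsg.Agent.Lib.helper44.SL3

open Polynomial

-- ABSP
theorem abs_prime {G : Type*} [Group G] {F : Type*} [Field F] [Fintype F] {p : ℕ}
    [Fact p.Prime] [Algebra (ZMod p) F] (hcard : Fintype.card F = p) (u h c g : G)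
    (hrel : ∀ w ∈ relsPrime p u h c g, w = 1) :
    ∃ x : F → G, x 1 = u ∧ IsA2Conf x c ∧
      (∀ f : (ZMod p)[X], x (aeval (1 : F) f) = Pres.polyWord (1 : G) u f) ∧
      h ∈ rootE x c ∧ c ∈ rootE x c ∧ g ∈ rootE x c :=
  h57_abs_prime_core u h c g hrel (base_of_rels_prime hcard u c)
    (fun x => a2conf_of_base x 1 c 1) (fun x => rootE_props x c)

end Cfsg.Agent.Lib.helper44.SL3
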