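import Mathlib

set_option autoImplicit false

namespace Cfsg.Agent.Lib.helper57.T97

/-- PIECE FIX of the S3797 split: an automorphism of odd prime order of a `2`-group that
preserves a sign character which is not trivial fixes an element of sign `-1`. -/
theorem exists_fixed_neg {R : Type*} [Group R] [Finite R] (hR : IsPGroup 2 R) (σ : MulAut R)
    (p : ℕ) (hp : p.Prime) (hp2 : p ≠ 2) (hσ : σ ^ p = 1) (g : R →* ℤˣ)
    (hg : ∀ a, g (σ a) = g a) (hne : ∃ a, g a = -1) : ∃ a, σ a = a ∧ g a = -1 := by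
  classical
  have hfin : Fintype R := Fintype.ofFinite R
  by_contra hcon
  push Not at hcon
  obtain ⟨a₀, ha₀⟩ := hne
  have hfact : Fact p.Prime := ⟨hp⟩
  let f : Function.End {a : R // g a = -1} := fun a => ⟨σ a.1, by rw [hg]; exact a.2⟩
  have hfpow : ∀ k : ℕ, ∀ a : {a : R // g a = -1}, ((f ^ k) a : R) = (σ ^ k) a.1 := by
    intro k
    induction k with
    | zero => intro a; rfl
    | succ k ih =>
      intro a
      rw [pow_succ, pow_succ]
      have h1 : (f ^ k * f) a = (f ^ k) (f a) := rfl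
      rw [h1, ih (f a)]
      rfl
  have hf1 : f ^ p ^ 1 = 1 := by
    rw [pow_one]
    funext a
    apply Subtype.ext
    rw [hfpow p a, hσ]
    rfl
  have hmod := Equiv.Perm.card_fixedPoints_modEq (f := f) (p := p) (n := 1) hf1
  have hfix0 : Fintype.card (Function.fixedPoints f) = 0 := by
    rw [Fintype.card_eq_zero_iff]
    refine ⟨fun ⟨a, ha⟩ => ?_⟩
    have h1 : f a = a := ha
    have h2 : σ a.1 = a.1 := congrArg Subtype.val h1
    exact hcon a.1 h2 a.2
  rw [hfix0] at hmod
  have hdvd : p ∣ Fintype.card {a : R // g a = -1} := (Nat.modEq_zero_iff_dvd).mp hmod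
  -- the fibre is in bijection with the kernel
  have hneg : ((-1 : ℤˣ))⁻¹ * (-1 : ℤˣ) = 1 := by simp
  let e : {a : R // g a = -1} ≃ g.ker :=
    { toFun := fun a => ⟨a₀⁻¹ * a.1, by
        rw [MonoidHom.mem_ker, map_mul, map_inv, ha₀, a.2]; exact hneg⟩
      invFun := fun k => ⟨a₀ * k.1, by
        rw [map_mul, ha₀, MonoidHom.mem_ker.mp k.2, mul_one]⟩
      left_inv := fun a => by apply Subtype.ext; simp
      right_inv := fun k => by apply Subtype.ext; simp }
  have hcard : Fintype.card {a : R // g a = -1} = Nat.card g.ker := by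
    rw [← Nat.card_eq_fintype_card]
    exact Nat.card_congr e
  obtain ⟨n, hn⟩ := (IsPGroup.iff_card (p := 2) (G := g.ker)).mp (hR.to_subgroup g.ker)
  rw [hcard, hn] at hdvd
  have h2 : p ∣ 2 := hp.dvd_of_dvd_pow hdvd
  exact hp2 ((Nat.prime_dvd_prime_iff_eq hp Nat.prime_two).mp h2)

end Cfsg.Agent.Lib.helper57.T97
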