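import Mathlib
import Cfsg.Agent.Lib.helper50.T97GS

set_option autoImplicit false

namespace Cfsg.Agent.Lib.helper57.T97

/-- `2 ^ t * (2 ^ r - 1) = 2 ^ a * (2 ^ b - 1)` (written without subtraction) forces
`t = a` and `r = b`. -/
theorem two_pow_key {t r a b : ℕ} (hr : 1 ≤ r) (hb : 1 ≤ b)
    (h : 2 ^ t * 2 ^ r + 2 ^ a = 2 ^ t + 2 ^ a * 2 ^ b) : t = a ∧ r = b := by
  obtain ⟨r', rfl⟩ : ∃ r', r = r' + 1 := ⟨r - 1, by omega⟩
  obtain ⟨b', rfl⟩ : ∃ b', b = b' + 1 := ⟨b - 1, by omega⟩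
  have hX : 0 < 2 ^ t := by positivity
  have hA : 0 < 2 ^ a := by positivity
  rcases lt_trichotomy t a with hlt | heq | hgt
  · exfalso
    obtain ⟨d, rfl⟩ : ∃ d, a = t + (d + 1) := ⟨a - t - 1, by omega⟩
    have h1 : 2 ^ t * (2 ^ (r' + 1) + 2 ^ (d + 1)) = 2 ^ t * (1 + 2 ^ (d + 1) * 2 ^ (b' + 1)) := by
      rw [pow_add 2 t (d + 1)] at h
      nlinarith [h]
    have h2 := Nat.eq_of_mul_eq_mul_left hX h1
    have e1 : 2 ^ (r' + 1) = 2 * 2 ^ r' := by ring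
    have e2 : 2 ^ (d + 1) = 2 * 2 ^ d := by ring
    have e3 : 2 ^ (d + 1) * 2 ^ (b' + 1) = 2 * (2 ^ d * 2 ^ (b' + 1)) := by ring
    have h3 : 2 * 2 ^ r' + 2 * 2 ^ d = 1 + 2 * (2 ^ d * 2 ^ (b' + 1)) := by
      rw [← e1, ← e2, ← e3]; exact h2
    clear h h1 h2 e1 e2 e3
    omega
  · subst heq
    refine ⟨rfl, ?_⟩
    have h1 : 2 ^ t * 2 ^ (r' + 1) = 2 ^ t * 2 ^ (b' + 1) := by omega
    have h2 := Nat.eq_of_mul_eq_mul_left hX h1
    exact Nat.pow_right_injective (le_refl 2) h2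
  · exfalso
    obtain ⟨d, rfl⟩ : ∃ d, t = a + (d + 1) := ⟨t - a - 1, by omega⟩
    have h1 : 2 ^ a * (2 ^ (d + 1) * 2 ^ (r' + 1) + 1) = 2 ^ a * (2 ^ (d + 1) + 2 ^ (b' + 1)) := by
      rw [pow_add 2 a (d + 1)] at h
      nlinarith [h]
    have h2 := Nat.eq_of_mul_eq_mul_left hA h1
    have e1 : 2 ^ (b' + 1) = 2 * 2 ^ b' := by ring
    have e2 : 2 ^ (d + 1) = 2 * 2 ^ d := by ring
    have e3 : 2 ^ (d + 1) * 2 ^ (r' + 1) = 2 * (2 ^ d * 2 ^ (r' + 1)) := by ring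
    have h3 : 2 * (2 ^ d * 2 ^ (r' + 1)) + 1 = 2 * 2 ^ d + 2 * 2 ^ b' := by
      rw [← e1, ← e2, ← e3]; exact h2
    clear h h1 h2 e1 e2 e3
    omega

/-- The arithmetic of the Gauss sum identity. -/
theorem sq_arith (r n s c : ℕ) (hr : 1 ≤ r) (hc : 1 ≤ c) (h1 : 2 ^ n + c = 2 ^ r + c * 2 ^ r)
    (h2 : ((2 : ℤ) ^ r - (c : ℤ)) ^ 2 = 2 ^ n * 2 ^ s) :
    c = 2 ^ r * (2 ^ r + 1) ∧ n = 3 * r ∧ s = r := by
  have hq2 : 2 ≤ 2 ^ r := by
    calc 2 = 2 ^ 1 := by norm_num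
      _ ≤ 2 ^ r := Nat.pow_le_pow_right (by norm_num) hr
  -- `|2 ^ r - c|` is a power of two
  have hdvd : ((2 : ℤ) ^ r - (c : ℤ)).natAbs ∣ 2 ^ (n + s) := by
    have h3 : ((2 : ℤ) ^ r - (c : ℤ)) ∣ ((2 ^ (n + s) : ℕ) : ℤ) := by
      refine ⟨(2 : ℤ) ^ r - (c : ℤ), ?_⟩
      push_cast
      rw [pow_add, ← h2]
      ring
    exact Int.natAbs_dvd_natAbs.mpr h3 |>.trans (by simp)
  obtain ⟨t, -, ht⟩ := (Nat.dvd_prime_pow Nat.prime_two).mp hdvd
  have hts : 2 * t = n + s := by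
    have h4 : ((2 : ℤ) ^ r - (c : ℤ)) ^ 2 = (((2 : ℤ) ^ r - (c : ℤ)).natAbs : ℤ) ^ 2 := by
      rw [Int.natAbs_sq]
    rw [ht] at h4
    rw [h4] at h2
    have h5 : (2 : ℤ) ^ (2 * t) = 2 ^ (n + s) := by
      rw [pow_add, ← h2]
      push_cast
      ring
    have h6 : (2 : ℕ) ^ (2 * t) = 2 ^ (n + s) := by exact_mod_cast h5
    exact Nat.pow_right_injective (le_refl 2) h6
  rcases Int.natAbs_eq ((2 : ℤ) ^ r - (c : ℤ)) with hpos | hneg
  · -- `c + 2 ^ t = 2 ^ r`: impossible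
    exfalso
    rw [ht] at hpos
    push_cast at hpos
    have hc' : c + 2 ^ t = 2 ^ r := by
      have : ((c + 2 ^ t : ℕ) : ℤ) = ((2 ^ r : ℕ) : ℤ) := by push_cast; linarith
      exact_mod_cast this
    have htq : 2 ^ t < 2 ^ r := by omega
    have hTpos : 0 < 2 ^ t := by positivity
    -- `2 ^ t * 2 ^ r + 2 ^ n = 2 ^ t + 2 ^ r * 2 ^ r`
    have h7 : 2 ^ t * 2 ^ r + 2 ^ n = 2 ^ t + 2 ^ r * 2 ^ r := by
      have hcz : (c : ℤ) = 2 ^ r - 2 ^ t := by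
        have : ((c + 2 ^ t : ℕ) : ℤ) = ((2 ^ r : ℕ) : ℤ) := by exact_mod_cast hc'
        push_cast at this
        linarith
      have h1z : (2 : ℤ) ^ n + c = 2 ^ r + c * 2 ^ r := by exact_mod_cast h1
      have : ((2 ^ t * 2 ^ r + 2 ^ n : ℕ) : ℤ) = ((2 ^ t + 2 ^ r * 2 ^ r : ℕ) : ℤ) := by
        push_cast
        rw [hcz] at h1z
        linarith
      exact_mod_cast this
    have hn2 : n < 2 * r := by
      have h8 : 2 ^ n < 2 ^ r * 2 ^ r := by
        have : 2 ^ t * 2 ≤ 2 ^ t * 2 ^ r := Nat.mul_le_mul_left _ hq2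
        omega
      rw [← pow_add] at h8
      have := (Nat.pow_lt_pow_iff_right (by norm_num : 1 < 2)).mp h8
      omega
    have h9 : 2 ^ r * 2 ^ r = 2 ^ n * 2 ^ (2 * r - n) := by
      rw [← pow_add, ← pow_add]
      congr 1
      omega
    rw [h9] at h7
    obtain ⟨htn, hrb⟩ := two_pow_key hr (by omega) h7
    have : 2 ^ t = 2 ^ r := by rw [htn]; congr 1; omega
    omega
  · -- `c = 2 ^ r + 2 ^ t`
    rw [ht] at hneg
    push_cast at hneg
    have hc' : c = 2 ^ r + 2 ^ t := by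
      have : ((c : ℕ) : ℤ) = ((2 ^ r + 2 ^ t : ℕ) : ℤ) := by push_cast; linarith
      exact_mod_cast this
    have hTpos : 0 < 2 ^ t := by positivity
    have h7 : 2 ^ t * 2 ^ r + 2 ^ r * 2 ^ r = 2 ^ t + 2 ^ n := by
      have h1z : (2 : ℤ) ^ n + c = 2 ^ r + c * 2 ^ r := by exact_mod_cast h1
      have hcz : (c : ℤ) = 2 ^ r + 2 ^ t := by rw [hc']; push_cast; ring
      have : ((2 ^ t * 2 ^ r + 2 ^ r * 2 ^ r : ℕ) : ℤ) = ((2 ^ t + 2 ^ n : ℕ) : ℤ) := by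
        push_cast
        rw [hcz] at h1z
        linarith
      exact_mod_cast this
    have hn2 : 2 * r < n := by
      have h8 : 2 ^ r * 2 ^ r < 2 ^ n := by
        have : 2 ^ t * 2 ≤ 2 ^ t * 2 ^ r := Nat.mul_le_mul_left _ hq2
        omega
      rw [← pow_add] at h8
      have := (Nat.pow_lt_pow_iff_right (by norm_num : 1 < 2)).mp h8
      omega
    have h9 : 2 ^ n = 2 ^ (2 * r) * 2 ^ (n - 2 * r) := by
      rw [← pow_add]
      congr 1
      omega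
    have h10 : 2 ^ r * 2 ^ r = 2 ^ (2 * r) := by
      rw [← pow_add]
      congr 1
      omega
    rw [h9, h10] at h7
    obtain ⟨htn, hrb⟩ := two_pow_key hr (by omega) h7
    refine ⟨?_, by omega, by omega⟩
    rw [hc', htn, ← h10]
    ring

/-- A character of a finite group with values in `ℤˣ` that is not trivial has sum `0`. -/
theorem char_sum_zero {V : Type*} [Group V] [Fintype V] (χ : V →* ℤˣ) (hχ : χ ≠ 1) :
    ∑ v : V, ((χ v : ℤˣ) : ℤ) = 0 := by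
  have hex : ∃ v₀, χ v₀ ≠ 1 := by
    by_contra hcon
    push Not at hcon
    exact hχ (MonoidHom.ext fun v => by simpa using hcon v)
  obtain ⟨v₀, hv₀⟩ := hex
  have hneg : χ v₀ = -1 := (Int.units_eq_one_or (χ v₀)).resolve_left hv₀
  have h1 : ∑ v : V, ((χ v : ℤˣ) : ℤ) = ∑ v : V, ((χ (v₀ * v) : ℤˣ) : ℤ) :=
    (Fintype.sum_equiv (Equiv.mulLeft v₀) _ _ (fun v => rfl)).symm
  have h2 : ∑ v : V, ((χ (v₀ * v) : ℤˣ) : ℤ) = - ∑ v : V, ((χ v : ℤˣ) : ℤ) := by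
    rw [← Finset.sum_neg_distrib]
    refine Finset.sum_congr rfl fun v _ => ?_
    rw [map_mul, hneg]
    simp
  linarith

/-- The sum of a character with values in `ℤˣ` is `0` or the order of the group. -/
theorem hom_sum {H : Type*} [Group H] [Fintype H] (ψ : H →* ℤˣ) :
    ∑ h : H, ((ψ h : ℤˣ) : ℤ) = 0 ∨ ∑ h : H, ((ψ h : ℤˣ) : ℤ) = (Fintype.card H : ℤ) := by
  by_cases hψ : ψ = 1
  · right
    subst hψ
    simp
  · left
    exact char_sum_zero ψ hψ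

/-- A `2`-group with at least two elements has a character with values in `ℤˣ` that is not
trivial. -/
theorem exists_char_ne_one {V : Type*} [Group V] [Finite V] (hV : IsPGroup 2 V)
    (hcard : 2 ≤ Nat.card V) : ∃ χ : V →* ℤˣ, χ ≠ 1 := by
  classical
  obtain ⟨r, hr⟩ := (IsPGroup.iff_card (p := 2) (G := V)).mp hV
  have hr1 : 1 ≤ r := by
    rcases r with _ | r
    · simp at hr; omega
    · omega
  obtain ⟨K, hK⟩ := Sylow.exists_subgroup_card_pow_prime (G := V) 2 (n := r - 1)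
    (by rw [hr]; exact pow_dvd_pow 2 (by omega))
  have hidx : K.index = 2 := by
    have h1 := K.card_mul_index
    rw [hK, hr] at h1
    have h2 : 2 ^ r = 2 ^ (r - 1) * 2 := by
      rw [← pow_succ]
      congr 1
      omega
    rw [h2] at h1
    exact Nat.eq_of_mul_eq_mul_left (by positivity) h1
  let χ : V →* ℤˣ := MonoidHom.mk' (fun v => if v ∈ K then 1 else -1) (by
    intro a b
    have := Subgroup.mul_mem_iff_of_index_two hidx (a := a) (b := b)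
    by_cases ha : a ∈ K <;> by_cases hb : b ∈ K <;> simp [this, ha, hb])
  refine ⟨χ, fun h => ?_⟩
  have hne : K ≠ ⊤ := by
    intro htop
    rw [htop, Subgroup.index_top] at hidx
    omega
  obtain ⟨v, hv⟩ : ∃ v, v ∉ K := by
    by_contra hcon
    push Not at hcon
    exact hne (eq_top_iff.mpr fun v _ => hcon v)
  have h1 : χ v = 1 := by rw [h]; rfl
  have h2 : χ v = -1 := by
    show (if v ∈ K then (1 : ℤˣ) else -1) = -1
    rw [if_neg hv]
  rw [h2] at h1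
  exact absurd h1 (by decide)

/-- PIECE SQ1 of the S3797 split (with the hypothesis `hne`, without which the statement fails
for `R = V`). -/
theorem sq_count {R : Type*} [Group R] [Finite R] (hR : IsPGroup 2 R) (V : Subgroup R)
    (hVc : V ≤ Subgroup.center R) (hsq : ∀ a : R, a * a ∈ V) (hV : ∀ a : R, a * a = 1 → a ∈ V)
    (hV2 : ∀ v ∈ V, v * v = 1) (hcard : 4 ≤ Nat.card V)
    (htr : ∀ v ∈ V, ∀ w ∈ V, v ≠ 1 → w ≠ 1 → ∃ α : MulAut R, α v = w)
    (hne : ∃ a : R, a ∉ V) :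
    (∀ w ∈ V, w ≠ 1 → Nat.card {a : R // a * a = w} = Nat.card V) ∨
    (Nat.card R = Nat.card V ^ 3 ∧
      (∀ w ∈ V, w ≠ 1 → Nat.card {a : R // a * a = w} = Nat.card V * (Nat.card V + 1)) ∧
      ∀ χ : V →* ℤˣ, χ ≠ 1 → ∀ c : R,
        (∀ a : R, ∀ h : c⁻¹ * a⁻¹ * c * a ∈ V, χ ⟨c⁻¹ * a⁻¹ * c * a, h⟩ = 1) → c ∈ V) := by
  classical
  have hfinR : Fintype R := Fintype.ofFinite R
  have hfinV : Fintype V := Fintype.ofFinite V
  have hcomm : ∀ v ∈ V, ∀ a : R, v * a = a * v := fun v hv a =>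
    (Subgroup.mem_center_iff.mp (hVc hv) a).symm
  -- commutator identities
  have hκV : ∀ c a : R, c⁻¹ * a⁻¹ * c * a ∈ V := by
    intro c a
    have h1 := hcomm (a⁻¹ * a⁻¹) (hsq a⁻¹) c
    have h2 : c⁻¹ * a⁻¹ * c * a = (c⁻¹ * c⁻¹) * (a⁻¹ * a⁻¹) * ((c * a) * (c * a)) := by
      calc c⁻¹ * a⁻¹ * c * a = c⁻¹ * c⁻¹ * (c * (a⁻¹ * a⁻¹)) * a * c * a := by group
        _ = c⁻¹ * c⁻¹ * ((a⁻¹ * a⁻¹) * c) * a * c * a := by rw [← h1]
        _ = (c⁻¹ * c⁻¹) * (a⁻¹ * a⁻¹) * ((c * a) * (c * a)) := by group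
    rw [h2]
    exact V.mul_mem (V.mul_mem (hsq c⁻¹) (hsq a⁻¹)) (hsq (c * a))
  have hκmul : ∀ c₁ c₂ a : R, (c₁ * c₂)⁻¹ * a⁻¹ * (c₁ * c₂) * a =
      (c₁⁻¹ * a⁻¹ * c₁ * a) * (c₂⁻¹ * a⁻¹ * c₂ * a) := by
    intro c₁ c₂ a
    calc (c₁ * c₂)⁻¹ * a⁻¹ * (c₁ * c₂) * a
        = c₂⁻¹ * (c₁⁻¹ * a⁻¹ * c₁ * a) * a⁻¹ * c₂ * a := by group
      _ = (c₁⁻¹ * a⁻¹ * c₁ * a) * c₂⁻¹ * a⁻¹ * c₂ * a := by rw [← hcomm _ (hκV c₁ a) c₂⁻¹]
      _ = (c₁⁻¹ * a⁻¹ * c₁ * a) * (c₂⁻¹ * a⁻¹ * c₂ * a) := by group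
  have hsqmul : ∀ a c : R, (a * c) * (a * c) = (a * a) * (c * c) * (c⁻¹ * a⁻¹ * c * a) := by
    intro a c
    calc (a * c) * (a * c) = (a * a) * (c * (c⁻¹ * a⁻¹ * c * a)) * c := by group
      _ = (a * a) * ((c⁻¹ * a⁻¹ * c * a) * c) * c := by rw [← hcomm _ (hκV c a) c]
      _ = (a * a) * ((c⁻¹ * a⁻¹ * c * a) * (c * c)) := by group
      _ = (a * a) * ((c * c) * (c⁻¹ * a⁻¹ * c * a)) := by rw [hcomm _ (hκV c a) (c * c)]
      _ = (a * a) * (c * c) * (c⁻¹ * a⁻¹ * c * a) := by group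
  -- counting the square roots
  let sqV : R → V := fun a => ⟨a * a, hsq a⟩
  let n : V → ℕ := fun w => (Finset.univ.filter fun a : R => sqV a = w).card
  have hn : ∀ w : V, Nat.card {a : R // a * a = (w : R)} = n w := by
    intro w
    rw [Nat.card_eq_fintype_card, Fintype.card_subtype]
    congr 1
    ext a
    simp [sqV, Subtype.ext_iff]
  have hconst : ∀ v ∈ V, ∀ w ∈ V, v ≠ 1 → w ≠ 1 →
      Nat.card {a : R // a * a = v} = Nat.card {a : R // a * a = w} := by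
    intro v hv w hw hv1 hw1
    obtain ⟨α, hα⟩ := htr v hv w hw hv1 hw1
    apply Nat.card_congr
    exact α.toEquiv.subtypeEquiv (fun a => by
      constructor
      · intro h
        show α a * α a = w
        rw [← map_mul, h, hα]
      · intro h
        apply α.injective
        rw [map_mul, hα]
        exact h)
  have hVnt : ∃ w₀ ∈ V, w₀ ≠ 1 := by
    by_contra hcon
    push Not at hcon
    have : V = ⊥ := (Subgroup.eq_bot_iff_forall V).mpr hcon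
    rw [this, Subgroup.card_bot] at hcard
    omega
  obtain ⟨w₀, hw₀V, hw₀1⟩ := hVnt
  obtain ⟨c, hcdef⟩ : ∃ c, c = Nat.card {a : R // a * a = w₀} := ⟨_, rfl⟩
  have hc : ∀ w ∈ V, w ≠ 1 → Nat.card {a : R // a * a = w} = c := fun w hw hw1 => by
    rw [hcdef]
    exact hconst w hw w₀ hw₀V hw1 hw₀1
  obtain ⟨q, hqdef⟩ : ∃ q, q = Nat.card V := ⟨_, rfl⟩
  have hqF : Fintype.card V = q := by rw [hqdef, Nat.card_eq_fintype_card]
  have hn1 : n 1 = q := by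
    rw [← hn 1, hqdef]
    apply Nat.card_congr
    exact
      { toFun := fun a => ⟨a.1, hV a.1 a.2⟩
        invFun := fun v => ⟨v.1, hV2 v.1 v.2⟩
        left_inv := fun a => rfl
        right_inv := fun v => rfl }
  have hnc : ∀ w : V, w ≠ 1 → n w = c := by
    intro w hw
    rw [← hn w]
    exact hc w w.2 (fun h => hw (Subtype.ext h))
  have hRsum : Fintype.card R = ∑ w : V, n w := by
    have h1 := Finset.card_eq_sum_card_fiberwise (f := sqV) (s := Finset.univ) (t := Finset.univ)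
      (fun x _ => Finset.mem_univ _)
    rw [Finset.card_univ] at h1
    exact h1
  have hsplit : ∀ g : V → ℤ, ∑ w : V, (n w : ℤ) * g w =
      (q : ℤ) * g 1 + (c : ℤ) * (∑ w : V, g w - g 1) := by
    intro g
    rw [← Finset.add_sum_erase Finset.univ (fun w => (n w : ℤ) * g w) (Finset.mem_univ (1 : V)),
      hn1]
    congr 1
    rw [← Finset.add_sum_erase Finset.univ g (Finset.mem_univ (1 : V)), add_sub_cancel_left,
      Finset.mul_sum]
    refine Finset.sum_congr rfl fun w hw => ?_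
    rw [hnc w (Finset.ne_of_mem_erase hw)]
  have hRz : (Fintype.card R : ℤ) = (q : ℤ) + (c : ℤ) * ((q : ℤ) - 1) := by
    have h1 := hsplit (fun _ => 1)
    rw [hRsum]
    push_cast
    simp only [mul_one] at h1
    rw [h1]
    simp [hqF]
  have hc1 : 1 ≤ c := by
    obtain ⟨a, ha⟩ := hne
    have ha1 : a * a ≠ 1 := fun h => ha (hV a h)
    rw [← hc (a * a) (hsq a) ha1]
    have : Nonempty {b : R // b * b = a * a} := ⟨⟨a, rfl⟩⟩
    exact Nat.card_pos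
  -- the Gauss sum identity for a character
  have key : ∀ χ : V →* ℤˣ, χ ≠ 1 → ∃ Rad : Subgroup R, V ≤ Rad ∧
      (∀ c' : R, (∀ a : R, ∀ h : c'⁻¹ * a⁻¹ * c' * a ∈ V, χ ⟨c'⁻¹ * a⁻¹ * c' * a, h⟩ = 1) →
        c' ∈ Rad) ∧
      (((q : ℤ) - (c : ℤ)) ^ 2 = 0 ∨
        ((q : ℤ) - (c : ℤ)) ^ 2 = (Fintype.card R : ℤ) * (Nat.card Rad : ℤ)) := by
    intro χ hχ
    obtain ⟨f, hfdef⟩ : ∃ f : R → ℤ, f = fun x => if h : x ∈ V then ((χ ⟨x, h⟩ : ℤˣ) : ℤ) else 0 :=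
      ⟨_, rfl⟩
    have hf_mem : ∀ (x : R) (h : x ∈ V), f x = ((χ ⟨x, h⟩ : ℤˣ) : ℤ) := by
      intro x h
      rw [hfdef]
      exact dif_pos h
    have hf1 : f 1 = 1 := by
      rw [hf_mem 1 V.one_mem]
      have : (⟨1, V.one_mem⟩ : V) = 1 := rfl
      rw [this, map_one]
      rfl
    have hfm : ∀ v ∈ V, ∀ w ∈ V, f (v * w) = f v * f w := by
      intro v hv w hw
      rw [hf_mem _ (V.mul_mem hv hw), hf_mem v hv, hf_mem w hw]
      have : (⟨v * w, V.mul_mem hv hw⟩ : V) = ⟨v, hv⟩ * ⟨w, hw⟩ := rfl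
      rw [this, map_mul]
      rfl
    let Rad : Subgroup R :=
      { carrier := {c' | ∀ a : R, f (c'⁻¹ * a⁻¹ * c' * a) = 1}
        one_mem' := by
          intro a
          have : (1 : R)⁻¹ * a⁻¹ * 1 * a = 1 := by group
          rw [this]
          exact hf1
        mul_mem' := by
          intro c₁ c₂ h₁ h₂ a
          rw [hκmul, hfm _ (hκV c₁ a) _ (hκV c₂ a), h₁ a, h₂ a, mul_one]
        inv_mem' := by
          intro c' h a
          have h1 := hκmul c'⁻¹ c' a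
          have e : (c'⁻¹ * c')⁻¹ * a⁻¹ * (c'⁻¹ * c') * a = 1 := by group
          rw [e] at h1
          have h2 := congrArg f h1
          rw [hf1, hfm _ (hκV c'⁻¹ a) _ (hκV c' a), h a, mul_one] at h2
          exact h2.symm }
    have hmemRad : ∀ c' : R, c' ∈ Rad ↔ ∀ a : R, f (c'⁻¹ * a⁻¹ * c' * a) = 1 := fun c' => Iff.rfl
    have hVRad : V ≤ Rad := by
      intro v hv a
      have h1 := hcomm v hv a⁻¹
      have : v⁻¹ * a⁻¹ * v * a = 1 := by
        calc v⁻¹ * a⁻¹ * v * a = v⁻¹ * (a⁻¹ * v) * a := by group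
          _ = v⁻¹ * (v * a⁻¹) * a := by rw [h1]
          _ = 1 := by group
      rw [this]
      exact hf1
    refine ⟨Rad, hVRad, ?_, ?_⟩
    · intro c' hc' a
      rw [hf_mem _ (hκV c' a), hc' a (hκV c' a)]
      rfl
    -- the two sums
    have hT : ∑ a : R, f (a * a) = (q : ℤ) - (c : ℤ) := by
      have h1 : ∑ a : R, f (a * a) = ∑ w : V, (n w : ℤ) * ((χ w : ℤˣ) : ℤ) := by
        have h2 : ∀ a : R, f (a * a) = ((χ (sqV a) : ℤˣ) : ℤ) := fun a => hf_mem _ (hsq a)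
        rw [Finset.sum_congr rfl (fun a _ => h2 a),
          ← Finset.sum_fiberwise Finset.univ sqV (fun a => ((χ (sqV a) : ℤˣ) : ℤ))]
        refine Finset.sum_congr rfl fun w _ => ?_
        have h3 : ∑ a ∈ Finset.univ.filter (fun a => sqV a = w), ((χ (sqV a) : ℤˣ) : ℤ) =
            ∑ a ∈ Finset.univ.filter (fun a => sqV a = w), ((χ w : ℤˣ) : ℤ) :=
          Finset.sum_congr rfl (fun a ha => by rw [(Finset.mem_filter.mp ha).2])
        rw [h3, Finset.sum_const, nsmul_eq_mul]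
      rw [h1, hsplit (fun w => ((χ w : ℤˣ) : ℤ)), char_sum_zero χ hχ, map_one]
      simp
      ring
    have hG := Cfsg.Agent.Lib.helper50.T97.gauss_sq V hVc hsq hV2 f hf1 hfm ⊤
    have hS1 : ∑ a : (⊤ : Subgroup R), f ((a : R) * (a : R)) = ∑ a : R, f (a * a) :=
      Fintype.sum_equiv Subgroup.topEquiv.toEquiv _ _ (fun a => rfl)
    have hS2 : (∑ c' : (⊤ : Subgroup R),
        (if ∀ a : (⊤ : Subgroup R), f ((c' : R)⁻¹ * (a : R)⁻¹ * (c' : R) * (a : R)) = 1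
          then f ((c' : R) * (c' : R)) else 0)) =
        ∑ c' : R, (if c' ∈ Rad then f (c' * c') else 0) := by
      refine Fintype.sum_equiv Subgroup.topEquiv.toEquiv _ _ (fun c' => ?_)
      refine if_congr ?_ rfl rfl
      constructor
      · intro h a
        exact h ⟨a, Subgroup.mem_top a⟩
      · intro h a
        exact h a
    have hcardtop : Fintype.card (⊤ : Subgroup R) = Fintype.card R :=
      Fintype.card_congr Subgroup.topEquiv.toEquiv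
    rw [hS1, hS2, hcardtop, hT] at hG
    -- the character `c' ↦ χ (c' * c')` of `Rad`
    let ψ : Rad →* ℤˣ := MonoidHom.mk' (fun c' : Rad => χ ⟨(c' : R) * (c' : R), hsq _⟩) (by
      intro c₁ c₂
      have e := hsqmul (c₁ : R) (c₂ : R)
      have hκ1 : χ ⟨(c₂ : R)⁻¹ * (c₁ : R)⁻¹ * (c₂ : R) * (c₁ : R), hκV _ _⟩ = 1 := by
        have h1 := c₂.2 (c₁ : R)
        rw [hf_mem _ (hκV _ _)] at h1
        exact Units.ext h1
      have h2 : (⟨((c₁ : R) * (c₂ : R)) * ((c₁ : R) * (c₂ : R)), hsq _⟩ : V) =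
          ⟨(c₁ : R) * (c₁ : R), hsq _⟩ * ⟨(c₂ : R) * (c₂ : R), hsq _⟩ *
            ⟨(c₂ : R)⁻¹ * (c₁ : R)⁻¹ * (c₂ : R) * (c₁ : R), hκV _ _⟩ := Subtype.ext e
      show χ ⟨((c₁ : R) * (c₂ : R)) * ((c₁ : R) * (c₂ : R)), hsq _⟩ = _
      rw [h2, map_mul, map_mul, hκ1, mul_one])
    have hS3 : ∑ c' : R, (if c' ∈ Rad then f (c' * c') else 0) =
        ∑ c' : Rad, ((ψ c' : ℤˣ) : ℤ) := by
      rw [← Finset.sum_filter,
        Finset.sum_subtype (Finset.univ.filter (· ∈ Rad)) (p := (· ∈ Rad)) (by simp)]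
      exact Finset.sum_congr rfl fun c' _ => hf_mem _ (hsq _)
    rw [hS3] at hG
    rcases hom_sum ψ with h0 | h1
    · left
      rw [hG, h0, mul_zero]
    · right
      rw [hG, h1, Nat.card_eq_fintype_card]
  -- arithmetic
  obtain ⟨r, hr⟩ := (IsPGroup.iff_card (p := 2) (G := V)).mp (hR.to_subgroup V)
  obtain ⟨n₀, hn₀⟩ := (IsPGroup.iff_card (p := 2) (G := R)).mp hR
  rw [← hqdef] at hr hcard
  rw [Nat.card_eq_fintype_card] at hn₀
  have hr1 : 1 ≤ r := by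
    rcases r with _ | r
    · simp at hr; omega
    · omega
  by_cases hcq : c = q
  · left
    intro w hw hw1
    rw [hc w hw hw1, hcq, hqdef]
  · right
    obtain ⟨χ₀, hχ₀⟩ := exists_char_ne_one (V := V) (hR.to_subgroup V) (by rw [← hqdef]; omega)
    have main : ∀ χ : V →* ℤˣ, χ ≠ 1 → ∃ Rad : Subgroup R, V ≤ Rad ∧
        (∀ c' : R, (∀ a : R, ∀ h : c'⁻¹ * a⁻¹ * c' * a ∈ V, χ ⟨c'⁻¹ * a⁻¹ * c' * a, h⟩ = 1) →
          c' ∈ Rad) ∧ Nat.card Rad = q ∧ c = q * (q + 1) ∧ n₀ = 3 * r := by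
      intro χ hχ
      obtain ⟨Rad, hVRad, hmem, hcase⟩ := key χ hχ
      rcases hcase with h0 | h1
      · exfalso
        apply hcq
        have h2 : (q : ℤ) - (c : ℤ) = 0 := by simpa using h0
        have h3 : (c : ℤ) = (q : ℤ) := by linarith
        exact_mod_cast h3
      · obtain ⟨s, hs⟩ := (IsPGroup.iff_card (p := 2) (G := Rad)).mp (hR.to_subgroup Rad)
        have e1 : 2 ^ n₀ + c = 2 ^ r + c * 2 ^ r := by
          have h2 : ((2 ^ n₀ + c : ℕ) : ℤ) = ((2 ^ r + c * 2 ^ r : ℕ) : ℤ) := by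
            rw [hn₀, hr] at hRz
            push_cast at hRz ⊢
            linarith
          exact_mod_cast h2
        have e2 : ((2 : ℤ) ^ r - (c : ℤ)) ^ 2 = 2 ^ n₀ * 2 ^ s := by
          rw [hn₀, hs, hr] at h1
          push_cast at h1
          exact h1
        obtain ⟨hcv, hnv, hsv⟩ := sq_arith r n₀ s c hr1 hc1 e1 e2
        refine ⟨Rad, hVRad, hmem, ?_, ?_, hnv⟩
        · rw [hs, hsv, hr]
        · rw [hcv, hr]
    obtain ⟨Rad₀, -, -, -, hcval, hn₀v⟩ := main χ₀ hχ₀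
    refine ⟨?_, ?_, ?_⟩
    · rw [Nat.card_eq_fintype_card, hn₀, hn₀v, ← hqdef, hr, ← pow_mul]
      congr 1
      omega
    · intro w hw hw1
      rw [hc w hw hw1, hcval, hqdef]
    · intro χ hχ c' hc'
      obtain ⟨Rad, hVRad, hmem, hcardRad, -, -⟩ := main χ hχ
      have hEq : V = Rad := Subgroup.eq_of_le_of_card_ge hVRad (by rw [hcardRad, hqdef])
      rw [hEq]
      exact hmem c' hc'

end Cfsg.Agent.Lib.helper57.T97
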