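import Cfsg.Agent.Lib.helper43.SL2Data

/-!
# S2686, piece F-CORE, small case: normal subgroups of `SL₂(F₀)` for `|F₀| ≤ 3`

If `N` is a normal subgroup of `SL₂(F₀)`, `|F₀| ≤ 3`, whose image in `PSL₂(F₀)` has no element of
order `p` (a prime different from the characteristic that divides `|PSL₂(F₀)|`), then `N` consists
of scalar matrices.
-/

set_option autoImplicit false

namespace Cfsg.Agent.Lib.helper57.S2686

open Matrix
open Cfsg.Agent.Lib.helper43

section small

variable {F₀ : Type*} [Field F₀]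

/-- scalar matrices of `SL₂` are the central elements -/
theorem sl2_scalar_iff_center (g : SpecialLinearGroup (Fin 2) F₀) :
    (∃ c : F₀, g.1 = c • (1 : Matrix (Fin 2) (Fin 2) F₀)) ↔
      g ∈ Subgroup.center (SpecialLinearGroup (Fin 2) F₀) := by
  rw [Matrix.SpecialLinearGroup.mem_center_iff]
  constructor
  · rintro ⟨c, hc⟩
    refine ⟨c, ?_, ?_⟩
    · have h := g.2
      rw [hc, det_smul, det_one, mul_one] at h
      exact h
    · rw [hc, Matrix.scalar_apply, Matrix.smul_one_eq_diagonal]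
  · rintro ⟨r, -, hr⟩
    refine ⟨r, ?_⟩
    rw [← hr, Matrix.scalar_apply, Matrix.smul_one_eq_diagonal]

/-- if two coprime powers of `g` are scalar then `g` is scalar -/
theorem sl2_scalar_of_coprime_pow (g : SpecialLinearGroup (Fin 2) F₀) (a b : ℕ)
    (hab : a.Coprime b)
    (ha : ∃ c : F₀, (g ^ a).1 = c • (1 : Matrix (Fin 2) (Fin 2) F₀))
    (hb : ∃ c : F₀, (g ^ b).1 = c • (1 : Matrix (Fin 2) (Fin 2) F₀)) :
    ∃ c : F₀, g.1 = c • (1 : Matrix (Fin 2) (Fin 2) F₀) := by
  rw [sl2_scalar_iff_center] at ha hb ⊢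
  have h1 : (QuotientGroup.mk g :
      SpecialLinearGroup (Fin 2) F₀ ⧸ Subgroup.center (SpecialLinearGroup (Fin 2) F₀)) ^ a = 1 := by
    rw [← QuotientGroup.mk_pow]
    exact (QuotientGroup.eq_one_iff _).2 ha
  have h2 : (QuotientGroup.mk g :
      SpecialLinearGroup (Fin 2) F₀ ⧸ Subgroup.center (SpecialLinearGroup (Fin 2) F₀)) ^ b = 1 := by
    rw [← QuotientGroup.mk_pow]
    exact (QuotientGroup.eq_one_iff _).2 hb
  have h3 := Nat.dvd_gcd (orderOf_dvd_of_pow_eq_one h1) (orderOf_dvd_of_pow_eq_one h2)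
  rw [Nat.Coprime] at hab
  rw [hab, Nat.dvd_one, orderOf_eq_one_iff] at h3
  exact (QuotientGroup.eq_one_iff _).1 h3

/-- Cayley–Hamilton in `SL₂` -/
theorem sl2_mul_self (s : SpecialLinearGroup (Fin 2) F₀) :
    s.1 * s.1 = (s.1 0 0 + s.1 1 1) • s.1 - 1 := by
  have hd := s.2
  rw [det_fin_two] at hd
  ext i j
  fin_cases i <;> fin_cases j <;>
    simp [Matrix.mul_apply, Fin.sum_univ_two] <;>
    first
      | linear_combination (-1 : F₀) * hd
      | linear_combination hd
      | ring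

theorem sl2_sq_scalar (s : SpecialLinearGroup (Fin 2) F₀) (ht : s.1 0 0 + s.1 1 1 = 0) :
    ∃ c : F₀, (s ^ 2).1 = c • (1 : Matrix (Fin 2) (Fin 2) F₀) := by
  refine ⟨-1, ?_⟩
  rw [pow_two, Matrix.SpecialLinearGroup.coe_mul, sl2_mul_self, ht, zero_smul, zero_sub, neg_smul,
    one_smul]

theorem sl2_cube_scalar (s : SpecialLinearGroup (Fin 2) F₀)
    (ht : (s.1 0 0 + s.1 1 1) * (s.1 0 0 + s.1 1 1) = 1) :
    ∃ c : F₀, (s ^ 3).1 = c • (1 : Matrix (Fin 2) (Fin 2) F₀) := by
  refine ⟨-(s.1 0 0 + s.1 1 1), ?_⟩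
  have h1 : (s ^ 3).1 = s.1 * s.1 * s.1 := by
    rw [pow_succ, pow_two, Matrix.SpecialLinearGroup.coe_mul, Matrix.SpecialLinearGroup.coe_mul]
  rw [h1, sl2_mul_self, Matrix.sub_mul, Matrix.smul_mul, sl2_mul_self, Matrix.one_mul, smul_sub,
    smul_smul, ht, one_smul, neg_smul]
  abel

/-- **Small case of F-CORE.** A normal subgroup of `SL₂(F₀)`, `|F₀| ≤ 3`, whose image in
`PSL₂(F₀)` has no element of order `p`, where `p` is a prime different from the characteristic
for which `PSL₂(F₀)` does have an element of order `p`, consists of scalar matrices. -/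
theorem sl2_small_scalar [Finite F₀] (h3 : Nat.card F₀ ≤ 3)
    (N : Subgroup (SpecialLinearGroup (Fin 2) F₀)) (hN : N.Normal)
    {p : ℕ} (hp : p.Prime) (hchar : (p : F₀) ≠ 0)
    (y : SpecialLinearGroup (Fin 2) F₀)
    (hy1 : ∀ c : F₀, y.1 ≠ c • (1 : Matrix (Fin 2) (Fin 2) F₀))
    (hy : ∃ c : F₀, (y ^ p).1 = c • (1 : Matrix (Fin 2) (Fin 2) F₀))
    (hcop : ∀ g ∈ N, (∃ c : F₀, (g ^ p).1 = c • (1 : Matrix (Fin 2) (Fin 2) F₀)) →
      ∃ c' : F₀, g.1 = c' • (1 : Matrix (Fin 2) (Fin 2) F₀))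
    (g : SpecialLinearGroup (Fin 2) F₀) (hg : g ∈ N) :
    ∃ c : F₀, g.1 = c • (1 : Matrix (Fin 2) (Fin 2) F₀) := by
  classical
  have : Fintype F₀ := Fintype.ofFinite F₀
  have hcard : Fintype.card F₀ = 2 ∨ Fintype.card F₀ = 3 := by
    have h1 : 1 < Fintype.card F₀ := Fintype.one_lt_card
    rw [Nat.card_eq_fintype_card] at h3
    omega
  -- squares of nonzero elements are 1
  have hsq : ∀ a : F₀, a ≠ 0 → a * a = 1 := by
    intro a ha
    have h1 := FiniteField.pow_card_sub_one_eq_one a ha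
    rcases hcard with h | h
    · rw [h] at h1
      have h2 : a = 1 := by simpa using h1
      rw [h2, mul_one]
    · rw [h] at h1
      rw [← pow_two]
      exact h1
  have hcast : (2 : F₀) = 0 ∨ (3 : F₀) = 0 := by
    have h1 : ((Fintype.card F₀ : ℕ) : F₀) = 0 := Nat.cast_card_eq_zero F₀
    rcases hcard with h | h
    · left
      rw [h] at h1
      exact_mod_cast h1
    · right
      rw [h] at h1
      exact_mod_cast h1
  have h5 : (5 : F₀) ≠ 0 := by
    intro h
    rcases hcast with h2 | h2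
    · have : (1 : F₀) = 0 := by linear_combination h - 2 * h2
      exact one_ne_zero this
    · have : (1 : F₀) = 0 := by linear_combination 2 * h2 - h
      exact one_ne_zero this
  -- `p = 2` (and the characteristic is 3) or `p = 3`
  have hp23 : (p = 2 ∧ (3 : F₀) = 0) ∨ p = 3 := by
    by_cases ht : y.1 0 0 + y.1 1 1 = 0
    · left
      have hp2 : p = 2 := by
        by_contra hne
        have hc : p.Coprime 2 := (Nat.coprime_primes hp Nat.prime_two).2 hne
        obtain ⟨c, hc'⟩ := sl2_scalar_of_coprime_pow y p 2 hc hy (sl2_sq_scalar y ht)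
        exact hy1 c hc'
      refine ⟨hp2, ?_⟩
      rcases hcast with h2 | h2
      · exfalso
        apply hchar
        rw [hp2]
        exact_mod_cast h2
      · exact h2
    · right
      by_contra hne
      have hc : p.Coprime 3 := (Nat.coprime_primes hp Nat.prime_three).2 hne
      obtain ⟨c, hc'⟩ := sl2_scalar_of_coprime_pow y p 3 hc hy (sl2_cube_scalar y (hsq _ ht))
      exact hy1 c hc'
  -- no element of `N` has trace 3
  have hT : ∀ x ∈ N, x.1 0 0 + x.1 1 1 ≠ 3 := by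
    intro x hx htr
    have hxp : ∃ c : F₀, (x ^ p).1 = c • (1 : Matrix (Fin 2) (Fin 2) F₀) := by
      rcases hp23 with ⟨hp2, h30⟩ | hp3
      · rw [hp2]
        exact sl2_sq_scalar x (by rw [htr, h30])
      · rw [hp3]
        apply sl2_cube_scalar x
        apply hsq
        rw [htr]
        intro h30
        apply hchar
        rw [hp3]
        exact_mod_cast h30
    obtain ⟨c', hc'⟩ := hcop x hx hxp
    have hdet := x.2
    rw [det_fin_two] at hdet
    rw [hc'] at htr hdet
    simp at htr hdet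
    apply h5
    linear_combination (-(2 * c' + 3)) * htr + 4 * hdet
  have hd := g.2
  rw [det_fin_two] at hd
  -- the entry (1,0) vanishes
  have hc0 : g.1 1 0 = 0 := by
    by_contra hc
    have hx : g * uSL 1 * g⁻¹ * (uSL 1)⁻¹ ∈ N := by
      have h1 : uSL 1 * g⁻¹ * (uSL 1)⁻¹ ∈ N := hN.conj_mem _ (N.inv_mem hg) _
      have h2 := N.mul_mem hg h1
      have e : g * uSL 1 * g⁻¹ * (uSL 1)⁻¹ = g * (uSL 1 * g⁻¹ * (uSL 1)⁻¹) := by group
      rw [e]
      exact h2
    apply hT _ hx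
    rw [uSL_inv]
    simp only [Matrix.SpecialLinearGroup.coe_mul, Matrix.SpecialLinearGroup.coe_inv, uSL_val,
      adjugate_fin_two]
    simp [Matrix.mul_apply, Fin.sum_univ_two]
    linear_combination 2 * hd + hsq _ hc
  -- the entry (0,1) vanishes
  have hb0 : g.1 0 1 = 0 := by
    by_contra hb
    have hx : g * lSL 1 * g⁻¹ * (lSL 1)⁻¹ ∈ N := by
      have h1 : lSL 1 * g⁻¹ * (lSL 1)⁻¹ ∈ N := hN.conj_mem _ (N.inv_mem hg) _
      have h2 := N.mul_mem hg h1
      have e : g * lSL 1 * g⁻¹ * (lSL 1)⁻¹ = g * (lSL 1 * g⁻¹ * (lSL 1)⁻¹) := by group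
      rw [e]
      exact h2
    apply hT _ hx
    rw [lSL_inv]
    simp only [Matrix.SpecialLinearGroup.coe_mul, Matrix.SpecialLinearGroup.coe_inv, lSL_val,
      adjugate_fin_two]
    simp [Matrix.mul_apply, Fin.sum_univ_two]
    linear_combination 2 * hd + hsq _ hb
  rw [hc0, mul_zero, sub_zero] at hd
  have ha : g.1 0 0 ≠ 0 := by
    intro h0
    rw [h0, zero_mul] at hd
    exact zero_ne_one hd
  have hda : g.1 1 1 = g.1 0 0 := mul_left_cancel₀ ha (hd.trans (hsq _ ha).symm)
  refine ⟨g.1 0 0, ?_⟩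
  ext i j
  fin_cases i <;> fin_cases j <;> simp [hc0, hb0, hda]

end small

end Cfsg.Agent.Lib.helper57.S2686
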