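import Cfsg.Agent.Lib.helper48.LBRefl
import Cfsg.Agent.S0249
import Cfsg.Agent.Lib.helper57.S2686FC2B

/-!
# S2686, piece F-CORE: `O_{p'}` of the fixed points of a field automorphism of `PSL_n(F)`

`field_noCore`: for a field automorphism `σ` of prime order `p ≠ char F` whose fixed points on
`PSL_n(F)` have order divisible by `p`, every `p'`-subgroup of the fixed points that is invariant
under all automorphisms commuting with `fAut σ` is trivial.
-/

set_option autoImplicit false

namespace Cfsg.Agent.Lib.helper57.S2686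

open Matrix Cfsg
open Cfsg.Agent.Lib.helper47.PSLn
open Cfsg.Agent.Lib.helper48.LB
open Cfsg.Agent.Lib.helper48.AbsBal (fixG)
open Cfsg.Agent.Lib.helper48.Split (fixK mem_fixK card_fixK)

section abstract

variable {K : Type*} [Group K]

/-- a variant of `LB.noCore_of_simple` where the "simplicity" hypothesis is only asked for
`p'`-subgroups -/
theorem noCore_of_weak {p : ℕ} (x : MulAut K) (E : Subgroup K)
    (hE : ∀ e ∈ E, x e = e)
    (hnorm : ∀ k : K, x k = k → ∀ e ∈ E, k * e * k⁻¹ ∈ E)
    (hsimple : ∀ M : Subgroup K, (∀ e ∈ E, ∀ k ∈ M, e * k * e⁻¹ ∈ M) →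
      (Nat.card M).Coprime p → M ⊓ E = ⊥)
    (hcent : ∀ k : K, x k = k → (∀ e ∈ E, k * e = e * k) → k = 1) :
    NoCore p x := by
  intro M hM hinv hcop
  have hMnorm : ∀ e ∈ E, ∀ k ∈ M, e * k * e⁻¹ ∈ M := by
    intro e he k hk
    exact hinv (MulAut.conj e) (conj_comm_of_fixed x (hE e he)) k hk
  have hME : M ⊓ E = ⊥ := hsimple M hMnorm hcop
  rw [Subgroup.eq_bot_iff_forall]
  intro m hm
  apply hcent m (hM m hm)
  intro e he
  have h4 : m * e * m⁻¹ * e⁻¹ ∈ M ⊓ E := by
    refine ⟨?_, E.mul_mem (hnorm m (hM m hm) e he) (E.inv_mem he)⟩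
    have h5 : e * m⁻¹ * e⁻¹ ∈ M := hMnorm e he _ (M.inv_mem hm)
    have h6 := M.mul_mem hm h5
    have e1 : m * e * m⁻¹ * e⁻¹ = m * (e * m⁻¹ * e⁻¹) := by group
    rw [e1]
    exact h6
  rw [hME, Subgroup.mem_bot] at h4
  have h5 : m * e * m⁻¹ = e := mul_inv_eq_one.mp h4
  calc m * e = m * e * m⁻¹ * m := by group
    _ = e * m := by rw [h5]

end abstract

section psl

variable {n : ℕ} {F : Type*} [Field F]

/-- base change `SL_n(K₀) → SL_n(F)` followed by the projection to `PSL_n(F)` -/
noncomputable def phiSub (K₀ : Subfield F) :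
    SpecialLinearGroup (Fin n) K₀ →* ProjectiveSpecialLinearGroup (Fin n) F :=
  pr.comp (Matrix.SpecialLinearGroup.map K₀.subtype)

theorem phiSub_apply (K₀ : Subfield F) (g : SpecialLinearGroup (Fin n) K₀) :
    phiSub K₀ g = pr (Matrix.SpecialLinearGroup.map K₀.subtype g) := rfl

theorem map_sub_coe (K₀ : Subfield F) (g : SpecialLinearGroup (Fin n) K₀) (i j : Fin n) :
    (Matrix.SpecialLinearGroup.map K₀.subtype g).1 i j = ((g.1 i j : K₀) : F) := rfl

/-- the kernel of `phiSub` consists of the scalar matrices -/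
theorem phiSub_eq_one_iff [NeZero n] (K₀ : Subfield F) (g : SpecialLinearGroup (Fin n) K₀) :
    phiSub K₀ g = 1 ↔ ∃ c : K₀, g.1 = c • (1 : Matrix (Fin n) (Fin n) K₀) := by
  rw [phiSub_apply, ← map_one (pr (n := n) (F := F)), eq_comm, pr_eq_iff]
  constructor
  · rintro ⟨c, -, hc⟩
    refine ⟨g.1 0 0, ?_⟩
    have h00 : ((g.1 0 0 : K₀) : F) = c := by
      have := congrFun (congrFun hc 0) 0
      rw [map_sub_coe] at this
      rw [this]
      simp
    ext i j
    have := congrFun (congrFun hc i) j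
    rw [map_sub_coe] at this
    rw [this, ← h00]
    by_cases hij : i = j
    · subst hij
      simp
    · simp [hij]
  · rintro ⟨c, hc⟩
    refine ⟨(c : F), ?_, ?_⟩
    · have h := g.2
      rw [hc, det_smul, det_one, mul_one, Fintype.card_fin] at h
      have h' := congrArg K₀.subtype h
      simpa using h'
    · ext i j
      rw [map_sub_coe, hc]
      by_cases hij : i = j
      · subst hij
        simp
      · simp [hij]

/-- elements of the image of `SL_n(fixK σ)` are fixed by the field automorphism -/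
theorem fAut_phiSub (σ : F ≃+* F) (g : SpecialLinearGroup (Fin n) (fixK σ)) :
    fAut σ (phiSub (fixK σ) g) = phiSub (fixK σ) g := by
  rw [phiSub_apply, fAut_pr]
  congr 1
  apply Subtype.ext
  ext i j
  rw [mapSL_coe, Matrix.map_apply, map_sub_coe]
  exact (mem_fixK σ _).1 (g.1 i j).2

/-- compatibility of `cAut` of a base-changed matrix with `phiSub` -/
theorem cAut_glmap_phiSub (K₀ : Subfield F) (W : GL (Fin n) K₀)
    (g : SpecialLinearGroup (Fin n) K₀) :
    cAut (Matrix.GeneralLinearGroup.map K₀.subtype W) (phiSub K₀ g) = phiSub K₀ (conjSL W g) := by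
  rw [phiSub_apply, phiSub_apply, cAut_pr]
  congr 1
  apply Subtype.ext
  rw [conjSL_coe]
  have h1 : (Matrix.GeneralLinearGroup.map K₀.subtype W)⁻¹ =
      Matrix.GeneralLinearGroup.map K₀.subtype W⁻¹ := (map_inv _ _).symm
  rw [h1]
  show K₀.subtype.mapMatrix W.1 * K₀.subtype.mapMatrix g.1 * K₀.subtype.mapMatrix W⁻¹.1 =
    K₀.subtype.mapMatrix (W.1 * g.1 * W⁻¹.1)
  rw [map_mul, map_mul]

theorem glmap_toGL (K₀ : Subfield F) (g : SpecialLinearGroup (Fin n) K₀) :
    Matrix.GeneralLinearGroup.map K₀.subtype (Matrix.SpecialLinearGroup.toGL g) =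
      Matrix.SpecialLinearGroup.toGL (Matrix.SpecialLinearGroup.map K₀.subtype g) := by
  apply Units.ext
  rfl

/-- a fixed point of the field automorphism acts on `PSL_n(F)` as a matrix over the fixed field -/
theorem exists_gl_of_fixed [Finite F] (hn : 2 ≤ n) (σ : F ≃+* F)
    (k : ProjectiveSpecialLinearGroup (Fin n) F) (hk : fAut σ k = k) :
    ∃ W : GL (Fin n) (fixK σ),
      MulAut.conj k = cAut (Matrix.GeneralLinearGroup.map (fixK σ).subtype W) := by
  obtain ⟨s, rfl⟩ := pr_surj k
  have h1 := conj_comm_of_fixed (fAut σ) hk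
  rw [conj_pr_eq] at h1 ⊢
  obtain ⟨μ, hμ⟩ := (Cfsg.Agent.Lib.helper48.Split.comm_fAut_iff hn σ _).1 h1
  have hs1 : (Matrix.SpecialLinearGroup.toGL s).1 = s.1 := rfl
  rw [hs1] at hμ
  have hfix : ∀ i j : Fin n, (μ : F) * s.1 i j ∈ fixK σ := by
    intro i j
    rw [mem_fixK]
    have := congrFun (congrFun hμ i) j
    simpa [Matrix.map_apply, Matrix.smul_apply] using this
  obtain ⟨W₀, hW₀def⟩ : ∃ W₀ : Matrix (Fin n) (Fin n) (fixK σ),
      W₀ = fun i j => ⟨(μ : F) * s.1 i j, hfix i j⟩ := ⟨_, rfl⟩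
  have hW₀ : (fixK σ).subtype.mapMatrix W₀ = (μ : F) • s.1 := by
    ext i j
    rw [hW₀def]
    rfl
  have hdet : W₀.det ≠ 0 := by
    intro h0
    have h2 : ((fixK σ).subtype.mapMatrix W₀).det = 0 := by
      rw [← RingHom.map_det, h0, map_zero]
    rw [hW₀, det_smul, s.2, mul_one] at h2
    exact pow_ne_zero _ μ.ne_zero h2
  refine ⟨Matrix.GeneralLinearGroup.mkOfDetNeZero W₀ hdet, ?_⟩
  have h3 : cAut (Matrix.GeneralLinearGroup.map (fixK σ).subtype
      (Matrix.GeneralLinearGroup.mkOfDetNeZero W₀ hdet) *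
        (Matrix.SpecialLinearGroup.toGL s)⁻¹) = 1 := by
    apply cAut_eq_one_of_scalar _ μ
    show (fixK σ).subtype.mapMatrix W₀ * (Matrix.SpecialLinearGroup.toGL s)⁻¹.1 = _
    rw [hW₀, Matrix.smul_mul]
    congr 1
    exact (Matrix.SpecialLinearGroup.toGL s).mul_inv
  rw [map_mul, map_inv, mul_inv_eq_one] at h3
  exact h3.symm

/-- fixed points normalise the image of `SL_n(fixK σ)` -/
theorem conj_mem_range [Finite F] (hn : 2 ≤ n) (σ : F ≃+* F)
    (k : ProjectiveSpecialLinearGroup (Fin n) F) (hk : fAut σ k = k)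
    (e : ProjectiveSpecialLinearGroup (Fin n) F) (he : e ∈ (phiSub (n := n) (fixK σ)).range) :
    k * e * k⁻¹ ∈ (phiSub (n := n) (fixK σ)).range := by
  obtain ⟨W, hW⟩ := exists_gl_of_fixed hn σ k hk
  obtain ⟨g, rfl⟩ := he
  refine ⟨conjSL W g, ?_⟩
  rw [← cAut_glmap_phiSub, ← hW, MulAut.conj_apply]

/-- a power of a fixed point prime to nothing: the `|F₀ˣ|`-th power lies in the image of
`SL_n(fixK σ)` -/
theorem pow_mem_range [Finite F] (hn : 2 ≤ n) (σ : F ≃+* F)
    (k : ProjectiveSpecialLinearGroup (Fin n) F) (hk : fAut σ k = k) :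
    k ^ Nat.card (fixK σ)ˣ ∈ (phiSub (n := n) (fixK σ)).range := by
  obtain ⟨W, hW⟩ := exists_gl_of_fixed hn σ k hk
  have hdet : Matrix.GeneralLinearGroup.det (W ^ Nat.card (fixK σ)ˣ) = 1 := by
    rw [map_pow, pow_card_eq_one']
  have hdet' : ((W ^ Nat.card (fixK σ)ˣ).1).det = 1 := by
    rw [← Matrix.GeneralLinearGroup.val_det_apply, hdet, Units.val_one]
  obtain ⟨g', hg'def⟩ : ∃ g' : SpecialLinearGroup (Fin n) (fixK σ),
      g' = ⟨(W ^ Nat.card (fixK σ)ˣ).1, hdet'⟩ := ⟨_, rfl⟩
  have hg' : Matrix.SpecialLinearGroup.toGL g' = W ^ Nat.card (fixK σ)ˣ := by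
    apply Units.ext
    rw [hg'def]
    rfl
  refine ⟨g', ?_⟩
  apply conj_inj_psl hn
  rw [map_pow, hW, ← map_pow, ← map_pow, ← hg', glmap_toGL, phiSub_apply, conj_pr_eq]

/-- an element of `PSL_n(F)` commuting with the image of `SL_n(K₀)` is trivial -/
theorem eq_one_of_comm_range (hn : 2 ≤ n) (K₀ : Subfield F)
    (k : ProjectiveSpecialLinearGroup (Fin n) F)
    (hc : ∀ e ∈ (phiSub (n := n) K₀).range, k * e = e * k) : k = 1 := by
  have : NeZero n := ⟨by omega⟩
  obtain ⟨s, rfl⟩ := pr_surj k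
  have h1 : ∀ i j : Fin n, i ≠ j →
      (Matrix.SpecialLinearGroup.toGL s).1 * Matrix.single i j (1 : F) =
        Matrix.single i j 1 * (Matrix.SpecialLinearGroup.toGL s).1 := by
    intro i j hij
    apply cAut_Tv_eq (Matrix.SpecialLinearGroup.toGL s) hij hij
    rw [← conj_pr_eq, MulAut.conj_apply]
    have h2 : pr (Matrix.SpecialLinearGroup.transvection hij (1 : F)) ∈
        (phiSub (n := n) K₀).range := by
      refine ⟨Matrix.SpecialLinearGroup.transvection hij 1, ?_⟩
      rw [phiSub_apply]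
      congr 1
      apply Subtype.ext
      ext a b
      rw [map_sub_coe, Matrix.SpecialLinearGroup.transvection_coe,
        Matrix.SpecialLinearGroup.transvection_coe]
      simp only [Matrix.add_apply, Matrix.one_apply, Matrix.single_apply]
      split_ifs <;> simp
    rw [hc _ h2, mul_inv_cancel_right]
  obtain ⟨c, hc'⟩ := exists_scalar_of_comm hn _ h1
  have h3 := cAut_eq_one_of_scalar _ c hc'
  rw [← conj_pr_eq] at h3
  exact (injective_iff_map_eq_one _).1 (conj_inj_psl hn) _ h3

end psl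

section main

variable {n : ℕ} {F : Type*} [Field F] [Fintype F]

/-- the image of `SL_n(fixK σ)` contains an element of order `p` as soon as the fixed points of
the field automorphism do -/
theorem exists_order_p (hn : 2 ≤ n) (σ : F ≃+* F) {p : ℕ} [Fact p.Prime]
    (hdvd : p ∣ Nat.card (fixG (fAut σ : MulAut (ProjectiveSpecialLinearGroup (Fin n) F)))) :
    ∃ y ∈ (phiSub (n := n) (fixK σ)).range, orderOf y = p := by
  have hp : p.Prime := Fact.out
  have : NeZero n := ⟨by omega⟩
  by_cases hpe : p ∣ Nat.card (fixK σ)ˣ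
  · obtain ⟨ζ, hζ⟩ := exists_prime_orderOf_dvd_card' p hpe
    have hζp : ((ζ : (fixK σ)ˣ) : fixK σ) ^ p = 1 := by
      rw [← Units.val_pow_eq_pow_val, ← hζ, pow_orderOf_eq_one, Units.val_one]
    have hζ1 : ((ζ : (fixK σ)ˣ) : fixK σ) ≠ 1 := by
      intro h1
      have h2 : ζ = 1 := Units.ext h1
      rw [h2, orderOf_one] at hζ
      exact hp.one_lt.ne hζ
    by_cases h2 : n = 2 ∧ p = 2
    · -- the Weyl element
      obtain ⟨rfl, rfl⟩ := h2
      refine ⟨phiSub (fixK σ) Cfsg.Agent.Lib.helper43.wSL, ⟨_, rfl⟩, ?_⟩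
      apply orderOf_eq_prime
      · rw [← map_pow, phiSub_eq_one_iff]
        refine ⟨-1, ?_⟩
        rw [pow_two, Matrix.SpecialLinearGroup.coe_mul, Cfsg.Agent.Lib.helper43.wSL_val]
        ext i j
        fin_cases i <;> fin_cases j <;> simp [Matrix.mul_apply, Fin.sum_univ_two]
      · rw [Ne, phiSub_eq_one_iff]
        rintro ⟨c, hc⟩
        have := congrFun (congrFun hc 0) 1
        rw [Cfsg.Agent.Lib.helper43.wSL_val] at this
        simp at this
    · -- the diagonal element `diag(ζ, ζ⁻¹, 1, …, 1)`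
      obtain ⟨i₀, hi₀⟩ : ∃ i₀ : Fin n, i₀ = ⟨0, by omega⟩ := ⟨_, rfl⟩
      obtain ⟨i₁, hi₁⟩ : ∃ i₁ : Fin n, i₁ = ⟨1, by omega⟩ := ⟨_, rfl⟩
      have h01 : i₀ ≠ i₁ := by
        rw [hi₀, hi₁]
        intro h
        have := congrArg Fin.val h
        simp at this
      obtain ⟨d, hd⟩ : ∃ d : Fin n → fixK σ, d = fun i =>
          if i = i₀ then ((ζ : (fixK σ)ˣ) : fixK σ) else
            if i = i₁ then ((ζ⁻¹ : (fixK σ)ˣ) : fixK σ) else 1 := ⟨_, rfl⟩
      have hd0 : d i₀ = ζ := by rw [hd]; simp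
      have hd1 : d i₁ = ((ζ⁻¹ : (fixK σ)ˣ) : fixK σ) := by rw [hd]; simp [h01.symm]
      have hd2 : ∀ i : Fin n, i ≠ i₀ → i ≠ i₁ → d i = 1 := by
        intro i h0 h1
        rw [hd]
        simp [h0, h1]
      have hdet : (Matrix.diagonal d).det = 1 := by
        rw [det_diagonal, Finset.prod_eq_mul i₀ i₁ h01 (fun c _ hc => hd2 c hc.1 hc.2)
          (fun h => absurd (Finset.mem_univ _) h) (fun h => absurd (Finset.mem_univ _) h),
          hd0, hd1, ← Units.val_mul, mul_inv_cancel, Units.val_one]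
      obtain ⟨g, hg⟩ : ∃ g : SpecialLinearGroup (Fin n) (fixK σ), g.1 = Matrix.diagonal d :=
        ⟨⟨_, hdet⟩, rfl⟩
      refine ⟨phiSub (fixK σ) g, ⟨_, rfl⟩, ?_⟩
      apply orderOf_eq_prime
      · rw [← map_pow, phiSub_eq_one_iff]
        refine ⟨1, ?_⟩
        rw [Matrix.SpecialLinearGroup.coe_pow, hg, Matrix.diagonal_pow, one_smul,
          ← Matrix.diagonal_one]
        congr 1
        funext i
        rw [Pi.pow_apply]
        by_cases h0 : i = i₀
        · rw [h0, hd0, hζp]
        · by_cases h1 : i = i₁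
          · rw [h1, hd1, Units.val_inv_eq_inv_val, inv_pow, hζp, inv_one]
          · rw [hd2 i h0 h1, one_pow]
      · rw [Ne, phiSub_eq_one_iff]
        rintro ⟨c, hc⟩
        rw [hg] at hc
        have e0 : d i₀ = c := by
          have := congrFun (congrFun hc i₀) i₀
          simpa using this
        have e1 : d i₁ = c := by
          have := congrFun (congrFun hc i₁) i₁
          simpa using this
        by_cases hn3 : 3 ≤ n
        · obtain ⟨i₂, hi₂⟩ : ∃ i₂ : Fin n, i₂ = ⟨2, by omega⟩ := ⟨_, rfl⟩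
          have e2 : d i₂ = c := by
            have := congrFun (congrFun hc i₂) i₂
            simpa using this
          have h20 : i₂ ≠ i₀ := by
            rw [hi₀, hi₂]
            intro h
            have := congrArg Fin.val h
            simp at this
          have h21 : i₂ ≠ i₁ := by
            rw [hi₁, hi₂]
            intro h
            have := congrArg Fin.val h
            simp at this
          rw [hd2 i₂ h20 h21] at e2
          rw [hd0, ← e2] at e0
          exact hζ1 e0
        · have hn2 : n = 2 := by omega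
          have hp2 : p ≠ 2 := fun h => h2 ⟨hn2, h⟩
          rw [hd0] at e0
          rw [hd1, ← e0, Units.val_inv_eq_inv_val] at e1
          have h3 : ζ ^ 2 = 1 := by
            apply Units.ext
            rw [Units.val_pow_eq_pow_val, Units.val_one, pow_two]
            have hz : ((ζ : (fixK σ)ˣ) : fixK σ) ≠ 0 := ζ.ne_zero
            calc ((ζ : (fixK σ)ˣ) : fixK σ) * ζ = ζ * (ζ : fixK σ)⁻¹ := by rw [e1]
              _ = 1 := mul_inv_cancel₀ hz
          have h4 := orderOf_dvd_of_pow_eq_one h3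
          rw [hζ] at h4
          exact hp2 ((Nat.prime_dvd_prime_iff_eq hp Nat.prime_two).1 h4)
  · -- a power of a fixed point of order `p`
    obtain ⟨k, hk⟩ := exists_prime_orderOf_dvd_card' p hdvd
    refine ⟨(k : ProjectiveSpecialLinearGroup (Fin n) F) ^ Nat.card (fixK σ)ˣ,
      pow_mem_range hn σ k.1 k.2, ?_⟩
    have h1 : orderOf (k : ProjectiveSpecialLinearGroup (Fin n) F) = p := by
      rw [Subgroup.orderOf_coe]
      exact hk
    rw [Nat.Coprime.orderOf_pow, h1]
    rw [h1]
    exact (Nat.Prime.coprime_iff_not_dvd hp).2 hpe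

/-- **Piece F-CORE of S2686.** -/
theorem field_noCore {r f : ℕ} [Fact r.Prime] (hF : Fintype.card F = r ^ f) (hn : 2 ≤ n)
    (σ : F ≃+* F) {p : ℕ} [Fact p.Prime] (hpr : p ≠ r) (hσ : orderOf σ = p)
    (hdvd : p ∣ Nat.card (fixG (fAut σ : MulAut (ProjectiveSpecialLinearGroup (Fin n) F)))) :
    NoCore p (fAut σ : MulAut (ProjectiveSpecialLinearGroup (Fin n) F)) := by
  have hp : p.Prime := Fact.out
  have hr : r.Prime := Fact.out
  have : NeZero n := ⟨by omega⟩
  obtain ⟨y, hyE, hyp⟩ := exists_order_p hn σ hdvd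
  apply noCore_of_weak (fAut σ) (phiSub (n := n) (fixK σ)).range
  · rintro _ ⟨g, rfl⟩
    exact fAut_phiSub σ g
  · intro k hk e he
    exact conj_mem_range hn σ k hk e he
  · intro M hMnorm hcop
    by_cases hbig : 3 ≤ n ∨ 4 ≤ Nat.card (fixK σ)
    · have hs : IsSimpleGroup (ProjectiveSpecialLinearGroup (Fin n) (fixK σ)) := by
        by_cases h3 : 3 ≤ n
        · exact Cfsg.Agent.S0249.result n h3
        · have hn2 : n = 2 := by omega
          subst hn2
          rcases hbig with h | h
          · exact absurd h h3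
          · exact Matrix.ProjectiveSpecialLinearGroup.rank_two_simple h
      have hZ : Subgroup.center (SpecialLinearGroup (Fin n) (fixK σ)) ≤
          (phiSub (n := n) (fixK σ)).ker := by
        intro z hz
        rw [MonoidHom.mem_ker, phiSub_eq_one_iff]
        rw [Matrix.SpecialLinearGroup.mem_center_iff] at hz
        obtain ⟨c, -, hc⟩ := hz
        refine ⟨c, ?_⟩
        rw [← hc, Matrix.scalar_apply, Matrix.smul_one_eq_diagonal]
      rcases range_simple (phiSub (n := n) (fixK σ)) (Subgroup.center _) hZ hs M hMnorm with h | h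
      · exact h
      · exfalso
        have h4 : orderOf (⟨y, h hyE⟩ : ↥M) = p := by
          rw [← Subgroup.orderOf_coe]
          exact hyp
        have h5 : p ∣ Nat.card M := by
          rw [← h4]
          exact orderOf_dvd_natCard _
        exact hp.one_lt.ne' (Nat.Coprime.eq_one_of_dvd hcop.symm h5)
    · -- the small case `n = 2`, `|F₀| ≤ 3`
      have hn2 : n = 2 := by omega
      subst hn2
      have h3 : Nat.card (fixK σ) ≤ 3 := by omega
      have hchar : ((p : ℕ) : fixK σ) ≠ 0 := by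
        have : CharP F r := charP_of_card_eq_prime_pow hF
        intro h0
        have h1 : ((p : ℕ) : F) = 0 := by
          have := congrArg (fixK σ).subtype h0
          simpa using this
        rw [CharP.cast_eq_zero_iff F r] at h1
        exact hpr ((Nat.prime_dvd_prime_iff_eq hr hp).1 h1).symm
      obtain ⟨gy, rfl⟩ := hyE
      have hN : (M.comap (phiSub (n := 2) (fixK σ))).Normal := by
        constructor
        intro a ha b
        rw [Subgroup.mem_comap] at ha ⊢
        rw [map_mul, map_mul, map_inv]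
        exact hMnorm _ ⟨b, rfl⟩ _ ha
      have key := sl2_small_scalar h3 (M.comap (phiSub (n := 2) (fixK σ))) hN hp hchar gy ?_ ?_ ?_
      · rw [Subgroup.eq_bot_iff_forall]
        rintro k ⟨hkM, g, rfl⟩
        exact (phiSub_eq_one_iff _ _).2 (key g hkM)
      · intro c hc
        have h1 := (phiSub_eq_one_iff (fixK σ) gy).2 ⟨c, hc⟩
        rw [h1, orderOf_one] at hyp
        exact hp.one_lt.ne hyp
      · rw [← phiSub_eq_one_iff, map_pow, ← hyp]
        exact pow_orderOf_eq_one _
      · intro g hg hgp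
        rw [← phiSub_eq_one_iff] at hgp ⊢
        rw [map_pow] at hgp
        have h1 : orderOf (phiSub (fixK σ) g) ∣ p := orderOf_dvd_of_pow_eq_one hgp
        have h2 : orderOf (phiSub (fixK σ) g) ∣ Nat.card M := by
          have h4 : orderOf (⟨_, hg⟩ : ↥M) = orderOf (phiSub (fixK σ) g) := by
            rw [← Subgroup.orderOf_coe]
          rw [← h4]
          exact orderOf_dvd_natCard _
        have h5 := Nat.dvd_gcd h2 h1
        rw [Nat.Coprime] at hcop
        rw [hcop, Nat.dvd_one, orderOf_eq_one_iff] at h5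
        exact h5
  · intro k _ hc
    exact eq_one_of_comm_range hn (fixK σ) k hc

end main

end Cfsg.Agent.Lib.helper57.S2686
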