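import Cfsg.Agent.Lib.helper48.LBRefl
import Cfsg.Agent.Lib.helper50.PSUTransfer
import Cfsg.Agent.Lib.helper50.PSUF4
import Cfsg.Agent.Lib.helper48.PSUOut
import Cfsg.Agent.S0283

/-!
# S2687, piece FC-EMB: `SU_n` over the fixed field of a field automorphism of odd prime order

The special unitary group over the fixed subfield `K₀` of `σ` (with parameter `q₀`, `q = q₀ ^ p`)
embeds into `SU_n(F, q)` by base change, and its image is exactly the set of `σ`-fixed elements.
-/

set_option autoImplicit false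

namespace Cfsg.Agent.Lib.helper57.S2687

open Matrix Cfsg
open Cfsg.Agent.Lib.helper50
open Cfsg.Agent.Lib.helper48.LB
open Cfsg.Agent.Lib.helper48.AbsBal (fixG)
open Cfsg.Agent.Lib.helper99 (suMat)

universe u v

variable {n q : ℕ} {F : Type u} [Field F] [Fintype F]

/-- base change of a hermitian isometry from a subfield `K₀` (`|K₀| = q₀²`, `x^q = x^q₀` on `K₀`)
-/
theorem isIsom_map_subtype (hF : Fintype.card F = q ^ 2) (K₀ : Subfield F) {q₀ : ℕ}
    (hK₀ : Nat.card K₀ = q₀ ^ 2) (hpow : ∀ x : K₀, (x : F) ^ q = (x : F) ^ q₀) (n : ℕ)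
    (M : Matrix (Fin n) (Fin n) K₀) :
    Cfsg.Agent.Lib.helper7.IsIsom n q (M.map K₀.subtype) ↔
      Cfsg.Agent.Lib.helper7.IsIsom n q₀ M := by
  classical
  have : Fintype K₀ := Fintype.ofFinite _
  have hK₀' : Fintype.card K₀ = q₀ ^ 2 := by rw [← Nat.card_eq_fintype_card]; exact hK₀
  rw [isIsom_iff_entries hF, isIsom_iff_entries hK₀']
  have key : ∀ j k : Fin n, (∑ i, (M.map K₀.subtype) i j * ((M.map K₀.subtype) i k) ^ q)
      = ((∑ i, M i j * (M i k) ^ q₀ : K₀) : F) := by
    intro j k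
    simp only [Matrix.map_apply, Subfield.coe_subtype, hpow, AddSubmonoidClass.coe_finsetSum,
      Subfield.coe_mul, SubmonoidClass.coe_pow]
  constructor
  · intro h j k
    apply Subtype.ext
    rw [← key, h j k]
    split_ifs <;> simp
  · intro h j k
    rw [key, h j k]
    split_ifs <;> simp

/-- **Piece FC-EMB of S2687.** -/
theorem exists_subfield_emb (hF : Fintype.card F = q ^ 2) {q₀ p : ℕ} (hp : p.Prime) (hp2 : p ≠ 2)
    (hq₀ : q = q₀ ^ p) (σ : F ≃+* F) (hσ : orderOf σ = p) (n : ℕ) :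
    ∃ f : ↥(SU n (FixedPoints.subfield (Subgroup.zpowers σ) F) q₀) →* ↥(SU n F q),
      (∀ s, suMat (f s) = (suMat s).map (FixedPoints.subfield (Subgroup.zpowers σ) F).subtype) ∧
      ∀ t : ↥(SU n F q), fieldSU σ t = t ↔ t ∈ f.range := by
  classical
  obtain ⟨hK₀, hpow⟩ := PSUF.fixed_data hF hp hp2 hq₀ σ hσ
  set K₀ : Subfield F := FixedPoints.subfield (Subgroup.zpowers σ) F with hK₀def
  have hfix : ∀ x : K₀, σ (x : F) = x := fun x => (fa_mem_fixed_iff σ _).1 x.2
  have hdet : ∀ s : ↥(SU n K₀ q₀), ((suMat s).map K₀.subtype).det = 1 := by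
    intro s
    have h1 : ((suMat s).map K₀.subtype).det = K₀.subtype ((suMat s).det) :=
      (RingHom.map_det K₀.subtype (suMat s)).symm
    rw [h1, Cfsg.Agent.Lib.helper99.suMat_det, map_one]
  have hiso : ∀ s : ↥(SU n K₀ q₀), ∀ u v : Fin n → F,
      hermForm n F q (((suMat s).map K₀.subtype) *ᵥ u) (((suMat s).map K₀.subtype) *ᵥ v)
        = hermForm n F q u v := by
    intro s
    exact (isIsom_map_subtype hF K₀ hK₀ hpow n (suMat s)).2
      (Cfsg.Agent.Lib.helper99.suMat_isIsom s)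
  let f : ↥(SU n K₀ q₀) →* ↥(SU n F q) :=
    { toFun := fun s => Cfsg.Agent.Lib.helper99.mkSU ((suMat s).map K₀.subtype) (hdet s) (hiso s)
      map_one' := by
        apply Cfsg.Agent.Lib.helper99.suMat_inj
        rw [Cfsg.Agent.Lib.helper99.suMat_mkSU, Cfsg.Agent.Lib.helper99.suMat_one,
          Cfsg.Agent.Lib.helper99.suMat_one]
        exact Matrix.map_one _ (map_zero _) (map_one _)
      map_mul' := by
        intro a b
        apply Cfsg.Agent.Lib.helper99.suMat_inj
        rw [Cfsg.Agent.Lib.helper99.suMat_mkSU, Cfsg.Agent.Lib.helper99.suMat_mul,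
          Cfsg.Agent.Lib.helper99.suMat_mul, Cfsg.Agent.Lib.helper99.suMat_mkSU,
          Cfsg.Agent.Lib.helper99.suMat_mkSU]
        exact Matrix.map_mul }
  have hf : ∀ s, suMat (f s) = (suMat s).map K₀.subtype := fun s => rfl
  refine ⟨f, hf, ?_⟩
  intro t
  constructor
  · intro ht
    have h1 : (suMat t).map σ = suMat t := congrArg suMat ht
    have hmem : ∀ i j : Fin n, suMat t i j ∈ K₀ := by
      intro i j
      apply (fa_mem_fixed_iff σ _).2
      have := congrFun (congrFun h1 i) j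
      simpa using this
    obtain ⟨M₀, hM₀⟩ : ∃ M₀ : Matrix (Fin n) (Fin n) K₀,
        M₀ = fun i j => ⟨suMat t i j, hmem i j⟩ := ⟨_, rfl⟩
    have hM₀map : M₀.map K₀.subtype = suMat t := by
      ext i j
      rw [hM₀]
      rfl
    have hd₀ : M₀.det = 1 := by
      apply K₀.subtype_injective
      rw [RingHom.map_det, map_one]
      show (M₀.map K₀.subtype).det = 1
      rw [hM₀map, Cfsg.Agent.Lib.helper99.suMat_det]
    have hi₀ : ∀ u v : Fin n → K₀, hermForm n K₀ q₀ (M₀ *ᵥ u) (M₀ *ᵥ v) = hermForm n K₀ q₀ u v := by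
      apply (isIsom_map_subtype hF K₀ hK₀ hpow n M₀).1
      rw [hM₀map]
      exact Cfsg.Agent.Lib.helper99.suMat_isIsom t
    refine ⟨Cfsg.Agent.Lib.helper99.mkSU M₀ hd₀ hi₀, ?_⟩
    apply Cfsg.Agent.Lib.helper99.suMat_inj
    rw [hf, Cfsg.Agent.Lib.helper99.suMat_mkSU, hM₀map]
  · rintro ⟨s, rfl⟩
    apply Cfsg.Agent.Lib.helper99.suMat_inj
    show (suMat (f s)).map σ = suMat (f s)
    rw [hf]
    ext i j
    simp only [Matrix.map_apply, Subfield.coe_subtype]
    exact hfix _

end Cfsg.Agent.Lib.helper57.S2687
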