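import Cfsg.Agent.Lib.helper57.S2687FCEMB

/-!
# S2687, piece FC-ORD (core): an element of order `p` among the `σ`-fixed points of `PSU_n`

`exists_fixed_order_of`: the statement of piece FC-ORD with the statement of piece FC-CNT
(`|Fix| ∣ |GU_n(q₀)|`) as an explicit hypothesis.
-/

set_option autoImplicit false

namespace Cfsg.Agent.Lib.helper57.S2687

open Matrix Cfsg
open Cfsg.Agent.Lib.helper50
open Cfsg.Agent.Lib.helper48.LB
open Cfsg.Agent.Lib.helper48.AbsBal (fixG)
open Cfsg.Agent.Lib.helper99 (suMat)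

universe u v

variable {n q : ℕ} {F : Type u} [Field F] [Fintype F]

theorem suMat_pow' {K : Type*} [Field K] {n q : ℕ} (s : ↥(SU n K q)) (k : ℕ) :
    suMat (s ^ k) = suMat s ^ k := by
  induction k with
  | zero => rw [pow_zero, pow_zero]; rfl
  | succ k ih => rw [pow_succ, pow_succ, Cfsg.Agent.Lib.helper99.suMat_mul, ih]

omit [Fintype F] in
/-- the class of `t ∈ SU_n(F,q)` in `PSU_n` is trivial iff `t` is central -/
theorem mk_eq_one_iff_center (t : ↥(SU n F q)) :
    (QuotientGroup.mk t : PSU n F q) = 1 ↔ t ∈ Subgroup.center ↥(SU n F q) :=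
  QuotientGroup.eq_one_iff t

/-- **Piece FC-ORD of S2687**, with the statement of piece FC-CNT as a hypothesis. -/
theorem exists_fixed_order_of (hF : Fintype.card F = q ^ 2) (hn : 3 ≤ n) {q₀ p : ℕ}
    [Fact p.Prime] (hp2 : p ≠ 2) (hq₀ : q = q₀ ^ p) (σ : F ≃+* F) (hσ : orderOf σ = p)
    (hcnt : Nat.card (fixG (fieldPSU σ : MulAut (PSU n F q))) ∣
      q₀ ^ (n * (n - 1) / 2)
        * ∏ i ∈ Finset.range n, (if Even i then q₀ ^ (i + 1) + 1 else q₀ ^ (i + 1) - 1))
    (hdvd : p ∣ Nat.card (fixG (fieldPSU σ : MulAut (PSU n F q)))) :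
    ∃ t : ↥(SU n F q), fieldSU σ t = t ∧ orderOf (QuotientGroup.mk t : PSU n F q) = p := by
  classical
  have hp : p.Prime := Fact.out
  have hdata := PSUF.fixed_data hF hp hp2 hq₀ σ hσ
  have hemb := exists_subfield_emb hF hp hp2 hq₀ σ hσ n
  obtain ⟨K₀, hK₀def⟩ : ∃ K₀ : Subfield F, K₀ = FixedPoints.subfield (Subgroup.zpowers σ) F :=
    ⟨_, rfl⟩
  rw [← hK₀def] at hdata hemb
  obtain ⟨hK₀, hpow⟩ := hdata
  obtain ⟨f, hf, hrange⟩ := hemb
  have : Fintype K₀ := Fintype.ofFinite _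
  have hK₀' : Fintype.card K₀ = q₀ ^ 2 := by rw [← Nat.card_eq_fintype_card]; exact hK₀
  have hq₀2 : 2 ≤ q₀ := Cfsg.Agent.Lib.helper7.two_le_of_card_sq hK₀'
  have hq2 : 2 ≤ q := Cfsg.Agent.Lib.helper7.two_le_of_card_sq hF
  have hq₀ne : q₀ ≠ 0 := by omega
  have hqne : q ≠ 0 := by omega
  obtain ⟨i₀, hi₀⟩ : ∃ i₀ : Fin n, i₀ = ⟨0, by omega⟩ := ⟨_, rfl⟩
  obtain ⟨i₁, hi₁⟩ : ∃ i₁ : Fin n, i₁ = ⟨1, by omega⟩ := ⟨_, rfl⟩
  obtain ⟨i₂, hi₂⟩ : ∃ i₂ : Fin n, i₂ = ⟨2, by omega⟩ := ⟨_, rfl⟩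
  have h01 : i₀ ≠ i₁ := by
    rw [hi₀, hi₁]
    intro h
    have := congrArg Fin.val h
    simp at this
  have h20 : i₂ ≠ i₀ := by
    rw [hi₀, hi₂]
    intro h
    have := congrArg Fin.val h
    simp at this
  have h21 : i₂ ≠ i₁ := by
    rw [hi₁, hi₂]
    intro h
    have := congrArg Fin.val h
    simp at this
  -- `p` divides `(q₀ + 1) * |SU_n(K₀, q₀)|`
  have hdvd2 : p ∣ (q₀ + 1) * Nat.card ↥(SU n K₀ q₀) := by
    rw [Cfsg.Agent.Lib.helper7.card_SU hK₀' n (by omega)]
    exact dvd_trans hdvd hcnt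
  have finj : Function.Injective f := by
    intro a b hab
    have h1 : suMat (f a) = suMat (f b) := by rw [hab]
    rw [hf, hf] at h1
    exact Cfsg.Agent.Lib.helper99.suMat_inj (Matrix.map_injective K₀.subtype_injective h1)
  have hmkpow : ∀ t : ↥(SU n F q), t ^ p = 1 → (QuotientGroup.mk t : PSU n F q) ^ p = 1 := by
    intro t ht
    rw [← QuotientGroup.mk_pow, ht]
    rfl
  by_cases hpq : p ∣ q₀ + 1
  · -- the diagonal element `diag(ζ, ζ⁻¹, 1, …, 1)` over `K₀`
    have hcardU : Nat.card K₀ˣ = (q₀ - 1) * (q₀ + 1) := by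
      rw [Nat.card_units, hK₀]
      obtain ⟨m, rfl⟩ : ∃ m, q₀ = m + 1 := ⟨q₀ - 1, by omega⟩
      rw [Nat.add_sub_cancel]
      have : (m + 1) ^ 2 = m * (m + 1 + 1) + 1 := by ring
      rw [this, Nat.add_sub_cancel]
    have hpU : p ∣ Nat.card K₀ˣ := by
      rw [hcardU]
      exact dvd_mul_of_dvd_right hpq _
    obtain ⟨ζ, hζ⟩ := exists_prime_orderOf_dvd_card' p hpU
    have hζp : ((ζ : K₀ˣ) : K₀) ^ p = 1 := by
      rw [← Units.val_pow_eq_pow_val, ← hζ, pow_orderOf_eq_one, Units.val_one]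
    have hζq : ((ζ : K₀ˣ) : K₀) ^ (q₀ + 1) = 1 := by
      obtain ⟨m, hm⟩ := hpq
      rw [hm, pow_mul, hζp, one_pow]
    have hζ1 : ((ζ : K₀ˣ) : K₀) ≠ 1 := by
      intro h1
      have h2 : ζ = 1 := Units.ext h1
      rw [h2, orderOf_one] at hζ
      exact hp.one_lt.ne hζ
    obtain ⟨d, hd⟩ : ∃ d : Fin n → K₀, d = fun i =>
        if i = i₀ then ((ζ : K₀ˣ) : K₀) else
          if i = i₁ then ((ζ⁻¹ : K₀ˣ) : K₀) else 1 := ⟨_, rfl⟩
    have hd0 : d i₀ = ζ := by rw [hd]; simp
    have hd1 : d i₁ = ((ζ⁻¹ : K₀ˣ) : K₀) := by rw [hd]; simp [h01.symm]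
    have hd2 : ∀ i : Fin n, i ≠ i₀ → i ≠ i₁ → d i = 1 := by
      intro i h0 h1
      rw [hd]
      simp [h0, h1]
    have hdp : ∀ i : Fin n, d i ^ p = 1 := by
      intro i
      by_cases h0 : i = i₀
      · rw [h0, hd0, hζp]
      · by_cases h1 : i = i₁
        · rw [h1, hd1, Units.val_inv_eq_inv_val, inv_pow, hζp, inv_one]
        · rw [hd2 i h0 h1, one_pow]
    have hdq : ∀ i : Fin n, d i * d i ^ q₀ = 1 := by
      intro i
      rw [← pow_succ']
      by_cases h0 : i = i₀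
      · rw [h0, hd0, hζq]
      · by_cases h1 : i = i₁
        · rw [h1, hd1, Units.val_inv_eq_inv_val, inv_pow, hζq, inv_one]
        · rw [hd2 i h0 h1, one_pow]
    have hdet : (Matrix.diagonal d).det = 1 := by
      rw [det_diagonal, Finset.prod_eq_mul i₀ i₁ h01 (fun c _ hc => hd2 c hc.1 hc.2)
        (fun h => absurd (Finset.mem_univ _) h) (fun h => absurd (Finset.mem_univ _) h),
        hd0, hd1, ← Units.val_mul, mul_inv_cancel, Units.val_one]
    have hiso : Cfsg.Agent.Lib.helper7.IsIsom n q₀ (Matrix.diagonal d) := by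
      rw [isIsom_iff_entries hK₀']
      intro j k
      rw [Finset.sum_eq_single j]
      · rw [Matrix.diagonal_apply_eq, Matrix.diagonal_apply]
        split_ifs with hjk
        · exact hdq j
        · rw [zero_pow hq₀ne, mul_zero]
      · intro b _ hbj
        rw [Matrix.diagonal_apply_ne _ hbj, zero_mul]
      · intro h
        exact absurd (Finset.mem_univ _) h
    obtain ⟨s, hs⟩ : ∃ s : ↥(SU n K₀ q₀), suMat s = Matrix.diagonal d :=
      ⟨Cfsg.Agent.Lib.helper99.mkSU (Matrix.diagonal d) hdet hiso, rfl⟩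
    have hsp : s ^ p = 1 := by
      apply Cfsg.Agent.Lib.helper99.suMat_inj
      rw [suMat_pow', hs, Matrix.diagonal_pow, Cfsg.Agent.Lib.helper99.suMat_one,
        ← Matrix.diagonal_one]
      congr 1
      funext i
      rw [Pi.pow_apply]
      exact hdp i
    refine ⟨f s, (hrange (f s)).2 ⟨s, rfl⟩, ?_⟩
    apply orderOf_eq_prime
    · apply hmkpow
      rw [← map_pow, hsp, map_one]
    · intro h1
      rw [mk_eq_one_iff_center] at h1
      obtain ⟨c, hc⟩ := central_scalar hF i₀ (f s) h1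
      have hc' : suMat (f s) = c • (1 : Matrix (Fin n) (Fin n) F) := hc
      rw [hf, hs] at hc'
      have e0 : ((d i₀ : K₀) : F) = c := by
        have := congrFun (congrFun hc' i₀) i₀
        simpa using this
      have e2 : ((d i₂ : K₀) : F) = c := by
        have := congrFun (congrFun hc' i₂) i₂
        simpa using this
      rw [hd2 i₂ h20 h21] at e2
      rw [hd0, ← e2] at e0
      apply hζ1
      exact Subtype.ext e0
  · -- an element of order `p` of `SU_n(K₀, q₀)`
    have hpS : p ∣ Nat.card ↥(SU n K₀ q₀) := (hp.dvd_mul.1 hdvd2).resolve_left hpq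
    obtain ⟨y, hy⟩ := exists_prime_orderOf_dvd_card' p hpS
    have hfy : orderOf (f y) = p := by
      rw [orderOf_injective f finj y]
      exact hy
    have hfyp : f y ^ p = 1 := by
      rw [← hfy]
      exact pow_orderOf_eq_one _
    refine ⟨f y, (hrange (f y)).2 ⟨y, rfl⟩, ?_⟩
    apply orderOf_eq_prime (hmkpow _ hfyp)
    intro h1
    rw [mk_eq_one_iff_center] at h1
    obtain ⟨c, hc⟩ := central_scalar hF i₀ (f y) h1
    have hc' : suMat (f y) = c • (1 : Matrix (Fin n) (Fin n) F) := hc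
    -- `c` lies in `K₀`
    have hcK : c = ((suMat y i₀ i₀ : K₀) : F) := by
      have := congrFun (congrFun hc' i₀) i₀
      rw [hf] at this
      simpa using this.symm
    -- `c ^ p = 1`
    have hcp : c ^ p = 1 := by
      have h2 : suMat (f y ^ p) = 1 := by rw [hfyp]; rfl
      rw [suMat_pow', hc'] at h2
      have := congrFun (congrFun h2 i₀) i₀
      simpa [smul_pow] using this
    -- `c ≠ 1`
    have hc1 : c ≠ 1 := by
      intro h
      have h3 : f y = 1 := by
        apply Cfsg.Agent.Lib.helper99.suMat_inj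
        rw [hc', h, one_smul]
        rfl
      rw [h3, orderOf_one] at hfy
      exact hp.one_lt.ne hfy
    -- `c * c ^ q = 1`
    have hcq : c * c ^ q = 1 := by
      have h4 := (isIsom_iff_entries hF n (suMat (f y))).1
        (Cfsg.Agent.Lib.helper99.suMat_isIsom (f y)) i₀ i₀
      rw [hc', if_pos rfl, Finset.sum_eq_single i₀] at h4
      · simpa using h4
      · intro b _ hb
        simp [hb]
      · intro h
        exact absurd (Finset.mem_univ _) h
    have hcq₀ : c ^ (q₀ + 1) = 1 := by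
      rw [pow_succ', ← hcq]
      congr 1
      rw [hcK, hpow]
    have hord : orderOf c = p := orderOf_eq_prime hcp hc1
    apply hpq
    rw [← hord]
    exact orderOf_dvd_of_pow_eq_one hcq₀

end Cfsg.Agent.Lib.helper57.S2687
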