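import Mathlib
import Cfsg.Agent.Lib.helper49.SPEDefs

/-!
# S2333 piece CASEE, core: the orbit count in case E from PAIRTR, ESTAB, ECOUNT (as hypotheses)
-/

set_option autoImplicit false

namespace Cfsg.Agent.Lib.helper49.SPE

open Matrix

/-- Core of CASEE: the pieces PAIRTR (`hPT`), ESTAB (`hFIB`) and ECOUNT (`hCNT`) are hypotheses. -/
theorem h57_case_e_core {F : Type*} [Field F] [Fintype F] {n : ℕ}
    (S : Set ((Fin n → F) → F))
    (hstab : ∀ Q ∈ S, ∀ B : Matrix (Fin n) (Fin n) F, B.det ≠ 0 → (fun x => Q (B *ᵥ x)) ∈ S)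
    (a b c : F) (l m : Fin n → F)
    (hmem : (fun x => bq a b c (l ⬝ᵥ x) (m ⬝ᵥ x)) ∈ S)
    (hPT : ∀ u' v' : Fin n → F, Indep u' v' →
      ∃ B : Matrix (Fin n) (Fin n) F, B.det ≠ 0 ∧ B *ᵥ l = u' ∧ B *ᵥ m = v')
    (hFIB : ∀ l₀ m₀ : Fin n → F, Indep l₀ m₀ →
      Nat.card {p : (Fin n → F) × (Fin n → F) //
        ∀ x, bq a b c (p.1 ⬝ᵥ x) (p.2 ⬝ᵥ x) = bq a b c (l₀ ⬝ᵥ x) (m₀ ⬝ᵥ x)} ≤
      2 * (Fintype.card F + 1))
    (hCNT : (Fintype.card F ^ n - 1) * (Fintype.card F ^ n - Fintype.card F) ≤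
      Nat.card {p : (Fin n → F) × (Fin n → F) // Indep p.1 p.2}) :
    (Fintype.card F ^ n - 1) * (Fintype.card F ^ n - Fintype.card F) /
      (2 * (Fintype.card F + 1)) ≤ Nat.card S := by
  classical
  have hin : ∀ p : {p : (Fin n → F) × (Fin n → F) // Indep p.1 p.2},
      (fun x => bq a b c (p.1.1 ⬝ᵥ x) (p.1.2 ⬝ᵥ x)) ∈ S := by
    intro p
    obtain ⟨C, hC, hCl, hCm⟩ := hPT p.1.1 p.1.2 p.2
    have h1 := hstab _ hmem Cᵀ (by rw [Matrix.det_transpose]; exact hC)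
    have h2 : (fun x => bq a b c (l ⬝ᵥ (Cᵀ *ᵥ x)) (m ⬝ᵥ (Cᵀ *ᵥ x))) =
        (fun x => bq a b c (p.1.1 ⬝ᵥ x) (p.1.2 ⬝ᵥ x)) := by
      funext x
      rw [Matrix.dotProduct_mulVec, Matrix.dotProduct_mulVec, Matrix.vecMul_transpose,
        Matrix.vecMul_transpose, hCl, hCm]
    rw [← h2]
    exact h1
  have hfinS : Finite ↥S := inferInstance
  let _ : Fintype {p : (Fin n → F) × (Fin n → F) // Indep p.1 p.2} := Fintype.ofFinite _
  let _ : Fintype ↥S := Fintype.ofFinite _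
  have hfib : ∀ y ∈ (Finset.univ : Finset {p : (Fin n → F) × (Fin n → F) // Indep p.1 p.2}).image
      (fun p => (⟨_, hin p⟩ : ↥S)),
      (Finset.univ.filter (fun p : {p : (Fin n → F) × (Fin n → F) // Indep p.1 p.2} =>
        (⟨_, hin p⟩ : ↥S) = y)).card ≤ 2 * (Fintype.card F + 1) := by
    intro y hy
    obtain ⟨p₀, -, rfl⟩ := Finset.mem_image.mp hy
    rw [← Fintype.card_subtype, ← Nat.card_eq_fintype_card]
    refine le_trans ?_ (hFIB p₀.1.1 p₀.1.2 p₀.2)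
    refine Nat.card_le_card_of_injective (fun p => ⟨p.1.1, fun x => ?_⟩) ?_
    · have h3 := congrArg Subtype.val p.2
      exact congrFun h3 x
    · intro p p' hpp
      exact Subtype.ext (Subtype.ext (Subtype.mk.inj hpp))
  have h1 := Finset.card_le_mul_card_image
    (Finset.univ : Finset {p : (Fin n → F) × (Fin n → F) // Indep p.1 p.2})
    (2 * (Fintype.card F + 1)) hfib
  have h2 : ((Finset.univ : Finset {p : (Fin n → F) × (Fin n → F) // Indep p.1 p.2}).image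
      (fun p => (⟨_, hin p⟩ : ↥S))).card ≤ Nat.card ↥S := by
    rw [Nat.card_eq_fintype_card]
    exact Finset.card_le_univ _
  apply Nat.div_le_of_le_mul
  calc (Fintype.card F ^ n - 1) * (Fintype.card F ^ n - Fintype.card F)
      ≤ Nat.card {p : (Fin n → F) × (Fin n → F) // Indep p.1 p.2} := hCNT
    _ = (Finset.univ : Finset {p : (Fin n → F) × (Fin n → F) // Indep p.1 p.2}).card := by
        rw [Nat.card_eq_fintype_card]
        rfl
    _ ≤ 2 * (Fintype.card F + 1) * _ := h1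
    _ ≤ 2 * (Fintype.card F + 1) * Nat.card ↥S := Nat.mul_le_mul_left _ h2

end Cfsg.Agent.Lib.helper49.SPE
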