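import Mathlib
import Cfsg.Agent.Lib.helper49.SPEDefs

/-!
# S2333 piece ECOUNT (racing copy by helper57): the number of independent pairs
-/

set_option autoImplicit false

namespace Cfsg.Agent.Lib.helper49.SPE

/-- ECOUNT (racing copy) -/
theorem h57_card_indep {F : Type*} [Field F] [Fintype F] {n : ℕ} :
    (Fintype.card F ^ n - 1) * (Fintype.card F ^ n - Fintype.card F) ≤
      Nat.card {p : (Fin n → F) × (Fin n → F) // Indep p.1 p.2} := by
  classical
  have hcardV : Fintype.card (Fin n → F) = Fintype.card F ^ n := by
    rw [Fintype.card_fun, Fintype.card_fin]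
  have hstep : ∀ u : Fin n → F, u ≠ 0 → Fintype.card F ^ n - Fintype.card F ≤
      (Finset.univ.filter (fun v : Fin n → F => Indep u v)).card := by
    intro u hu
    have hsub : Finset.univ \ (Finset.univ.image (fun t : F => t • u)) ⊆
        Finset.univ.filter (fun v : Fin n → F => Indep u v) := by
      intro v hv
      rw [Finset.mem_sdiff] at hv
      rw [Finset.mem_filter]
      refine ⟨Finset.mem_univ _, ?_⟩
      intro s t hst
      have ht : t = 0 := by
        by_contra ht
        apply hv.2
        rw [Finset.mem_image]
        refine ⟨-(t⁻¹ * s), Finset.mem_univ _, ?_⟩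
        have h1 : t • v = -(s • u) := eq_neg_of_add_eq_zero_right hst
        calc (-(t⁻¹ * s)) • u = t⁻¹ • (-(s • u)) := by rw [neg_smul, mul_smul, smul_neg]
          _ = t⁻¹ • (t • v) := by rw [h1]
          _ = v := by rw [smul_smul, inv_mul_cancel₀ ht, one_smul]
      subst ht
      rw [zero_smul, add_zero] at hst
      refine ⟨?_, rfl⟩
      rcases smul_eq_zero.mp hst with h | h
      · exact h
      · exact absurd h hu
    calc Fintype.card F ^ n - Fintype.card F
        ≤ (Finset.univ : Finset (Fin n → F)).card -
          (Finset.univ.image (fun t : F => t • u)).card := by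
          rw [Finset.card_univ, hcardV]
          exact Nat.sub_le_sub_left (Finset.card_image_le.trans (by rw [Finset.card_univ])) _
      _ ≤ (Finset.univ \ (Finset.univ.image (fun t : F => t • u))).card :=
          Finset.le_card_sdiff _ _
      _ ≤ _ := Finset.card_le_card hsub
  have hcount : Nat.card {p : (Fin n → F) × (Fin n → F) // Indep p.1 p.2} =
      ∑ u : Fin n → F, (Finset.univ.filter (fun v : Fin n → F => Indep u v)).card := by
    rw [Nat.card_eq_fintype_card, Fintype.card_subtype, Finset.card_filter,
      Fintype.sum_prod_type]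
    refine Finset.sum_congr rfl (fun u _ => ?_)
    rw [Finset.card_filter]
  rw [hcount]
  calc (Fintype.card F ^ n - 1) * (Fintype.card F ^ n - Fintype.card F)
      = ∑ _u ∈ (Finset.univ : Finset (Fin n → F)).erase 0,
          (Fintype.card F ^ n - Fintype.card F) := by
        rw [Finset.sum_const, Finset.card_erase_of_mem (Finset.mem_univ _), Finset.card_univ,
          hcardV, smul_eq_mul]
    _ ≤ ∑ u ∈ (Finset.univ : Finset (Fin n → F)).erase 0,
          (Finset.univ.filter (fun v : Fin n → F => Indep u v)).card :=
        Finset.sum_le_sum (fun u hu => hstep u (Finset.ne_of_mem_erase hu))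
    _ ≤ ∑ u : Fin n → F, (Finset.univ.filter (fun v : Fin n → F => Indep u v)).card :=
        Finset.sum_le_sum_of_subset (Finset.erase_subset _ _)

end Cfsg.Agent.Lib.helper49.SPE
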