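import Mathlib
import Cfsg.Agent.Lib.helper49.SPEDefs
import Cfsg.Agent.Lib.helper57.SPECASEEcore
import Cfsg.Agent.Lib.helper57.SPEECOUNT
import Cfsg.Agent.Lib.helper40.SPEPAIRTR
import Cfsg.Agent.Lib.helper27.SPEESPAN
import Cfsg.Agent.Lib.helper66.SPEEISO

/-!
# S2333 piece CASEE: the orbit count in case E
(uses PAIRTR = helper40, ESPAN = helper27, EISO = helper66; own copies of ESTAB and ECOUNT)
-/

set_option autoImplicit false

namespace Cfsg.Agent.Lib.helper49.SPE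

open Matrix

/-- ESTAB (racing copy): from ESPAN + EISO -/
theorem h57_card_fibre_le {F : Type*} [Field F] [Fintype F] {n : ℕ} (h2 : (2 : F) = 0) (a b c : F)
    (hb : b ≠ 0) (haniso : ∀ s t : F, bq a b c s t = 0 → s = 0 ∧ t = 0) (l m : Fin n → F)
    (h : Indep l m) :
    Nat.card {p : (Fin n → F) × (Fin n → F) //
        ∀ x, bq a b c (p.1 ⬝ᵥ x) (p.2 ⬝ᵥ x) = bq a b c (l ⬝ᵥ x) (m ⬝ᵥ x)} ≤
      2 * (Fintype.card F + 1) := by
  classical
  have hex : ∀ p : {p : (Fin n → F) × (Fin n → F) //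
      ∀ x, bq a b c (p.1 ⬝ᵥ x) (p.2 ⬝ᵥ x) = bq a b c (l ⬝ᵥ x) (m ⬝ᵥ x)},
      ∃ g : {g : (F × F) × (F × F) // ∀ S T : F,
        bq a b c (g.1.1 * S + g.1.2 * T) (g.2.1 * S + g.2.2 * T) = bq a b c S T},
        p.1.1 = g.1.1.1 • l + g.1.1.2 • m ∧ p.1.2 = g.1.2.1 • l + g.1.2.2 • m := by
    intro p
    obtain ⟨p', r, s, t, h1, h2', h3⟩ := ell_span a b c haniso l m p.1.1 p.1.2 h p.2
    exact ⟨⟨((p', r), (s, t)), h3⟩, h1, h2'⟩
  choose f hf using hex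
  have hinj : Function.Injective f := by
    intro p p' hpp
    apply Subtype.ext
    apply Prod.ext
    · rw [(hf p).1, (hf p').1, hpp]
    · rw [(hf p).2, (hf p').2, hpp]
  exact (Nat.card_le_card_of_injective f hinj).trans (card_iso_le h2 a b c hb haniso)

/-- CASEE (L): from PAIRTR + ESTAB + ECOUNT -/
theorem case_e {F : Type*} [Field F] [Fintype F] {n : ℕ} (h2 : (2 : F) = 0)
    (S : Set ((Fin n → F) → F))
    (hstab : ∀ Q ∈ S, ∀ B : Matrix (Fin n) (Fin n) F, B.det ≠ 0 → (fun x => Q (B *ᵥ x)) ∈ S)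
    (a b c : F) (hb : b ≠ 0) (haniso : ∀ s t : F, bq a b c s t = 0 → s = 0 ∧ t = 0)
    (l m : Fin n → F) (h : Indep l m) (hmem : (fun x => bq a b c (l ⬝ᵥ x) (m ⬝ᵥ x)) ∈ S) :
    (Fintype.card F ^ n - 1) * (Fintype.card F ^ n - Fintype.card F) /
      (2 * (Fintype.card F + 1)) ≤ Nat.card S :=
  h57_case_e_core S hstab a b c l m hmem
    (fun u' v' h' => pair_trans l m u' v' h h')
    (fun l₀ m₀ h₀ => h57_card_fibre_le h2 a b c hb haniso l₀ m₀ h₀)
    h57_card_indep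

end Cfsg.Agent.Lib.helper49.SPE
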