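import Mathlib
import Cfsg.Prelude.Def_Characters
import Cfsg.Prelude.Def_Blocks
import Cfsg.Agent.Lib.helper84.BrDefs
import Cfsg.Agent.Lib.helper81.WBO2
import Cfsg.Agent.Lib.helper66.BrSING
import Cfsg.Agent.Lib.helper6.BrDecomp

/-!
# S0997 piece T4 (`eta_deg`): the degree of `η = Σ_{χ ∈ X ∩ B'} δ_χ χ` for a `q`-block `B'`
missing `Y`
-/

set_option autoImplicit false

namespace Cfsg.Agent.Lib.helper57.BU

open Cfsg Cfsg.Agent.Lib.helper81 Cfsg.Agent.Lib.helper84.Br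
open scoped ComplexConjugate

universe u

variable {G : Type u} [Group G] [Fintype G]

variable {p : ℕ} [Fact p.Prime] {P : Sylow p G} {e : ℕ}

/-- T4 : if `B'` misses `Y`, then `η = Σ_{χ ∈ X ∩ B'} δ_χ χ` vanishes on the `q`-singular elements
and `⟨η, θ⟩ = 0` gives `η(1) g₀ = ε e |Syl_p| |X ∩ B'|`. -/
theorem eta_deg (hP : Nat.card P = p)
    (hC : Subgroup.centralizer ((P : Subgroup G) : Set G) = (P : Subgroup G))
    (D : Data G p P e) (q g₀ : ℕ)
    (θ : IrrCharacter G) (hθ : θ ∈ D.Y) (hθd : charDegree (θ : G → ℂ) = g₀)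
    (hpsum : psum (P : Subgroup G) (θ : G → ℂ) = -(D.ε : ℂ) * (e : ℂ))
    (hvan : ∀ g : G, g ≠ 1 → ¬ p ∣ orderOf g → ¬ q ∣ orderOf g → (θ : G → ℂ) g = 0)
    (B' : Set (IrrCharacter G)) [DecidablePred (· ∈ B')]
    (hYB : ∀ θ' ∈ D.Y, θ' ∉ B')
    (hrel : ∀ x : G, x ∈ (P : Subgroup G) → x ≠ 1 → ∀ y : G, q ∣ orderOf y →
      ∑ χ ∈ D.X.filter (· ∈ B'), (D.δ χ : ℂ) * conj ((χ : G → ℂ) y) +
        ∑ θ ∈ D.Y.filter (· ∈ B'), (θ : G → ℂ) x * conj ((θ : G → ℂ) y) = 0) :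
    (∑ χ ∈ D.X.filter (· ∈ B'), D.δ χ * (charDegree (χ : G → ℂ) : ℤ)) * (g₀ : ℤ) =
      D.ε * (e : ℤ) * (Nat.card (Sylow p G) : ℤ) * ((D.X.filter (· ∈ B')).card : ℤ) := by
  classical
  have hp : p.Prime := Fact.out
  obtain ⟨S, hS⟩ : ∃ S : Finset (IrrCharacter G), S = D.X.filter (· ∈ B') := ⟨_, rfl⟩
  rw [← hS]
  rw [← hS] at hrel
  have hSX : ∀ χ ∈ S, χ ∈ D.X := by
    intro χ hχ
    rw [hS] at hχ
    exact (Finset.mem_filter.mp hχ).1
  have hYe : D.Y.filter (· ∈ B') = ∅ := by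
    rw [Finset.filter_eq_empty_iff]
    exact hYB
  obtain ⟨x₀, hx₀, hx₀1⟩ := Cfsg.Agent.Lib.helper6.Br.helper6_exists_ne_one (P := P) hP
  -- `η`
  obtain ⟨η, hη⟩ : ∃ η : G → ℂ, η = fun g => ∑ χ ∈ S, (D.δ χ : ℂ) * (χ : G → ℂ) g := ⟨_, rfl⟩
  have hηg : ∀ g, η g = ∑ χ ∈ S, (D.δ χ : ℂ) * (χ : G → ℂ) g := fun g => by rw [hη]
  -- `η` vanishes on `q`-singular elements
  have hη0 : ∀ y : G, q ∣ orderOf y → η y = 0 := by
    intro y hy
    have h1 := hrel x₀ hx₀ hx₀1 y hy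
    rw [hYe, Finset.sum_empty, add_zero] at h1
    have h2 := congrArg conj h1
    rw [map_sum, map_zero] at h2
    rw [hηg, ← h2]
    refine Finset.sum_congr rfl (fun χ _ => ?_)
    rw [map_mul, Complex.conj_conj, map_intCast]
  -- `η` on `P ∖ 1`
  have hηP : ∀ x : G, x ∈ (P : Subgroup G) → x ≠ 1 → η x = (S.card : ℂ) := by
    intro x hx hx1
    rw [hηg]
    have h1 : ∀ χ ∈ S, (D.δ χ : ℂ) * (χ : G → ℂ) x = 1 := by
      intro χ hχ
      rw [D.val_X χ (hSX χ hχ) x hx hx1]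
      rcases D.δ_sq χ (hSX χ hχ) with h | h <;> rw [h] <;> norm_num
    rw [Finset.sum_congr rfl h1, Finset.sum_const, nsmul_eq_mul, mul_one]
  -- `F = η conj θ`
  obtain ⟨F, hF⟩ : ∃ F : G → ℂ, F = fun g => η g * conj ((θ : G → ℂ) g) := ⟨_, rfl⟩
  have hFg : ∀ g, F g = η g * conj ((θ : G → ℂ) g) := fun g => by rw [hF]
  have hFcl : IsClassFunction G F := by
    intro g h
    rw [hFg, hFg, hηg, hηg, irr_classFun θ g h]
    congr 1
    refine Finset.sum_congr rfl (fun χ _ => ?_)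
    rw [irr_classFun χ g h]
  -- orthogonality
  have horth : ∑ g : G, F g = 0 := by
    have h1 : ∑ g : G, F g =
        ∑ χ ∈ S, (D.δ χ : ℂ) * ∑ g : G, (χ : G → ℂ) g * conj ((θ : G → ℂ) g) := by
      simp only [hFg, hηg, Finset.sum_mul, Finset.mul_sum]
      rw [Finset.sum_comm]
      refine Finset.sum_congr rfl (fun χ _ => Finset.sum_congr rfl (fun g _ => ?_))
      ring
    rw [h1]
    refine Finset.sum_eq_zero (fun χ hχ => ?_)
    have hne : χ ≠ θ := by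
      intro h
      rw [h] at hχ
      exact (Finset.disjoint_left.mp D.disj) (hSX θ hχ) hθ
    rw [irr_sum_mul_conj χ θ, if_neg hne, mul_zero]
  -- splitting the sum
  have hsplit : ∀ g : G, F g = (if g = 1 then F 1 else 0) + (if p ∣ orderOf g then F g else 0) := by
    intro g
    by_cases hg1 : g = 1
    · rw [if_pos hg1, hg1, if_neg, add_zero]
      rw [orderOf_one]
      exact fun h => hp.one_lt.ne' (Nat.dvd_one.mp h)
    · rw [if_neg hg1, zero_add]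
      by_cases hgp : p ∣ orderOf g
      · rw [if_pos hgp]
      · rw [if_neg hgp, hFg]
        by_cases hgq : q ∣ orderOf g
        · rw [hη0 g hgq, zero_mul]
        · rw [hvan g hg1 hgp hgq, map_zero, mul_zero]
  have hsum : ∑ g : G, F g = F 1 + (Nat.card (Sylow p G) : ℂ) * psum (P : Subgroup G) F := by
    rw [← Cfsg.Agent.Lib.helper66.Br.psing_sum hP hC F hFcl, Finset.sum_congr rfl (fun g _ => hsplit g),
      Finset.sum_add_distrib, Finset.sum_ite_eq' Finset.univ (1 : G) (fun _ => F 1),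
      if_pos (Finset.mem_univ _)]
  -- the `psum`
  have hps : psum (P : Subgroup G) F = (S.card : ℂ) * (-(D.ε : ℂ) * (e : ℂ)) := by
    rw [Cfsg.Agent.Lib.helper6.Br.helper6_psum_eq]
    have h1 : ∀ g ∈ Cfsg.Agent.Lib.helper6.Br.helper6_T (P : Subgroup G),
        F g = (S.card : ℂ) * conj ((θ : G → ℂ) g) := by
      intro g hg
      simp only [Cfsg.Agent.Lib.helper6.Br.helper6_T, Finset.mem_filter, Finset.mem_univ,
        true_and] at hg
      rw [hFg, hηP g hg.1 hg.2]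
    rw [Finset.sum_congr rfl h1, ← Finset.mul_sum, ← map_sum,
      ← Cfsg.Agent.Lib.helper6.Br.helper6_psum_eq, hpsum]
    congr 1
    rw [map_mul, map_neg, map_intCast, map_natCast]
  -- `F 1`
  have hF1 : F 1 = ((∑ χ ∈ S, D.δ χ * (charDegree (χ : G → ℂ) : ℤ) : ℤ) : ℂ) * (g₀ : ℂ) := by
    rw [hFg, hηg, irr_one_eq_charDegree θ, hθd, map_natCast]
    congr 1
    push_cast
    refine Finset.sum_congr rfl (fun χ _ => ?_)
    rw [irr_one_eq_charDegree]
  rw [horth, hps, hF1] at hsum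
  have hfin : (((∑ χ ∈ S, D.δ χ * (charDegree (χ : G → ℂ) : ℤ)) * (g₀ : ℤ) : ℤ) : ℂ) =
      ((D.ε * (e : ℤ) * (Nat.card (Sylow p G) : ℤ) * (S.card : ℤ) : ℤ) : ℂ) := by
    push_cast
    push_cast at hsum
    linear_combination -hsum
  exact_mod_cast hfin

end Cfsg.Agent.Lib.helper57.BU
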