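import Mathlib
import Cfsg.Prelude.Def_DStar

set_option autoImplicit false

namespace Cfsg.Agent.Lib.helper57

open Subgroup
open scoped commutatorElement

variable {S : Type*} [Group S]

/-- An element of the centralizer of a subgroup is fixed by conjugation by its elements. -/
theorem conj_eq_of_mem_centralizer {K : Subgroup S} {c k : S}
    (hc : c ∈ centralizer (K : Set S)) (hk : k ∈ K) : k * c * k⁻¹ = c := by
  have := (mem_centralizer_iff.1 hc) k hk
  rw [this, mul_inv_cancel_right]

theorem conj_inv_eq_of_mem_centralizer {K : Subgroup S} {c k : S}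
    (hc : c ∈ centralizer (K : Set S)) (hk : k ∈ K) : k⁻¹ * c * k = c := by
  have := conj_eq_of_mem_centralizer hc (inv_mem hk)
  rwa [inv_inv] at this

/-- If all commutators of generators commute with all generators, the group generated has
nilpotency class at most two. -/
theorem class_two_of_generators (X : Set S)
    (h : ∀ u ∈ X, ∀ v ∈ X, ∀ w ∈ X, Commute ⁅u, v⁆ w) :
    ⁅⁅closure X, closure X⁆, closure X⁆ = ⊥ := by
  rw [commutator_eq_bot_iff_le_centralizer, commutator_le]
  have h1 : ∀ u ∈ X, ∀ v ∈ X, ⁅u, v⁆ ∈ centralizer (closure X : Set S) := by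
    intro u hu v hv
    have hc : closure X ≤ centralizer ({⁅u, v⁆} : Set S) := by
      rw [closure_le]
      intro w hw
      rw [SetLike.mem_coe, mem_centralizer_iff]
      intro y hy
      rw [Set.mem_singleton_iff] at hy
      subst hy
      exact (h u hu v hv w hw).eq
    rw [mem_centralizer_iff]
    intro k hk
    have := (mem_centralizer_iff.1 (hc hk)) ⁅u, v⁆ (Set.mem_singleton _)
    exact this.symm
  have h2 : ∀ g ∈ closure X, ∀ y ∈ X, ⁅g, y⁆ ∈ centralizer (closure X : Set S) := by
    intro g hg y hy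
    induction hg using closure_induction with
    | mem x hx => exact h1 x hx y hy
    | one => rw [commutatorElement_one_left]; exact one_mem _
    | mul a b ha hb iha ihb =>
      rw [commutatorElement_mul_left_eq_conj_mul, conj_eq_of_mem_centralizer ihb ha]
      exact mul_mem ihb iha
    | inv a ha iha =>
      rw [commutatorElement_inv_left, ← commutatorElement_inv (g₁ := a) (g₂ := y)]
      rw [conj_inv_eq_of_mem_centralizer (inv_mem iha) ha]
      exact inv_mem iha
  intro g hg k hk
  induction hk using closure_induction with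
  | mem x hx => exact h2 g hg x hx
  | one => rw [commutatorElement_one_right]; exact one_mem _
  | mul a b ha hb iha ihb =>
    rw [commutatorElement_mul_right_eq_mul_conj, mul_assoc, mul_assoc, ← mul_assoc a,
      conj_eq_of_mem_centralizer ihb ha]
    exact mul_mem iha ihb
  | inv a ha iha =>
    rw [commutatorElement_inv_right, ← commutatorElement_inv (g₁ := g) (g₂ := a),
      conj_inv_eq_of_mem_centralizer (inv_mem iha) ha]
    exact inv_mem iha

theorem sup_zpowers_eq_closure (A : Subgroup S) (x : S) :
    A ⊔ zpowers x = closure ((A : Set S) ∪ {x}) := by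
  rw [Subgroup.closure_union, closure_eq, zpowers_eq_closure]

/-- The defining property of the family behind `D*`, in a convenient elementwise form:
if `x` commutes with all the commutators `⁅a, x⁆`, and these commute with `A`,
then `x` centralizes `A`. -/
theorem family_centralizes {A : Subgroup S} (hA : A ∈ Cfsg.dStarFamily S) (x : S)
    (h1 : ∀ a ∈ A, ∀ a' ∈ A, Commute ⁅a, x⁆ a')
    (h2 : ∀ a ∈ A, Commute ⁅a, x⁆ x) : ∀ a ∈ A, a * x = x * a := by
  obtain ⟨hcomm, hfam⟩ := hA
  apply hfam x
  rw [sup_zpowers_eq_closure]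
  apply class_two_of_generators
  have hAA : ∀ a ∈ A, ∀ a' ∈ A, ⁅a, a'⁆ = 1 := by
    intro a ha a' ha'
    rw [commutatorElement_eq_one_iff_mul_comm]
    exact setLike_mul_comm ha ha'
  have hinv : ∀ a : S, ⁅x, a⁆ = ⁅a, x⁆⁻¹ := fun a => (commutatorElement_inv a x).symm
  rintro u (hu | hu) v (hv | hv) w (hw | hw)
  · rw [hAA u hu v hv]; exact Commute.one_left w
  · rw [hAA u hu v hv]; exact Commute.one_left w
  · rw [Set.mem_singleton_iff] at hv; subst hv
    exact h1 u hu w hw
  · rw [Set.mem_singleton_iff] at hv hw; subst hv; subst hw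
    exact h2 u hu
  · rw [Set.mem_singleton_iff] at hu; subst hu
    rw [hinv]
    exact (h1 v hv w hw).inv_left
  · rw [Set.mem_singleton_iff] at hu hw; subst hu; subst hw
    rw [hinv]
    exact (h2 v hv).inv_left
  · rw [Set.mem_singleton_iff] at hu hv; subst hu; subst hv
    rw [commutatorElement_self]; exact Commute.one_left w
  · rw [Set.mem_singleton_iff] at hu hv; subst hu; subst hv
    rw [commutatorElement_self]; exact Commute.one_left w

/-- Key lemma: a member `A` of the family behind `D*` centralizes every abelian subgroup `B`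
that it normalizes (in a nilpotent group). -/
theorem le_centralizer_of_le_normalizer [Group.IsNilpotent S] {A : Subgroup S}
    (hA : A ∈ Cfsg.dStarFamily S) (B : Subgroup S) [hB : IsMulCommutative B]
    (hAB : A ≤ normalizer (B : Set S)) : B ≤ centralizer (A : Set S) := by
  by_contra hcon
  obtain ⟨n₀, hn₀⟩ := (Group.IsNilpotent.nilpotent' : ∃ n : ℕ, Subgroup.upperCentralSeries S n = ⊤)
  have hex : ∃ n, ¬ (B ⊓ Subgroup.upperCentralSeries S n ≤ centralizer (A : Set S)) :=
    ⟨n₀, by rw [hn₀, inf_top_eq]; exact hcon⟩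
  classical
  set m := Nat.find hex with hm
  have hPm : ¬ (B ⊓ Subgroup.upperCentralSeries S m ≤ centralizer (A : Set S)) := Nat.find_spec hex
  have hm0 : m ≠ 0 := by
    intro h0
    rw [h0, Subgroup.upperCentralSeries_zero, inf_bot_eq] at hPm
    exact hPm bot_le
  obtain ⟨i, hi⟩ := Nat.exists_eq_succ_of_ne_zero hm0
  have hPi : B ⊓ Subgroup.upperCentralSeries S i ≤ centralizer (A : Set S) := by
    by_contra hc
    have : m ≤ i := Nat.find_min' hex hc
    omega
  rw [hi] at hPm
  obtain ⟨x, hx, hxA⟩ := SetLike.not_le_iff_exists.1 hPm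
  obtain ⟨hxB, hxZ⟩ := Subgroup.mem_inf.1 hx
  apply hxA
  -- the commutators ⁅x, a⁆ lie in B ⊓ Z_i
  have hcomm_mem : ∀ a ∈ A, ⁅x, a⁆ ∈ B ⊓ Subgroup.upperCentralSeries S i := by
    intro a ha
    refine Subgroup.mem_inf.2 ⟨?_, (Subgroup.mem_upperCentralSeries_succ_iff.1 hxZ) a⟩
    have h1 : a * x⁻¹ * a⁻¹ ∈ B := ((mem_normalizer_iff.1 (hAB ha)) x⁻¹).1 (inv_mem hxB)
    have : ⁅x, a⁆ = x * (a * x⁻¹ * a⁻¹) := by
      rw [commutatorElement_def]; group
    rw [this]
    exact mul_mem hxB h1
  have hcent : ∀ a ∈ A, ⁅x, a⁆ ∈ centralizer (A : Set S) := fun a ha => hPi (hcomm_mem a ha)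
  have hinv : ∀ a : S, ⁅a, x⁆ = ⁅x, a⁆⁻¹ := fun a => (commutatorElement_inv x a).symm
  have key := family_centralizes hA x
    (by
      intro a ha a' ha'
      rw [hinv]
      have := (mem_centralizer_iff.1 (hcent a ha)) a' ha'
      exact (Commute.inv_left (show Commute ⁅x, a⁆ a' from this.symm)))
    (by
      intro a ha
      rw [hinv]
      have h1 : ⁅x, a⁆ ∈ B := (hcomm_mem a ha).1
      exact (Commute.inv_left (show Commute ⁅x, a⁆ x from setLike_mul_comm h1 hxB)))
  rw [mem_centralizer_iff]
  intro a ha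
  exact key a ha

/-- In a nilpotent group, a maximal normal abelian subgroup contains its centralizer. -/
theorem centralizer_le_of_maximal_normal_abelian [Group.IsNilpotent S] (M : Subgroup S)
    [hMn : M.Normal] [hMc : IsMulCommutative M]
    (hmax : ∀ N : Subgroup S, N.Normal → IsMulCommutative N → M ≤ N → N = M) :
    centralizer (M : Set S) ≤ M := by
  by_contra hcon
  obtain ⟨n₀, hn₀⟩ := (Group.IsNilpotent.nilpotent' : ∃ n : ℕ, Subgroup.upperCentralSeries S n = ⊤)
  have hex : ∃ n, ¬ (centralizer (M : Set S) ⊓ Subgroup.upperCentralSeries S n ≤ M) :=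
    ⟨n₀, by rw [hn₀, inf_top_eq]; exact hcon⟩
  classical
  set m := Nat.find hex with hm
  have hPm : ¬ (centralizer (M : Set S) ⊓ Subgroup.upperCentralSeries S m ≤ M) := Nat.find_spec hex
  have hm0 : m ≠ 0 := by
    intro h0
    rw [h0, Subgroup.upperCentralSeries_zero, inf_bot_eq] at hPm
    exact hPm bot_le
  obtain ⟨i, hi⟩ := Nat.exists_eq_succ_of_ne_zero hm0
  have hPi : centralizer (M : Set S) ⊓ Subgroup.upperCentralSeries S i ≤ M := by
    by_contra hc
    have : m ≤ i := Nat.find_min' hex hc
    omega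
  rw [hi] at hPm
  obtain ⟨x, hx, hxM⟩ := SetLike.not_le_iff_exists.1 hPm
  obtain ⟨hxC, hxZ⟩ := Subgroup.mem_inf.1 hx
  apply hxM
  -- conjugates of x stay in the centralizer of M
  have hconjC : ∀ g : S, g * x * g⁻¹ ∈ centralizer (M : Set S) := by
    intro g
    rw [mem_centralizer_iff]
    intro y hy
    have hy' : g⁻¹ * y * g ∈ M := by
      have := hMn.conj_mem y hy g⁻¹
      rwa [inv_inv] at this
    have h1 := (mem_centralizer_iff.1 hxC) _ hy'
    calc y * (g * x * g⁻¹) = g * ((g⁻¹ * y * g) * x) * g⁻¹ := by group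
      _ = g * (x * (g⁻¹ * y * g)) * g⁻¹ := by rw [h1]
      _ = g * x * g⁻¹ * y := by group
  -- ⁅g, x⁆ ∈ M
  have hgx : ∀ g : S, ⁅g, x⁆ ∈ M := by
    intro g
    apply hPi
    refine Subgroup.mem_inf.2 ⟨?_, ?_⟩
    · have : ⁅g, x⁆ = (g * x * g⁻¹) * x⁻¹ := by rw [commutatorElement_def]
      rw [this]
      exact mul_mem (hconjC g) (inv_mem hxC)
    · rw [← commutatorElement_inv]
      exact inv_mem ((Subgroup.mem_upperCentralSeries_succ_iff.1 hxZ) g)
  set N : Subgroup S := closure ((M : Set S) ∪ {x}) with hN
  have hMN : M ≤ N := by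
    intro y hy
    exact subset_closure (Or.inl hy)
  have hxN : x ∈ N := subset_closure (Or.inr rfl)
  have hNc : IsMulCommutative N := by
    apply isMulCommutative_closure
    rintro u (hu | hu) v (hv | hv)
    · exact setLike_mul_comm hu hv
    · rw [Set.mem_singleton_iff] at hv; subst hv
      exact (mem_centralizer_iff.1 hxC) u hu
    · rw [Set.mem_singleton_iff] at hu; subst hu
      exact ((mem_centralizer_iff.1 hxC) v hv).symm
    · rw [Set.mem_singleton_iff] at hu hv; subst hu; subst hv; rfl
  have hNn : N.Normal := by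
    constructor
    intro n hn g
    induction hn using closure_induction with
    | mem y hy =>
      rcases hy with hy | hy
      · exact hMN (hMn.conj_mem y hy g)
      · rw [Set.mem_singleton_iff] at hy; subst hy
        have : g * y * g⁻¹ = ⁅g, y⁆ * y := by rw [commutatorElement_def]; group
        rw [this]
        exact mul_mem (hMN (hgx g)) hxN
    | one => simp
    | mul a b ha hb iha ihb =>
      have : g * (a * b) * g⁻¹ = (g * a * g⁻¹) * (g * b * g⁻¹) := by group
      rw [this]
      exact mul_mem iha ihb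
    | inv a ha iha =>
      have : g * a⁻¹ * g⁻¹ = (g * a * g⁻¹)⁻¹ := by group
      rw [this]
      exact inv_mem iha
  have := hmax N hNn hNc hMN
  rw [← this]
  exact hxN

/-- A member of the family behind `D*` lies in every maximal normal abelian subgroup. -/
theorem le_of_maximal_normal_abelian [Group.IsNilpotent S] {A : Subgroup S}
    (hA : A ∈ Cfsg.dStarFamily S) (M : Subgroup S)
    (hMn : M.Normal) (hMc : IsMulCommutative M)
    (hmax : ∀ N : Subgroup S, N.Normal → IsMulCommutative N → M ≤ N → N = M) :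
    A ≤ M := by
  have h1 : M ≤ centralizer (A : Set S) :=
    le_centralizer_of_le_normalizer hA M (fun a _ => by
      rw [Subgroup.normalizer_eq_top M]; exact mem_top a)
  have h2 : A ≤ centralizer (M : Set S) := le_centralizer_iff.1 h1
  exact h2.trans (centralizer_le_of_maximal_normal_abelian M hmax)

/-- `D*(S)` lies in every maximal normal abelian subgroup. -/
theorem dStar_le_of_maximal_normal_abelian [Group.IsNilpotent S] (M : Subgroup S)
    (hMn : M.Normal) (hMc : IsMulCommutative M)
    (hmax : ∀ N : Subgroup S, N.Normal → IsMulCommutative N → M ≤ N → N = M) :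
    Cfsg.dStar S ≤ M :=
  sSup_le fun _ hA => le_of_maximal_normal_abelian hA M hMn hMc hmax

/-- A finite group has a maximal normal abelian subgroup. -/
theorem exists_maximal_normal_abelian [Finite S] :
    ∃ M : Subgroup S, M.Normal ∧ IsMulCommutative M ∧
      ∀ N : Subgroup S, N.Normal → IsMulCommutative N → M ≤ N → N = M := by
  have hfin : ({N : Subgroup S | N.Normal ∧ IsMulCommutative N}).Finite := Set.toFinite _
  have hne : ({N : Subgroup S | N.Normal ∧ IsMulCommutative N}).Nonempty :=
    ⟨⊥, inferInstance, inferInstance⟩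
  obtain ⟨M, hM, hmax⟩ := Set.exists_max_image _ (fun N : Subgroup S => Nat.card N) hfin hne
  refine ⟨M, hM.1, hM.2, ?_⟩
  intro N hNn hNc hMN
  exact (eq_of_le_of_card_ge hMN (hmax N ⟨hNn, hNc⟩)).symm

/-- `D*(S)` is itself a member of the family that generates it (for nilpotent finite `S`). -/
theorem dStar_mem_dStarFamily [Finite S] [Group.IsNilpotent S] :
    Cfsg.dStar S ∈ Cfsg.dStarFamily S := by
  obtain ⟨M, hMn, hMc, hmax⟩ := exists_maximal_normal_abelian (S := S)
  have hle : Cfsg.dStar S ≤ M := dStar_le_of_maximal_normal_abelian M hMn hMc hmax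
  refine ⟨?_, ?_⟩
  · exact ⟨⟨fun a b => Subtype.ext (setLike_mul_comm (hle a.2) (hle b.2))⟩⟩
  · intro x hx
    have hall : ∀ A ∈ Cfsg.dStarFamily S, A ≤ centralizer ({x} : Set S) := by
      intro A hA a ha
      have hmono : A ⊔ zpowers x ≤ Cfsg.dStar S ⊔ zpowers x := sup_le_sup_right (le_sSup hA) _
      have hbot : ⁅⁅A ⊔ zpowers x, A ⊔ zpowers x⁆, A ⊔ zpowers x⁆ = ⊥ := by
        rw [eq_bot_iff, ← hx]
        exact commutator_mono (commutator_mono hmono hmono) hmono
      rw [mem_centralizer_iff]
      intro y hy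
      rw [Set.mem_singleton_iff] at hy
      subst hy
      exact (hA.2 y hbot a ha).symm
    intro a ha
    have : a ∈ centralizer ({x} : Set S) := (sSup_le hall) ha
    exact ((mem_centralizer_iff.1 this) x rfl).symm

end Cfsg.Agent.Lib.helper57
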