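import Mathlib
import Cfsg.Prelude.Def_DStar
import Cfsg.Agent.Lib.helper57.DStar

set_option autoImplicit false

namespace Cfsg.Agent.Lib.helper57

open Subgroup
open scoped commutatorElement

variable {G : Type*} [Group G]

/-- The family behind `D*(P)` for a subgroup `P` of `G`, expressed inside the ambient group. -/
def famOf (P : Subgroup G) : Set (Subgroup G) :=
  {A | A ≤ P ∧ IsMulCommutative A ∧ ∀ x ∈ P,
    ⁅⁅A ⊔ zpowers x, A ⊔ zpowers x⁆, A ⊔ zpowers x⁆ = ⊥ → ∀ a ∈ A, a * x = x * a}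

theorem map_subtype_mem_famOf {P : Subgroup G} {B : Subgroup P}
    (hB : B ∈ Cfsg.dStarFamily P) : B.map P.subtype ∈ famOf P := by
  obtain ⟨hcomm, hfam⟩ := hB
  refine ⟨map_subtype_le B, ?_, ?_⟩
  · have := hcomm
    exact Subgroup.map_isMulCommutative _ _
  · intro x hx hcl a ha
    obtain ⟨a', ha', rfl⟩ := ha
    have hmap : (B ⊔ zpowers (⟨x, hx⟩ : P)).map P.subtype = B.map P.subtype ⊔ zpowers x := by
      rw [Subgroup.map_sup, MonoidHom.map_zpowers]
      rfl
    have hbot : ⁅⁅B ⊔ zpowers (⟨x, hx⟩ : P), B ⊔ zpowers (⟨x, hx⟩ : P)⁆,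
        B ⊔ zpowers (⟨x, hx⟩ : P)⁆ = ⊥ := by
      rw [← (Subgroup.map_eq_bot_iff_of_injective _ P.subtype_injective), Subgroup.map_commutator,
        Subgroup.map_commutator, hmap]
      exact hcl
    have := hfam ⟨x, hx⟩ hbot a' ha'
    exact congrArg Subtype.val this

theorem subgroupOf_mem_dStarFamily {P A : Subgroup G} (hA : A ∈ famOf P) :
    A.subgroupOf P ∈ Cfsg.dStarFamily P := by
  obtain ⟨hle, hcomm, hfam⟩ := hA
  have hmapA : (A.subgroupOf P).map P.subtype = A := by
    rw [Subgroup.subgroupOf_map_subtype, inf_of_le_left hle]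
  refine ⟨?_, ?_⟩
  · have := hcomm
    exact Subgroup.subgroupOf_isMulCommutative _ _
  · intro x hcl a ha
    have hmap : (A.subgroupOf P ⊔ zpowers x).map P.subtype = A ⊔ zpowers (x : G) := by
      rw [Subgroup.map_sup, MonoidHom.map_zpowers, hmapA]
      rfl
    have hbot : ⁅⁅A ⊔ zpowers (x : G), A ⊔ zpowers (x : G)⁆, A ⊔ zpowers (x : G)⁆ = ⊥ := by
      rw [← hmap, ← Subgroup.map_commutator, ← Subgroup.map_commutator, hcl, Subgroup.map_bot]
    apply Subtype.ext
    exact hfam x x.2 hbot a (Subgroup.mem_subgroupOf.1 ha)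

/-- Members of the ambient family lie in `D*(P)`. -/
theorem le_dStarOf_of_mem_famOf {P A : Subgroup G} (hA : A ∈ famOf P) : A ≤ Cfsg.dStarOf P := by
  have hmapA : (A.subgroupOf P).map P.subtype = A := by
    rw [Subgroup.subgroupOf_map_subtype, inf_of_le_left hA.1]
  rw [← hmapA]
  exact Subgroup.map_mono (le_sSup (subgroupOf_mem_dStarFamily hA))

/-- `D*(P)` is itself a member of the ambient family, for a finite nilpotent subgroup `P`. -/
theorem dStarOf_mem_famOf (P : Subgroup G) [Finite P] [Group.IsNilpotent P] :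
    Cfsg.dStarOf P ∈ famOf P :=
  map_subtype_mem_famOf dStar_mem_dStarFamily

theorem dStarOf_le (P : Subgroup G) : Cfsg.dStarOf P ≤ P := map_subtype_le _

/-- Restriction to a smaller subgroup. -/
theorem famOf_restrict {P T A : Subgroup G} (hA : A ∈ famOf P) (hAT : A ≤ T) (hTP : T ≤ P) :
    A ∈ famOf T :=
  ⟨hAT, hA.2.1, fun x hx => hA.2.2 x (hTP hx)⟩

/-- Transport along an automorphism. -/
theorem famOf_map {P A : Subgroup G} (hA : A ∈ famOf P) (φ : G ≃* G) :
    A.map φ.toMonoidHom ∈ famOf (P.map φ.toMonoidHom) := by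
  obtain ⟨hle, hcomm, hfam⟩ := hA
  refine ⟨Subgroup.map_mono hle, ?_, ?_⟩
  · have := hcomm
    exact Subgroup.map_isMulCommutative _ _
  · rintro _ ⟨y, hy, rfl⟩ hcl _ ⟨a, ha, rfl⟩
    have hmap : (A ⊔ zpowers y).map φ.toMonoidHom =
        A.map φ.toMonoidHom ⊔ zpowers (φ.toMonoidHom y) := by
      rw [Subgroup.map_sup, MonoidHom.map_zpowers]
    have hbot : ⁅⁅A ⊔ zpowers y, A ⊔ zpowers y⁆, A ⊔ zpowers y⁆ = ⊥ := by
      rw [← (Subgroup.map_eq_bot_iff_of_injective _
        (show Function.Injective φ.toMonoidHom from φ.injective)), Subgroup.map_commutator,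
        Subgroup.map_commutator, hmap]
      exact hcl
    have := hfam y hy hbot a ha
    rw [← map_mul, ← map_mul, this]

/-- `D*` is compatible with automorphisms of the ambient group (one inclusion). -/
theorem map_dStarOf_le (P : Subgroup G) [Finite P] [Group.IsNilpotent P] (φ : G ≃* G) :
    (Cfsg.dStarOf P).map φ.toMonoidHom ≤ Cfsg.dStarOf (P.map φ.toMonoidHom) :=
  le_dStarOf_of_mem_famOf (famOf_map (dStarOf_mem_famOf P) φ)

/-- The normalizer of `P` normalizes `D*(P)`. -/
theorem normalizer_le_normalizer_dStarOf (P : Subgroup G) [Finite P] [Group.IsNilpotent P] :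
    normalizer (P : Set G) ≤ normalizer (Cfsg.dStarOf P : Set G) := by
  have key : ∀ g ∈ normalizer (P : Set G), ∀ d ∈ Cfsg.dStarOf P, g * d * g⁻¹ ∈ Cfsg.dStarOf P := by
    intro g hg d hd
    have hPg : P.map (MulAut.conj g).toMonoidHom = P := by
      ext y
      constructor
      · rintro ⟨z, hz, rfl⟩
        exact ((mem_normalizer_iff.1 hg) z).1 hz
      · intro hy
        refine ⟨g⁻¹ * y * g, ?_, ?_⟩
        · have := ((mem_normalizer_iff.1 (inv_mem hg)) y).1 hy
          rwa [inv_inv] at this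
        · simp [MulAut.conj_apply]
          group
    have h1 := map_dStarOf_le P (MulAut.conj g)
    have h2 : g * d * g⁻¹ ∈ (Cfsg.dStarOf P).map (MulAut.conj g).toMonoidHom :=
      ⟨d, hd, by simp [MulAut.conj_apply]⟩
    rw [hPg] at h1
    exact h1 h2
  intro g hg
  rw [mem_normalizer_iff]
  intro d
  constructor
  · exact key g hg d
  · intro h
    have := key g⁻¹ (inv_mem hg) _ h
    rw [inv_inv] at this
    have e : g⁻¹ * (g * d * g⁻¹) * g = d := by group
    rwa [e] at this

end Cfsg.Agent.Lib.helper57
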