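import Mathlib
import Cfsg.Prelude.Def_FusionSystem
import Cfsg.Prelude.Def_CaseTheorems
import Cfsg.Agent.Lib.helper89.FusionSat

/-!
# S5213 piece F3 (helper57): the Sylow trick in `Aut_F(R)` giving a 3-cycle on the central
involutions.
-/

set_option autoImplicit false

open Cfsg Cfsg.FusionSystem

namespace Cfsg.Agent.Lib.helper57.FS13

/-- Rank 2: an involution commuting with two distinct commuting involutions `a`, `b` is `a`, `b`
or `a * b`. -/
theorem f3_inv_mem_four {T : Type*} [Group T] [Finite T] (h2 : Cfsg.PRankLE 2 2 T) (a b t : T)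
    (ha : orderOf a = 2) (hb : orderOf b = 2) (ht : orderOf t = 2) (hab : a ≠ b)
    (hc : a * b = b * a) (hta : t * a = a * t) (htb : t * b = b * t) :
    t = a ∨ t = b ∨ t = a * b := by
  classical
  by_contra hcon
  push Not at hcon
  obtain ⟨hta', htb', htab'⟩ := hcon
  have ha2 : a * a = 1 := by rw [← pow_two, ← ha, pow_orderOf_eq_one]
  have hb2 : b * b = 1 := by rw [← pow_two, ← hb, pow_orderOf_eq_one]
  have ht2 : t * t = 1 := by rw [← pow_two, ← ht, pow_orderOf_eq_one]
  have ha1 : a ≠ 1 := by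
    rintro rfl
    rw [orderOf_one] at ha
    omega
  have hb1 : b ≠ 1 := by
    rintro rfl
    rw [orderOf_one] at hb
    omega
  have ht1 : t ≠ 1 := by
    rintro rfl
    rw [orderOf_one] at ht
    omega
  have hcomm : ∀ x ∈ ({a, b, t} : Set T), ∀ y ∈ ({a, b, t} : Set T), x * y = y * x := by
    intro x hx y hy
    simp only [Set.mem_insert_iff, Set.mem_singleton_iff] at hx hy
    rcases hx with hx | hx | hx <;> rcases hy with hy | hy | hy <;> rw [hx, hy]
    · exact hc
    · exact hta.symm
    · exact hc.symm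
    · exact htb.symm
    · exact hta
    · exact htb
  have instC : IsMulCommutative ↥(Subgroup.closure ({a, b, t} : Set T)) :=
    Subgroup.isMulCommutative_closure hcomm
  have hcl : ∀ x ∈ Subgroup.closure ({a, b, t} : Set T), ∀ y ∈ Subgroup.closure ({a, b, t} : Set T),
      x * y = y * x := by
    intro x hx y hy
    have h1 := instC.is_comm.comm ⟨x, hx⟩ ⟨y, hy⟩
    exact congrArg Subtype.val h1
  have hexp : ∀ x ∈ Subgroup.closure ({a, b, t} : Set T), x ^ 2 = 1 := by
    intro x hx
    induction hx using Subgroup.closure_induction with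
    | mem y hy =>
      simp only [Set.mem_insert_iff, Set.mem_singleton_iff] at hy
      rcases hy with hy | hy | hy <;> rw [hy, pow_two] <;> assumption
    | one => exact one_pow 2
    | mul x y hx hy ihx ihy =>
      have hxy : x * y = y * x := hcl x hx y hy
      rw [pow_two] at ihx ihy ⊢
      calc x * y * (x * y) = x * (y * x) * y := by group
        _ = x * (x * y) * y := by rw [hxy]
        _ = (x * x) * (y * y) := by group
        _ = 1 := by rw [ihx, ihy, one_mul]
    | inv x hx ih => rw [inv_pow, ih, inv_one]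
  have hcard := h2 (Subgroup.closure ({a, b, t} : Set T)) instC hexp
  have hsub : ((({1, a, b, a * b, t} : Finset T)) : Set T) ⊆
      (Subgroup.closure ({a, b, t} : Set T) : Set T) := by
    intro x hx
    simp only [Finset.coe_insert, Finset.coe_singleton, Set.mem_insert_iff,
      Set.mem_singleton_iff] at hx
    have hA : a ∈ Subgroup.closure ({a, b, t} : Set T) := Subgroup.subset_closure (by simp)
    have hB : b ∈ Subgroup.closure ({a, b, t} : Set T) := Subgroup.subset_closure (by simp)
    have hT : t ∈ Subgroup.closure ({a, b, t} : Set T) := Subgroup.subset_closure (by simp)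
    rcases hx with hx | hx | hx | hx | hx <;> rw [hx]
    · exact one_mem _
    · exact hA
    · exact hB
    · exact mul_mem hA hB
    · exact hT
  have h5 : ({1, a, b, a * b, t} : Finset T).card = 5 := by
    have n1 : a * b ∉ ({t} : Finset T) := by
      simp only [Finset.mem_singleton]
      exact fun h => htab' h.symm
    have n2 : b ∉ ({a * b, t} : Finset T) := by
      simp only [Finset.mem_insert, Finset.mem_singleton, not_or]
      refine ⟨fun h => ha1 ?_, fun h => htb' h.symm⟩
      have h3 : a * b * b = b * b := by rw [← h]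
      rw [mul_assoc, hb2, mul_one] at h3
      exact h3
    have n3 : a ∉ ({b, a * b, t} : Finset T) := by
      simp only [Finset.mem_insert, Finset.mem_singleton, not_or]
      refine ⟨hab, fun h => hb1 ?_, fun h => hta' h.symm⟩
      have h3 : a * (a * b) = a * a := by rw [← h]
      rw [← mul_assoc, ha2, one_mul] at h3
      exact h3
    have n4 : (1 : T) ∉ ({a, b, a * b, t} : Finset T) := by
      simp only [Finset.mem_insert, Finset.mem_singleton, not_or]
      refine ⟨fun h => ha1 h.symm, fun h => hb1 h.symm, fun h => hab ?_, fun h => ht1 h.symm⟩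
      have h3 : a * b * b = 1 * b := by rw [← h]
      rw [mul_assoc, hb2, mul_one, one_mul] at h3
      exact h3
    rw [Finset.card_insert_of_notMem n4, Finset.card_insert_of_notMem n3,
      Finset.card_insert_of_notMem n2, Finset.card_insert_of_notMem n1, Finset.card_singleton]
  have h6 := Set.ncard_le_ncard hsub (Set.toFinite _)
  rw [Set.ncard_coe_finset, h5] at h6
  have h7 : Nat.card ↥(Subgroup.closure ({a, b, t} : Set T)) =
      (Subgroup.closure ({a, b, t} : Set T) : Set T).ncard := rfl
  rw [h7] at hcard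
  omega

section fusion

variable {Ω : Type*} [Group Ω] {S : Subgroup Ω}

/-- A fixed point of an automorphism is fixed by its powers. -/
theorem f3_pow_fix {R : Type*} [Group R] (δ : MulAut R) (x : R) (h : δ x = x) (j : ℕ) :
    (δ ^ j) x = x := by
  induction j with
  | zero => rfl
  | succ j ih => rw [pow_succ, MulAut.mul_apply, h, ih]

/-- PIECE F3 (Sylow trick in `Aut_F(R)`). -/
theorem three_cycle_aut [Finite S] (hS : IsPGroup 2 S) (F : FusionSystem S)
    (h2 : Cfsg.PRankLE 2 2 ↥S) (z : Ω) (hzS : z ∈ S) (hz : orderOf z = 2)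
    (hzc : ∀ s ∈ S, s * z = z * s) (R : Subgroup Ω) (hzR : z ∈ R)
    (hfa : F.IsFullyAutomized 2 R) (α : MulAut R) (hα : α ∈ F.autGroup R)
    (hmove : ((α ⟨z, hzR⟩ : R) : Ω) ≠ z) :
    ∃ (u : Ω) (huR : u ∈ R) (γ : MulAut R), γ ∈ F.autGroup R ∧ orderOf u = 2 ∧ u ≠ z ∧
      ((γ ⟨z, hzR⟩ : R) : Ω) = u ∧ ((γ ⟨u, huR⟩ : R) : Ω) = z * u := by
  have hF2 : Fact (Nat.Prime 2) := ⟨Nat.prime_two⟩
  have hRS : R ≤ S := hfa.1
  have hfinA : Finite ↥(F.autGroup R) := Cfsg.Agent.Lib.helper89.finite_autGroup F hRS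
  obtain ⟨zR, hzRdef⟩ : ∃ w : R, w = ⟨z, hzR⟩ := ⟨_, rfl⟩
  have hzRv : (zR : Ω) = z := by rw [hzRdef]
  -- central involutions of `R`
  have hCIz : orderOf zR = 2 ∧ ∀ x : R, x * zR = zR * x := by
    refine ⟨?_, fun x => ?_⟩
    · rw [← Subgroup.orderOf_coe, hzRv]
      exact hz
    · apply Subtype.ext
      show (x : Ω) * (zR : Ω) = (zR : Ω) * (x : Ω)
      rw [hzRv]
      exact hzc x (hRS x.2)
  have hCIaut : ∀ (δ : MulAut R) (t : R), (orderOf t = 2 ∧ ∀ x : R, x * t = t * x) →
      (orderOf (δ t) = 2 ∧ ∀ x : R, x * δ t = δ t * x) := by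
    intro δ t ht
    refine ⟨?_, fun x => ?_⟩
    · rw [MulEquiv.orderOf_eq]
      exact ht.1
    · have h1 : x = δ (δ.symm x) := (δ.apply_symm_apply x).symm
      rw [h1, ← map_mul, ht.2, map_mul]
  obtain ⟨z', hz'def⟩ : ∃ w : R, w = α zR := ⟨_, rfl⟩
  have hCIz' : orderOf z' = 2 ∧ ∀ x : R, x * z' = z' * x := by
    rw [hz'def]
    exact hCIaut α zR hCIz
  have hne : z' ≠ zR := by
    intro h
    apply hmove
    rw [← hzRdef, ← hz'def, h, hzRv]
  have hzz : zR * zR = 1 := by rw [← pow_two, ← hCIz.1, pow_orderOf_eq_one]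
  have hz'z' : z' * z' = 1 := by rw [← pow_two, ← hCIz'.1, pow_orderOf_eq_one]
  have hz'1 : z' ≠ 1 := by
    intro h
    have := hCIz'.1
    rw [h, orderOf_one] at this
    omega
  -- the three central involutions
  have tri : ∀ t : R, (orderOf t = 2 ∧ ∀ x : R, x * t = t * x) →
      t = zR ∨ t = z' ∨ t = zR * z' := by
    intro t ht
    have h1 := f3_inv_mem_four h2 (⟨(zR : Ω), hRS zR.2⟩ : S) ⟨(z' : Ω), hRS z'.2⟩
      ⟨(t : Ω), hRS t.2⟩ ?_ ?_ ?_ ?_ ?_ ?_ ?_
    · rcases h1 with h | h | h
      · left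
        exact Subtype.ext (congrArg (fun s : S => (s : Ω)) h)
      · right; left
        exact Subtype.ext (congrArg (fun s : S => (s : Ω)) h)
      · right; right
        exact Subtype.ext (congrArg (fun s : S => (s : Ω)) h)
    · rw [← Subgroup.orderOf_coe]
      show orderOf (zR : Ω) = 2
      rw [Subgroup.orderOf_coe]
      exact hCIz.1
    · rw [← Subgroup.orderOf_coe]
      show orderOf (z' : Ω) = 2
      rw [Subgroup.orderOf_coe]
      exact hCIz'.1
    · rw [← Subgroup.orderOf_coe]
      show orderOf (t : Ω) = 2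
      rw [Subgroup.orderOf_coe]
      exact ht.1
    · intro h
      have h' : (zR : Ω) = (z' : Ω) := congrArg (fun s : S => (s : Ω)) h
      exact hne (Subtype.ext h'.symm)
    · apply Subtype.ext
      exact congrArg (fun r : R => (r : Ω)) (hCIz'.2 zR)
    · apply Subtype.ext
      exact congrArg (fun r : R => (r : Ω)) (hCIz.2 t)
    · apply Subtype.ext
      exact congrArg (fun r : R => (r : Ω)) (hCIz'.2 t)
  -- `Aut_S(R)` fixes `z`
  have hfix : ∀ δ ∈ autInducedBy S R, δ zR = zR := by
    intro δ hδ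
    induction hδ using Subgroup.closure_induction with
    | mem δ h =>
      obtain ⟨g, hg, hgx⟩ := h
      apply Subtype.ext
      rw [hgx zR, hzRv, hzc g hg, mul_inv_cancel_right]
    | one => rfl
    | mul a b _ _ iha ihb => rw [MulAut.mul_apply, ihb, iha]
    | inv a _ ih =>
      rw [MulAut.inv_apply, MulEquiv.symm_apply_eq, ih]
  have hαz : α zR = z' := hz'def.symm
  rcases tri (α z') (hCIaut α z' hCIz') with h | h | h
  · -- `α` swaps `z` and `z'`
    have hα2z : (α ^ 2) zR = zR := by rw [pow_two, MulAut.mul_apply, hαz, h]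
    have hα2z' : (α ^ 2) z' = z' := by rw [pow_two, MulAut.mul_apply, h, hαz]
    have hαzz' : α (zR * z') = zR * z' := by
      rw [map_mul, hαz, h]
      exact hCIz.2 z'
    obtain ⟨a, m, hm, hN⟩ := Nat.exists_eq_two_pow_mul_odd (n := Nat.card ↥(F.autGroup R))
      Nat.card_pos.ne'
    obtain ⟨j, hj⟩ := hm
    have hαm_z : (α ^ m) zR = z' := by
      rw [hj, pow_succ, MulAut.mul_apply, hαz, pow_mul]
      exact f3_pow_fix (α ^ 2) z' hα2z' j
    have hαm_z' : (α ^ m) z' = zR := by
      rw [hj, pow_succ, MulAut.mul_apply, h, pow_mul]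
      exact f3_pow_fix (α ^ 2) zR hα2z j
    have hαN : α ^ Nat.card ↥(F.autGroup R) = 1 := by
      have h1 : (⟨α, hα⟩ : ↥(F.autGroup R)) ^ Nat.card ↥(F.autGroup R) = 1 := pow_card_eq_one'
      exact congrArg Subtype.val h1
    have hα2pow : (α ^ m) ^ (2 ^ a) = 1 := by
      rw [← pow_mul, mul_comm, ← hN]
      exact hαN
    have hHA : Subgroup.zpowers (α ^ m) ≤ F.autGroup R := by
      rw [Subgroup.zpowers_le]
      exact pow_mem hα m
    have hH : IsPGroup 2 ↥(Subgroup.zpowers (α ^ m)) := by
      intro g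
      refine ⟨a, ?_⟩
      obtain ⟨k, hk⟩ := Subgroup.mem_zpowers_iff.mp g.2
      apply Subtype.ext
      rw [Subgroup.coe_pow, ← hk, Subgroup.coe_one, ← zpow_natCast, ← zpow_mul, mul_comm, zpow_mul,
        zpow_natCast, hα2pow, one_zpow]
    obtain ⟨β, hβ, hβH⟩ := Cfsg.Agent.Lib.helper89.exists_conj_into_autS F hfa
      (Subgroup.zpowers (α ^ m)) hHA hH
    have h3 := hfix _ (hβH (α ^ m) (Subgroup.mem_zpowers _))
    -- `w := β⁻¹ z` is fixed by `α ^ m`
    obtain ⟨w, hwdef⟩ : ∃ w : R, w = β⁻¹ zR := ⟨_, rfl⟩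
    have hβw : β w = zR := by
      rw [hwdef, MulAut.inv_apply, MulEquiv.apply_symm_apply]
    have hw_fix : (α ^ m) w = w := by
      rw [MulAut.mul_apply, MulAut.mul_apply, ← hwdef] at h3
      have h4 : β ((α ^ m) w) = β w := by rw [h3, hβw]
      exact β.injective h4
    have hCIw : orderOf w = 2 ∧ ∀ x : R, x * w = w * x := by
      rw [hwdef]
      exact hCIaut β⁻¹ zR hCIz
    have hw : w = zR * z' := by
      rcases tri w hCIw with h5 | h5 | h5
      · exfalso
        rw [h5, hαm_z] at hw_fix
        exact hne hw_fix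
      · exfalso
        rw [h5, hαm_z'] at hw_fix
        exact hne hw_fix.symm
      · exact h5
    have hβzz' : β (zR * z') = zR := by rw [← hw, hβw]
    rcases tri (β zR) (hCIaut β zR hCIz) with h6 | h6 | h6
    · exfalso
      have h7 : β (zR * z') = β zR := by rw [hβzz', h6]
      have h8 := β.injective h7
      apply hz'1
      have h9 : zR * z' = zR * 1 := by rw [mul_one]; exact h8
      exact mul_left_cancel h9
    · -- `β : z ↦ z' ↦ z z' ↦ z`
      have hβz' : β z' = zR * z' := by
        have h7 : β zR * β z' = zR := by rw [← map_mul, hβzz']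
        rw [h6] at h7
        have h8 : z' * (z' * β z') = z' * zR := by rw [h7]
        rw [← mul_assoc, hz'z', one_mul] at h8
        rw [h8]
        exact hCIz.2 z'
      refine ⟨(z' : Ω), z'.2, β, hβ, ?_, ?_, ?_, ?_⟩
      · rw [Subgroup.orderOf_coe]
        exact hCIz'.1
      · intro h7
        exact hne (Subtype.ext (h7.trans hzRv.symm))
      · rw [← hzRdef, h6]
      · show ((β z' : R) : Ω) = z * (z' : Ω)
        rw [hβz', ← hzRv]
        rfl
    · -- `β` swaps `z` and `z z'`: use `α * β`
      refine ⟨((zR * z' : R) : Ω), (zR * z').2, α * β, mul_mem hα hβ, ?_, ?_, ?_, ?_⟩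
      · rw [Subgroup.orderOf_coe, ← h6]
        exact (hCIaut β zR hCIz).1
      · intro h7
        apply hz'1
        have h8 : zR * z' = zR * 1 := by
          rw [mul_one]
          exact Subtype.ext (h7.trans hzRv.symm)
        exact mul_left_cancel h8
      · rw [← hzRdef, MulAut.mul_apply, h6, hαzz']
      · show (((α * β) (zR * z') : R) : Ω) = z * ((zR * z' : R) : Ω)
        rw [MulAut.mul_apply, hβzz', hαz, ← hzRv]
        show (z' : Ω) = (zR : Ω) * ((zR : Ω) * (z' : Ω))
        rw [← mul_assoc]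
        have h7 : (zR : Ω) * (zR : Ω) = 1 := congrArg Subtype.val hzz
        rw [h7, one_mul]
  · -- impossible: `α z' = z' = α z`
    exfalso
    have h1 : α z' = α zR := by rw [h, hαz]
    exact hne (α.injective h1)
  · -- `α : z ↦ z' ↦ z z'`
    refine ⟨(z' : Ω), z'.2, α, hα, ?_, ?_, ?_, ?_⟩
    · rw [Subgroup.orderOf_coe]
      exact hCIz'.1
    · intro h7
      exact hne (Subtype.ext (h7.trans hzRv.symm))
    · rw [← hzRdef, hαz]
    · show ((α z' : R) : Ω) = z * (z' : Ω)
      rw [h, ← hzRv]
      rfl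

end fusion

end Cfsg.Agent.Lib.helper57.FS13
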