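import Mathlib
import Cfsg.Prelude.Def_Local
import Cfsg.Agent.S4145
import Cfsg.Agent.Lib.helper38.HallHigman2
import Cfsg.Agent.Lib.helper29.PSolv
import Cfsg.Agent.Lib.helper80.PSolv
import Cfsg.Agent.Lib.helper27.Radical

/-!
# Reduction of Flavell's Theorem A (cyclic Sylow `p`-subgroups) to the simple case

`flA_reduction`: given the simple case `hmain`, a finite group with cyclic Sylow `p`-subgroups
is `p`-solvable iff any two elements of order `p` generate a `p`-solvable subgroup.
-/

universe u

open Cfsg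

namespace Cfsg.Agent.Lib.helper57

theorem flA_psolv_of_subsingleton (p : ℕ) (G : Type*) [Group G] [Subsingleton G] :
    IsPSolvable p G := by
  refine ⟨0, fun _ => ⊥, rfl, ?_, fun _ _ _ => le_rfl, fun _ => inferInstance, fun i => i.elim0⟩
  ext x
  simp [Subsingleton.elim x 1]

theorem flA_psolv_of_coprime (p : ℕ) (G : Type*) [Group G] (h : (Nat.card G).Coprime p) :
    IsPSolvable p G := by
  have : Subsingleton (G ⧸ (⊤ : Subgroup G)) := QuotientGroup.subsingleton_quotient_top
  refine Cfsg.Agent.Lib.helper29.isPSolvable_of_quotient p (⊤ : Subgroup G) (Or.inr ?_)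
    (flA_psolv_of_subsingleton p _)
  rwa [Subgroup.card_top]

theorem flA_lift {p : ℕ} [hp : Fact p.Prime] {G : Type*} [Group G] [Finite G] (L : Subgroup G)
    [L.Normal] (hL : (Nat.card L).Coprime p) (xb : G ⧸ L) (hx : orderOf xb = p) :
    ∃ x : G, orderOf x = p ∧ (x : G ⧸ L) = xb := by
  obtain ⟨g, rfl⟩ := QuotientGroup.mk_surjective xb
  obtain ⟨e, -, he⟩ := Nat.exists_mul_mod_eq_one_of_coprime hL hp.out.one_lt
  have hgp : g ^ p ∈ L := by
    rw [← QuotientGroup.eq_one_iff, QuotientGroup.mk_pow, ← hx, pow_orderOf_eq_one]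
  have h1 : (g ^ p) ^ Nat.card L = 1 := by
    have h := pow_card_eq_one' (G := L) (x := ⟨g ^ p, hgp⟩)
    have h2 : (((⟨g ^ p, hgp⟩ : L) ^ Nat.card L : L) : G) = ((1 : L) : G) :=
      congrArg Subtype.val h
    rwa [Subgroup.coe_pow, Subgroup.coe_one] at h2
  have hmk : ((g ^ (Nat.card L * e) : G) : G ⧸ L) = (g : G ⧸ L) := by
    rw [QuotientGroup.mk_pow, ← pow_mod_orderOf, hx, he, pow_one]
  refine ⟨g ^ (Nat.card L * e), ?_, hmk⟩
  apply orderOf_eq_prime
  · rw [← pow_mul, mul_comm (Nat.card L * e) p, ← mul_assoc, pow_mul, pow_mul, h1, one_pow]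
  · intro h
    have h3 : (g : G ⧸ L) = 1 := by rw [← hmk, h]; rfl
    rw [h3, orderOf_one] at hx
    exact hp.out.ne_one hx.symm

theorem flA_cyclic_quot {p : ℕ} [Fact p.Prime] {G : Type*} [Group G] [Finite G] (P : Sylow p G)
    (hP : IsCyclic ↥(P : Subgroup G)) (L : Subgroup G) [L.Normal] :
    ∃ P' : Sylow p (G ⧸ L), IsCyclic ↥(P' : Subgroup (G ⧸ L)) := by
  refine ⟨P.mapSurjective (QuotientGroup.mk'_surjective L), ?_⟩
  rw [Sylow.coe_mapSurjective]
  exact isCyclic_of_surjective ((QuotientGroup.mk' L).subgroupMap (P : Subgroup G))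
    (MonoidHom.subgroupMap_surjective _ _)

theorem flA_pairs_quot {p : ℕ} [Fact p.Prime] {G : Type*} [Group G] [Finite G] (L : Subgroup G)
    [L.Normal] (hL : (Nat.card L).Coprime p)
    (hc : ∀ x y : G, orderOf x = p → orderOf y = p →
      IsPSolvable p ↥(Subgroup.closure ({x, y} : Set G))) :
    ∀ x y : G ⧸ L, orderOf x = p → orderOf y = p →
      IsPSolvable p ↥(Subgroup.closure ({x, y} : Set (G ⧸ L))) := by
  intro xb yb hx hy
  obtain ⟨x, hxo, rfl⟩ := flA_lift L hL xb hx
  obtain ⟨y, hyo, rfl⟩ := flA_lift L hL yb hy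
  have hmap : (Subgroup.closure ({x, y} : Set G)).map (QuotientGroup.mk' L)
      = Subgroup.closure ({(x : G ⧸ L), (y : G ⧸ L)} : Set (G ⧸ L)) := by
    rw [MonoidHom.map_closure, Set.image_pair]; rfl
  have h1 := Cfsg.Agent.Lib.helper38.isPSolvable_of_surjective
    ((QuotientGroup.mk' L).subgroupMap (Subgroup.closure ({x, y} : Set G)))
    (MonoidHom.subgroupMap_surjective _ _) (hc x y hxo hyo)
  exact hmap ▸ h1

theorem flA_sylow_le {p : ℕ} [hp : Fact p.Prime] {G : Type*} [Group G] [Finite G] (P : Sylow p G)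
    (N : Subgroup G) [N.Normal] (hN : ¬ p ∣ N.index) : (P : Subgroup G) ≤ N := by
  intro x hx
  rw [← QuotientGroup.eq_one_iff]
  obtain ⟨k, hk⟩ := P.isPGroup' ⟨x, hx⟩
  have hk' : x ^ p ^ k = 1 := by simpa using congrArg Subtype.val hk
  have h1 : orderOf (x : G ⧸ N) ∣ p ^ k :=
    orderOf_dvd_of_pow_eq_one (by rw [← QuotientGroup.mk_pow, hk']; rfl)
  have h2 : orderOf (x : G ⧸ N) ∣ N.index := by
    rw [Subgroup.index_eq_card]; exact orderOf_dvd_natCard _
  have hcop : Nat.Coprime (p ^ k) N.index :=
    Nat.Coprime.pow_left k ((Nat.Prime.coprime_iff_not_dvd hp.out).mpr hN)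
  exact orderOf_eq_one_iff.mp (Nat.eq_one_of_dvd_coprimes hcop h1 h2)

theorem flA_pairs_sub {p : ℕ} [Fact p.Prime] {G : Type*} [Group G] (N : Subgroup G)
    (hc : ∀ x y : G, orderOf x = p → orderOf y = p →
      IsPSolvable p ↥(Subgroup.closure ({x, y} : Set G))) :
    ∀ x y : N, orderOf x = p → orderOf y = p →
      IsPSolvable p ↥(Subgroup.closure ({x, y} : Set N)) := by
  intro x y hx hy
  have h1 := hc (x : G) (y : G) (by rw [Subgroup.orderOf_coe]; exact hx)
    (by rw [Subgroup.orderOf_coe]; exact hy)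
  have hmap : (Subgroup.closure ({x, y} : Set N)).map N.subtype
      = Subgroup.closure ({(x : G), (y : G)} : Set G) := by
    rw [MonoidHom.map_closure, Set.image_pair]; rfl
  have h2 : IsPSolvable p ↥((Subgroup.closure ({x, y} : Set N)).map N.subtype) := hmap ▸ h1
  let e := Subgroup.equivMapOfInjective (Subgroup.closure ({x, y} : Set N)) N.subtype
    N.subtype_injective
  exact Cfsg.Agent.Lib.helper38.isPSolvable_of_surjective e.symm.toMonoidHom e.symm.surjective h2

theorem flA_step {p : ℕ} [hp : Fact p.Prime] (G : Type u) [Group G] [Finite G]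
    (IH : ∀ (H : Type u) [Group H] [Finite H], Nat.card H < Nat.card G →
      (∃ P : Sylow p H, IsCyclic ↥(P : Subgroup H)) →
      (∀ x y : H, orderOf x = p → orderOf y = p →
        IsPSolvable p ↥(Subgroup.closure ({x, y} : Set H))) → IsPSolvable p H)
    (P : Sylow p G) (hP : IsCyclic ↥(P : Subgroup G))
    (hc : ∀ x y : G, orderOf x = p → orderOf y = p →
      IsPSolvable p ↥(Subgroup.closure ({x, y} : Set G)))
    (L : Subgroup G) [L.Normal] (hL1 : L ≠ ⊥)
    (hL : IsPGroup p L ∨ (Nat.card L).Coprime p) : IsPSolvable p G := by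
  have hcardL : 1 < Nat.card L := L.one_lt_card_iff_ne_bot.mpr hL1
  have hlt : Nat.card (G ⧸ L) < Nat.card G := by
    rw [Subgroup.card_eq_card_quotient_mul_card_subgroup L]
    have hpos : 0 < Nat.card (G ⧸ L) := Nat.card_pos
    nlinarith
  rcases hL with hLp | hLc
  · obtain ⟨m, hm⟩ := IsPGroup.iff_card.mp hLp
    by_cases hidx : p ∣ L.index
    · have hpL : p ∣ Nat.card L := by
        rw [hm]
        have hm0 : m ≠ 0 := by
          rintro rfl
          rw [pow_zero] at hm
          omega
        exact dvd_pow_self p hm0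
      exact (Cfsg.Agent.S4145.result p P hP L hpL hidx).2
    · refine Cfsg.Agent.Lib.helper29.isPSolvable_of_quotient p L (Or.inl ⟨m, hm⟩) ?_
      apply flA_psolv_of_coprime
      rw [← Subgroup.index_eq_card]
      exact ((Nat.Prime.coprime_iff_not_dvd hp.out).mpr hidx).symm
  · refine Cfsg.Agent.Lib.helper29.isPSolvable_of_quotient p L (Or.inr hLc) ?_
    exact IH (G ⧸ L) hlt (flA_cyclic_quot P hP L) (flA_pairs_quot L hLc hc)

theorem flA_aux {p : ℕ} [hp : Fact p.Prime]
    (hmain : ∀ (G : Type u) [Group G] [Finite G] [IsSimpleGroup G], ¬ IsMulCommutative G →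
      ∀ P : Sylow p G, IsCyclic ↥(P : Subgroup G) → p ∣ Nat.card G →
      (∀ x y : G, orderOf x = p → orderOf y = p →
        Cfsg.IsPSolvable p ↥(Subgroup.closure ({x, y} : Set G))) → False) :
    ∀ (n : ℕ) (G : Type u) [Group G] [Finite G], Nat.card G = n →
      (∃ P : Sylow p G, IsCyclic ↥(P : Subgroup G)) →
      (∀ x y : G, orderOf x = p → orderOf y = p →
        IsPSolvable p ↥(Subgroup.closure ({x, y} : Set G))) → IsPSolvable p G := by
  intro n
  induction n using Nat.strong_induction_on with
  | _ n ih =>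
    intro G _ _ hn hS hc
    obtain ⟨P, hP⟩ := hS
    have IH : ∀ (H : Type u) [Group H] [Finite H], Nat.card H < Nat.card G →
        (∃ P : Sylow p H, IsCyclic ↥(P : Subgroup H)) →
        (∀ x y : H, orderOf x = p → orderOf y = p →
          IsPSolvable p ↥(Subgroup.closure ({x, y} : Set H))) → IsPSolvable p H :=
      fun H _ _ hlt hSH hcH => ih (Nat.card H) (hn ▸ hlt) H rfl hSH hcH
    by_cases htriv : Subsingleton G
    · exact flA_psolv_of_subsingleton p G
    have : Nontrivial G := not_subsingleton_iff_nontrivial.mp htriv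
    by_cases hsimple : IsSimpleGroup G
    · by_cases hcomm : IsMulCommutative G
      · exact Cfsg.Agent.Lib.helper29.isPSolvable_of_isSolvable p
          (Group.isSolvable_of_comm (fun a b => hcomm.is_comm.comm a b))
      · by_cases hpd : p ∣ Nat.card G
        · exact (hmain G hcomm P hP hpd hc).elim
        · exact flA_psolv_of_coprime p G ((Nat.Prime.coprime_iff_not_dvd hp.out).mpr hpd).symm
    · obtain ⟨N, hNn, hN1, hN2⟩ : ∃ N : Subgroup G, N.Normal ∧ N ≠ ⊥ ∧ N ≠ ⊤ := by
        by_contra hcon
        apply hsimple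
        refine ⟨fun N hN => ?_⟩
        by_contra h
        exact hcon ⟨N, hN, fun h1 => h (Or.inl h1), fun h2 => h (Or.inr h2)⟩
      have := hNn
      by_cases hpN : p ∣ Nat.card N
      · by_cases hidx : p ∣ N.index
        · exact (Cfsg.Agent.S4145.result p P hP N hpN hidx).2
        · have hPN := flA_sylow_le P N hidx
          have hNlt : Nat.card N < Nat.card G := by
            have hidx1 : N.index ≠ 1 := fun h => hN2 (Subgroup.index_eq_one.mp h)
            have hidx0 : N.index ≠ 0 := Subgroup.index_ne_zero_of_finite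
            have hmul := N.card_mul_index
            have hpos : 0 < Nat.card N := Nat.card_pos
            have h2 : 2 ≤ N.index := by omega
            nlinarith
          have hcycN : IsCyclic ↥((P.subtype hPN : Sylow p N) : Subgroup N) := by
            rw [Sylow.coe_subtype]
            exact isCyclic_of_surjective (Subgroup.subgroupOfEquivOfLe hPN).symm
              (MulEquiv.surjective _)
          have hNsol : IsPSolvable p N := IH N hNlt ⟨P.subtype hPN, hcycN⟩ (flA_pairs_sub N hc)
          have : Nontrivial N := (Subgroup.nontrivial_iff_ne_bot N).mpr hN1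
          obtain ⟨M, hMn, hM1, hM⟩ := Cfsg.Agent.Lib.helper80.exists_normal_of_isPSolvable p hNsol
          have := hMn
          rcases hM with hMp | hMc
          · have hle := Cfsg.Agent.Lib.helper27.normal_pGroup_le_pCore p M hMp
            have hcore : Cfsg.pCore p N ≠ ⊥ := fun h => hM1 (le_bot_iff.mp (h ▸ hle))
            have : ((Cfsg.pCore p N).map N.subtype).Normal :=
              ConjAct.normal_of_characteristic_of_normal
            refine flA_step G IH P hP hc ((Cfsg.pCore p N).map N.subtype) ?_ (Or.inl ?_)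
            · rwa [Ne, Subgroup.map_eq_bot_iff_of_injective _ N.subtype_injective]
            · exact (Cfsg.Agent.Lib.helper27.pCore_isPGroup p).map _
          · have hle := Cfsg.Agent.Lib.helper27.normal_coprime_le_pPrimeCore p M hMc
            have hcore : Cfsg.pPrimeCore p N ≠ ⊥ := fun h => hM1 (le_bot_iff.mp (h ▸ hle))
            have : ((Cfsg.pPrimeCore p N).map N.subtype).Normal :=
              ConjAct.normal_of_characteristic_of_normal
            refine flA_step G IH P hP hc ((Cfsg.pPrimeCore p N).map N.subtype) ?_ (Or.inr ?_)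
            · rwa [Ne, Subgroup.map_eq_bot_iff_of_injective _ N.subtype_injective]
            · rw [Subgroup.card_map_of_injective N.subtype_injective]
              exact Cfsg.Agent.Lib.helper27.pPrimeCore_coprime p
      · exact flA_step G IH P hP hc N hN1
          (Or.inr ((Nat.Prime.coprime_iff_not_dvd hp.out).mpr hpN).symm)

/-- Reduction of Flavell's Theorem A for cyclic Sylow `p`-subgroups to the simple case. -/
theorem flA_reduction {p : ℕ} [Fact p.Prime]
    (hmain : ∀ (G : Type u) [Group G] [Finite G] [IsSimpleGroup G], ¬ IsMulCommutative G →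
      ∀ P : Sylow p G, IsCyclic ↥(P : Subgroup G) → p ∣ Nat.card G →
      (∀ x y : G, orderOf x = p → orderOf y = p →
        Cfsg.IsPSolvable p ↥(Subgroup.closure ({x, y} : Set G))) → False)
    (G : Type u) [Group G] [Finite G] (P : Sylow p G) (hP : IsCyclic ↥(P : Subgroup G)) :
    Cfsg.IsPSolvable p G ↔ ∀ x y : G, orderOf x = p → orderOf y = p →
      Cfsg.IsPSolvable p ↥(Subgroup.closure ({x, y} : Set G)) := by
  constructor
  · intro h x y _ _
    exact Cfsg.Agent.Lib.helper38.isPSolvable_subgroup _ h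
  · intro hc
    exact flA_aux hmain (Nat.card G) G rfl ⟨P, hP⟩ hc

end Cfsg.Agent.Lib.helper57
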