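import Mathlib
import Cfsg.Agent.Lib.helper3.GfHeis

/-!
# S4395, EXB sub-split, piece HCARD: the order of the Heisenberg-type group `HG n L σ lam`
-/

set_option autoImplicit false

namespace Cfsg.Agent.Lib.helper3.Gf

universe u

open HG

section
variable {n : ℕ} [NeZero n] {L : Type u} [Field L] {σ : L →+* L} {lam : L} [h : HData n L σ lam]

/-- HCARD (M) : order.  (`(x,z,k) ↦ (x, z - c x, k)` with `c x` a chosen solution of `c + σ c = x σ x`.) -/
theorem hcard_HG [Finite L] (hnorm : ∀ x : L, ∃ z, z + σ z = x * σ x) :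
    Finite (HG n L σ lam) ∧
    Nat.card (HG n L σ lam) = Nat.card L * Nat.card {z : L // z + σ z = 0} * n := by
  classical
  choose c hc using hnorm
  let e : HG n L σ lam ≃ (L × {z : L // z + σ z = 0}) × ZMod n :=
    { toFun := fun g => ((g.x, ⟨g.z - c g.x, by
        rw [map_sub]; linear_combination g.hz - hc g.x⟩), g.k)
      invFun := fun t => ⟨t.1.1, t.1.2.1 + c t.1.1, t.2, by
        rw [map_add]; linear_combination t.1.2.2 + hc t.1.1⟩
      left_inv := by
        intro g
        ext <;> simp
      right_inv := by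
        rintro ⟨⟨x, ⟨w, hw⟩⟩, k⟩
        simp }
  have hfin : Finite (HG n L σ lam) := Finite.of_equiv _ e.symm
  refine ⟨hfin, ?_⟩
  rw [Nat.card_congr e, Nat.card_prod, Nat.card_prod, Nat.card_zmod]

end

end Cfsg.Agent.Lib.helper3.Gf
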