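import Mathlib
import Cfsg.Agent.Lib.helper3.GfDefs

/-!
# S4395 piece IRRMATCH (racing copy by helper57), core

Two irreducible modules `V₁`, `V₂` (in the sense of `Irr p q`) of the same order are isomorphic up
to replacing `T₂` by a power `T₂ ^ m`, `q ∤ m`.  The rings `ℤ[X] ⧸ ker (f ↦ f(T_i))` are finite
commutative domains acting simply transitively on `V_i`.
-/

set_option autoImplicit false

namespace Cfsg.Agent.Lib.helper3.Gf

open Polynomial

/-- `T` as an element of the ring `End V` -/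
def h57_endOf {V : Type*} [AddCommGroup V] (T : V ≃+ V) : AddMonoid.End V := T.toAddMonoidHom

theorem h57_endOf_apply {V : Type*} [AddCommGroup V] (T : V ≃+ V) (w : V) :
    h57_endOf T w = T w := rfl

/-- iterates as powers in `AddMonoid.End` -/
theorem h57_end_pow_apply {V : Type*} [AddCommGroup V] (T : V ≃+ V) (m : ℕ) (w : V) :
    (h57_endOf T ^ m) w = (⇑T)^[m] w := by
  induction m generalizing w with
  | zero =>
    rw [pow_zero]
    rfl
  | succ m ih =>
    rw [pow_succ, Function.iterate_succ_apply]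
    exact ih (T w)

/-- evaluation of integer polynomials at `T` in `End V` -/
noncomputable def h57_ev {V : Type*} [AddCommGroup V] (T : V ≃+ V) : ℤ[X] →+* AddMonoid.End V :=
  Polynomial.eval₂RingHom' (Int.castRingHom (AddMonoid.End V))
    (h57_endOf T) (fun a => Int.cast_commute a _)

theorem h57_ev_X {V : Type*} [AddCommGroup V] (T : V ≃+ V) :
    h57_ev T X = h57_endOf T := by
  show Polynomial.eval₂ _ _ X = _
  exact Polynomial.eval₂_X _ _

theorem h57_ev_ker {p q : ℕ} {V : Type*} [AddCommGroup V] (T : V ≃+ V) (h : Irr p q T)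
    (f : ℤ[X]) (v : V) (hv : v ≠ 0) (hfv : h57_ev T f v = 0) : h57_ev T f = 0 := by
  let Kf : AddSubgroup V :=
    { carrier := {w | h57_ev T f w = 0}
      add_mem' := by
        intro a b ha hb
        show h57_ev T f (a + b) = 0
        rw [map_add, show h57_ev T f a = 0 from ha, show h57_ev T f b = 0 from hb, add_zero]
      zero_mem' := map_zero _
      neg_mem' := by
        intro a ha
        show h57_ev T f (-a) = 0
        rw [map_neg, show h57_ev T f a = 0 from ha, neg_zero] }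
  have hinv : ∀ w ∈ Kf, T w ∈ Kf := by
    intro w hw
    have hw' : h57_ev T f w = 0 := hw
    have hcomm : h57_ev T f * h57_ev T X = h57_ev T X * h57_ev T f := by
      rw [← map_mul, ← map_mul, mul_comm]
    have h1 : (h57_ev T f * h57_ev T X) w = (h57_ev T X * h57_ev T f) w := by rw [hcomm]
    rw [h57_ev_X] at h1
    have h2 : h57_ev T f (T w) = T (h57_ev T f w) := h1
    show h57_ev T f (T w) = 0
    rw [h2, hw', map_zero]
  rcases h.irr Kf hinv with h0 | h0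
  · exfalso
    have h3 : v ∈ Kf := hfv
    rw [h0, AddSubgroup.mem_bot] at h3
    exact hv h3
  · refine AddMonoidHom.ext (fun w => ?_)
    have h3 : w ∈ Kf := by
      rw [h0]
      trivial
    exact h3

theorem h57_ev_surj {p q : ℕ} {V : Type*} [AddCommGroup V] (T : V ≃+ V) (h : Irr p q T)
    (v : V) (hv : v ≠ 0) (w : V) : ∃ f : ℤ[X], h57_ev T f v = w := by
  let W : AddSubgroup V :=
    { carrier := {w | ∃ f : ℤ[X], h57_ev T f v = w}
      add_mem' := by
        rintro a b ⟨f, rfl⟩ ⟨g, rfl⟩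
        exact ⟨f + g, by rw [map_add]; rfl⟩
      zero_mem' := ⟨0, by rw [map_zero]; rfl⟩
      neg_mem' := by
        rintro a ⟨f, rfl⟩
        exact ⟨-f, by rw [map_neg]; rfl⟩ }
  have hinv : ∀ w ∈ W, T w ∈ W := by
    rintro w ⟨f, rfl⟩
    refine ⟨X * f, ?_⟩
    rw [map_mul, h57_ev_X]
    rfl
  have hvW : v ∈ W := ⟨1, by rw [map_one]; rfl⟩
  rcases h.irr W hinv with h0 | h0
  · exfalso
    rw [h0, AddSubgroup.mem_bot] at hvW
    exact hv hvW
  · have h3 : w ∈ W := by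
      rw [h0]
      trivial
    exact h3

theorem h57_ker_prime {p q : ℕ} {V : Type*} [AddCommGroup V] (T : V ≃+ V) (h : Irr p q T) :
    (RingHom.ker (h57_ev T)).IsPrime := by
  obtain ⟨u, hu⟩ := h.ne
  have hu0 : u ≠ 0 := fun h0 => hu (by rw [h0, map_zero])
  refine ⟨?_, fun {f g} hfg => ?_⟩
  · intro htop
    have h1 : (1 : ℤ[X]) ∈ RingHom.ker (h57_ev T) := by
      rw [htop]
      trivial
    rw [RingHom.mem_ker, map_one] at h1
    have h2 : (1 : AddMonoid.End V) u = (0 : AddMonoid.End V) u := by rw [h1]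
    exact hu0 h2
  · rw [RingHom.mem_ker, map_mul] at hfg
    by_cases hf : h57_ev T f = 0
    · left
      exact RingHom.mem_ker.mpr hf
    · right
      rw [RingHom.mem_ker]
      refine AddMonoidHom.ext (fun w => ?_)
      by_contra hw
      apply hf
      refine h57_ev_ker T h f (h57_ev T g w) hw ?_
      have h3 : (h57_ev T f * h57_ev T g) w = 0 := by
        rw [hfg]
        rfl
      exact h3

theorem h57_phi_bij {p q : ℕ} {V : Type*} [AddCommGroup V] (T : V ≃+ V) (h : Irr p q T)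
    (v : V) (hv : v ≠ 0) :
    Function.Bijective
      (fun x : ℤ[X] ⧸ RingHom.ker (h57_ev T) => RingHom.kerLift (h57_ev T) x v) := by
  constructor
  · intro x y hxy
    obtain ⟨f, rfl⟩ := Ideal.Quotient.mk_surjective x
    obtain ⟨g, rfl⟩ := Ideal.Quotient.mk_surjective y
    simp only [RingHom.kerLift_mk] at hxy
    rw [Ideal.Quotient.eq, RingHom.mem_ker]
    apply h57_ev_ker T h (f - g) v hv
    rw [map_sub]
    show h57_ev T f v - h57_ev T g v = 0
    rw [hxy, sub_self]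
  · intro w
    obtain ⟨f, hf⟩ := h57_ev_surj T h v hv w
    refine ⟨Ideal.Quotient.mk _ f, ?_⟩
    simp only [RingHom.kerLift_mk]
    exact hf

theorem h57_t_facts {p q : ℕ} {V : Type*} [AddCommGroup V] (T : V ≃+ V) (h : Irr p q T) :
    RingHom.kerLift (h57_ev T) (Ideal.Quotient.mk (RingHom.ker (h57_ev T)) X) =
        h57_endOf T ∧
      (Ideal.Quotient.mk (RingHom.ker (h57_ev T)) X) ^ q = 1 ∧
      (Ideal.Quotient.mk (RingHom.ker (h57_ev T)) X) ≠ 1 := by
  have hk : RingHom.kerLift (h57_ev T) (Ideal.Quotient.mk (RingHom.ker (h57_ev T)) X) =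
      h57_endOf T := by
    rw [RingHom.kerLift_mk, h57_ev_X]
  refine ⟨hk, ?_, ?_⟩
  · apply RingHom.kerLift_injective (h57_ev T)
    rw [map_pow, hk, map_one]
    refine AddMonoidHom.ext (fun w => ?_)
    exact (h57_end_pow_apply T q w).trans (h.pow w)
  · intro h1
    rw [h1, map_one] at hk
    obtain ⟨u, hu⟩ := h.ne
    apply hu
    have h2 : (1 : AddMonoid.End V) u = h57_endOf T u := by rw [hk]
    exact h2.symm

theorem h57_ringEquiv_of_card_eq {R₁ R₂ : Type*} [CommRing R₁] [IsDomain R₁] [Finite R₁]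
    [CommRing R₂] [IsDomain R₂] [Finite R₂] (h : Nat.card R₁ = Nat.card R₂) :
    Nonempty (R₁ ≃+* R₂) := by
  classical
  letI : Fintype R₁ := Fintype.ofFinite R₁
  letI : Fintype R₂ := Fintype.ofFinite R₂
  letI : Field R₁ := Fintype.fieldOfDomain R₁
  letI : Field R₂ := Fintype.fieldOfDomain R₂
  have h' : Fintype.card R₁ = Fintype.card R₂ := by
    rw [← Nat.card_eq_fintype_card, ← Nat.card_eq_fintype_card]
    exact h
  exact ⟨FiniteField.ringEquivOfCardEq h'⟩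

/-- Core of IRRMATCH: the equality of the orders enters as a hypothesis. -/
theorem h57_irr_match_core (p q : ℕ) [Fact p.Prime] [Fact q.Prime] {V₁ V₂ : Type*}
    [AddCommGroup V₁] [Finite V₁] [AddCommGroup V₂] [Finite V₂]
    (T₁ : V₁ ≃+ V₁) (T₂ : V₂ ≃+ V₂) (h₁ : Irr p q T₁) (h₂ : Irr p q T₂)
    (hcard : Nat.card V₁ = Nat.card V₂) :
    ∃ (m : ℕ) (ψ : V₁ ≃+ V₂), ¬ q ∣ m ∧ ∀ v : V₁, ψ (T₁ v) = (⇑T₂)^[m] (ψ v) := by
  classical
  have hqpos : 0 < q := (Fact.out : q.Prime).pos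
  obtain ⟨u₁, hu₁⟩ := h₁.ne
  obtain ⟨u₂, hu₂⟩ := h₂.ne
  have hv₁ : u₁ ≠ 0 := fun h0 => hu₁ (by rw [h0, map_zero])
  have hv₂ : u₂ ≠ 0 := fun h0 => hu₂ (by rw [h0, map_zero])
  have hP₁ : (RingHom.ker (h57_ev T₁)).IsPrime := h57_ker_prime T₁ h₁
  have hP₂ : (RingHom.ker (h57_ev T₂)).IsPrime := h57_ker_prime T₂ h₂
  have hfe₁ : Finite (AddMonoid.End V₁) := DFunLike.finite (V₁ →+ V₁)
  have hfe₂ : Finite (AddMonoid.End V₂) := DFunLike.finite (V₂ →+ V₂)
  have hfin₁ : Finite (ℤ[X] ⧸ RingHom.ker (h57_ev T₁)) :=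
    Finite.of_injective _ (RingHom.kerLift_injective (h57_ev T₁))
  have hfin₂ : Finite (ℤ[X] ⧸ RingHom.ker (h57_ev T₂)) :=
    Finite.of_injective _ (RingHom.kerLift_injective (h57_ev T₂))
  obtain ⟨Φ₁, hΦ₁⟩ : ∃ Φ₁ : (ℤ[X] ⧸ RingHom.ker (h57_ev T₁)) ≃+ V₁,
      ∀ x, Φ₁ x = RingHom.kerLift (h57_ev T₁) x u₁ :=
    ⟨AddEquiv.ofBijective (AddMonoidHom.mk' (fun x => RingHom.kerLift (h57_ev T₁) x u₁)
      (by intro a b; rw [map_add]; rfl)) (h57_phi_bij T₁ h₁ u₁ hv₁), fun x => rfl⟩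
  obtain ⟨Φ₂, hΦ₂⟩ : ∃ Φ₂ : (ℤ[X] ⧸ RingHom.ker (h57_ev T₂)) ≃+ V₂,
      ∀ x, Φ₂ x = RingHom.kerLift (h57_ev T₂) x u₂ :=
    ⟨AddEquiv.ofBijective (AddMonoidHom.mk' (fun x => RingHom.kerLift (h57_ev T₂) x u₂)
      (by intro a b; rw [map_add]; rfl)) (h57_phi_bij T₂ h₂ u₂ hv₂), fun x => rfl⟩
  have hcardE : Nat.card (ℤ[X] ⧸ RingHom.ker (h57_ev T₁)) =
      Nat.card (ℤ[X] ⧸ RingHom.ker (h57_ev T₂)) := by
    rw [Nat.card_congr Φ₁.toEquiv, Nat.card_congr Φ₂.toEquiv]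
    exact hcard
  obtain ⟨ι⟩ := h57_ringEquiv_of_card_eq hcardE
  obtain ⟨hk₁, ht₁q, ht₁1⟩ := h57_t_facts T₁ h₁
  obtain ⟨hk₂, ht₂q, ht₂1⟩ := h57_t_facts T₂ h₂
  have hsq : (ι (Ideal.Quotient.mk (RingHom.ker (h57_ev T₁)) X)) ^ q = 1 := by
    rw [← map_pow, ht₁q, map_one]
  have hs1 : ι (Ideal.Quotient.mk (RingHom.ker (h57_ev T₁)) X) ≠ 1 := by
    intro h0
    apply ht₁1
    apply ι.injective
    rw [h0, map_one]
  have hord : orderOf (Ideal.Quotient.mk (RingHom.ker (h57_ev T₂)) X) = q :=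
    orderOf_eq_prime ht₂q ht₂1
  have hmem : ι (Ideal.Quotient.mk (RingHom.ker (h57_ev T₁)) X) ∈
      (Finset.range q).image (fun k => (Ideal.Quotient.mk (RingHom.ker (h57_ev T₂)) X) ^ k) := by
    have hsub : (Finset.range q).image
        (fun k => (Ideal.Quotient.mk (RingHom.ker (h57_ev T₂)) X) ^ k) ⊆
        (Polynomial.nthRoots q (1 : ℤ[X] ⧸ RingHom.ker (h57_ev T₂))).toFinset := by
      intro z hz
      obtain ⟨k, -, rfl⟩ := Finset.mem_image.mp hz
      rw [Multiset.mem_toFinset, Polynomial.mem_nthRoots hqpos, ← pow_mul, mul_comm, pow_mul,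
        ht₂q, one_pow]
    have hcardimg : ((Finset.range q).image
        (fun k => (Ideal.Quotient.mk (RingHom.ker (h57_ev T₂)) X) ^ k)).card = q := by
      rw [Finset.card_image_of_injOn, Finset.card_range]
      intro a ha b hb hab
      exact pow_injOn_Iio_orderOf (by rw [hord]; exact Finset.mem_range.mp ha)
        (by rw [hord]; exact Finset.mem_range.mp hb) hab
    have heq := Finset.eq_of_subset_of_card_le hsub (by
      rw [hcardimg]
      exact (Multiset.toFinset_card_le _).trans (Polynomial.card_nthRoots q 1))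
    rw [heq, Multiset.mem_toFinset, Polynomial.mem_nthRoots hqpos]
    exact hsq
  obtain ⟨m, hm, hms⟩ := Finset.mem_image.mp hmem
  have hm0 : m ≠ 0 := by
    rintro rfl
    rw [pow_zero] at hms
    exact hs1 hms.symm
  obtain ⟨ψ, hψ⟩ : ∃ ψ : V₁ ≃+ V₂, ∀ x, ψ (Φ₁ x) = Φ₂ (ι x) :=
    ⟨Φ₁.symm.trans (ι.toAddEquiv.trans Φ₂), fun x => by
      show Φ₂ (ι (Φ₁.symm (Φ₁ x))) = Φ₂ (ι x)
      rw [AddEquiv.symm_apply_apply]⟩
  refine ⟨m, ψ, Nat.not_dvd_of_pos_of_lt (Nat.pos_of_ne_zero hm0) (Finset.mem_range.mp hm), ?_⟩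
  intro v
  obtain ⟨x, rfl⟩ := Φ₁.surjective v
  have e1 : T₁ (Φ₁ x) = Φ₁ (Ideal.Quotient.mk (RingHom.ker (h57_ev T₁)) X * x) := by
    rw [hΦ₁, hΦ₁, map_mul, hk₁]
    rfl
  rw [e1, hψ, hψ, map_mul, ← hms, hΦ₂, hΦ₂, map_mul, map_pow, hk₂]
  exact h57_end_pow_apply T₂ m _

end Cfsg.Agent.Lib.helper3.Gf
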