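import Mathlib
import Cfsg.Agent.Lib.helper3.GfDefs
import Cfsg.Agent.Lib.helper57.GfIRRMATCHcore
import Cfsg.Agent.Lib.helper73.GfIRRDIM

/-!
# S4395 piece IRRMATCH (racing copy by helper57)
-/

set_option autoImplicit false

namespace Cfsg.Agent.Lib.helper3.Gf

/-- IRRMATCH (racing copy) -/
theorem h57_irr_match (p q : ℕ) [Fact p.Prime] [Fact q.Prime] (hpq : p ≠ q) {V₁ V₂ : Type*}
    [AddCommGroup V₁] [Finite V₁] [AddCommGroup V₂] [Finite V₂]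
    (T₁ : V₁ ≃+ V₁) (T₂ : V₂ ≃+ V₂) (h₁ : Irr p q T₁) (h₂ : Irr p q T₂) :
    ∃ (m : ℕ) (ψ : V₁ ≃+ V₂), ¬ q ∣ m ∧ ∀ v : V₁, ψ (T₁ v) = (⇑T₂)^[m] (ψ v) :=
  h57_irr_match_core p q T₁ T₂ h₁ h₂
    ((h73_irr_card p q hpq T₁ h₁).trans (h73_irr_card p q hpq T₂ h₂).symm)

end Cfsg.Agent.Lib.helper3.Gf
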