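import Mathlib

/-!
# Quadratic action and abelian `p'`-groups

`quad_commute`: an automorphism `x` of a finite abelian group `M` of odd order with `(x - 1)^2 = 0`
commutes with `a⁻¹ (x a x⁻¹)` whenever `a`, `x a x⁻¹`, `x² a x⁻²` commute pairwise and `a⁻¹ (x a x⁻¹)`
has order prime to `|M|`.
-/

set_option autoImplicit false

namespace Cfsg.Agent.Lib.helper57

section ring

variable {R : Type*} [Ring R]

theorem pow_succ_add_of_sq_zero (D F : R) (hFF : F * F = 0) (hc : F * D = D * F) (k : ℕ) :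
    (D + F) ^ (k + 1) = D ^ (k + 1) + (k + 1) • (D ^ k * F) := by
  induction k with
  | zero => simp
  | succ k ih =>
    have h1 : D ^ k * F * D = D ^ (k + 1) * F := by
      rw [mul_assoc, hc, ← mul_assoc, ← pow_succ]
    have h2 : D ^ k * F * F = 0 := by rw [mul_assoc, hFF, mul_zero]
    rw [pow_succ, ih, add_mul, mul_add, mul_add, smul_mul_assoc, smul_mul_assoc, h1, h2, smul_zero,
      add_zero, ← pow_succ, succ_nsmul (D ^ (k + 1) * F) (k + 1)]
    abel

end ring

section quad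

variable {M : Type*} [AddCommGroup M] [Finite M]

theorem quad_commute (x a : (AddMonoid.End M)ˣ)
    (hq : ∀ v : M, (x : AddMonoid.End M) ((x : AddMonoid.End M) v) = 2 • (x : AddMonoid.End M) v - v)
    (h01 : Commute a (x * a * x⁻¹)) (h02 : Commute a (x * (x * a * x⁻¹) * x⁻¹))
    (h12 : Commute (x * a * x⁻¹) (x * (x * a * x⁻¹) * x⁻¹))
    (m : ℕ) (hm0 : 0 < m) (hdm : (a⁻¹ * (x * a * x⁻¹)) ^ m = 1)
    (hm : ∀ v : M, m • v = 0 → v = 0) (h2 : ∀ v : M, 2 • v = 0 → v = 0) :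
    x * (a⁻¹ * (x * a * x⁻¹)) = (a⁻¹ * (x * a * x⁻¹)) * x := by
  have ev : ∀ (u w : (AddMonoid.End M)ˣ) (v : M),
      ((u * w : (AddMonoid.End M)ˣ) : AddMonoid.End M) v =
        (u : AddMonoid.End M) ((w : AddMonoid.End M) v) := fun u w v => rfl
  have einv : ∀ (u : (AddMonoid.End M)ˣ) (v : M),
      (u : AddMonoid.End M) (((u⁻¹ : (AddMonoid.End M)ˣ) : AddMonoid.End M) v) = v :=
    fun u v => DFunLike.congr_fun (Units.mul_inv u) v
  have einv' : ∀ (u : (AddMonoid.End M)ˣ) (v : M),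
      ((u⁻¹ : (AddMonoid.End M)ˣ) : AddMonoid.End M) ((u : AddMonoid.End M) v) = v :=
    fun u v => DFunLike.congr_fun (Units.inv_mul u) v
  have hcomm : Commute (a⁻¹ * (x * a * x⁻¹)) ((x * a * x⁻¹)⁻¹ * (x * (x * a * x⁻¹) * x⁻¹)) := by
    apply Commute.mul_left
    · exact Commute.mul_right h01.inv_inv h02.inv_left
    · exact Commute.mul_right (Commute.refl _).inv_right h12
  have hd₁' : (x * a * x⁻¹)⁻¹ * (x * (x * a * x⁻¹) * x⁻¹) = x * (a⁻¹ * (x * a * x⁻¹)) * x⁻¹ := by group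
  have hdd₁ : a⁻¹ * (x * (x * a * x⁻¹) * x⁻¹) =
      (a⁻¹ * (x * a * x⁻¹)) * ((x * a * x⁻¹)⁻¹ * (x * (x * a * x⁻¹) * x⁻¹)) := by group
  have hxa : x * a = (x * a * x⁻¹) * x := by group
  have hxa₁ : x * (x * a * x⁻¹) = (x * (x * a * x⁻¹) * x⁻¹) * x := by group
  generalize ha₁ : x * a * x⁻¹ = a₁ at *
  generalize ha₂ : x * a₁ * x⁻¹ = a₂ at *
  generalize hd : a⁻¹ * a₁ = d at *
  generalize hdd : a₁⁻¹ * a₂ = d₁ at *
  -- function-level facts
  have f1 : ∀ v, (x : AddMonoid.End M) ((a : AddMonoid.End M) v) =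
      (a₁ : AddMonoid.End M) ((x : AddMonoid.End M) v) := fun v => by
    rw [← ev, ← ev, hxa]
  have f2 : ∀ v, (x : AddMonoid.End M) ((a₁ : AddMonoid.End M) v) =
      (a₂ : AddMonoid.End M) ((x : AddMonoid.End M) v) := fun v => by
    rw [← ev, ← ev, hxa₁]
  have f3 : ∀ v, ((a⁻¹ : (AddMonoid.End M)ˣ) : AddMonoid.End M) ((a₁ : AddMonoid.End M) v) =
      (d : AddMonoid.End M) v := fun v => by
    rw [← ev, hd]
  have f4 : ∀ v, ((a⁻¹ : (AddMonoid.End M)ˣ) : AddMonoid.End M) ((a₂ : AddMonoid.End M) v) =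
      (d : AddMonoid.End M) ((d₁ : AddMonoid.End M) v) := fun v => by
    rw [← ev, ← ev, hdd₁]
  have f5 : ∀ v, (d₁ : AddMonoid.End M) ((x : AddMonoid.End M) v) =
      (x : AddMonoid.End M) ((d : AddMonoid.End M) v) := fun v => by
    rw [← ev, ← ev, hd₁']
    congr 2
    group
  have f6 : ∀ v, (d : AddMonoid.End M) (((x⁻¹ : (AddMonoid.End M)ˣ) : AddMonoid.End M) v) =
      ((x⁻¹ : (AddMonoid.End M)ˣ) : AddMonoid.End M) ((d₁ : AddMonoid.End M) v) := fun v => by
    rw [← ev, ← ev, hd₁']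
    congr 2
    group
  have f7 : ∀ v, (d : AddMonoid.End M) ((d₁ : AddMonoid.End M) v) =
      (d₁ : AddMonoid.End M) ((d : AddMonoid.End M) v) := fun v => by
    rw [← ev, ← ev, hcomm.eq]
  -- the key identity
  have key : ∀ v, 2 • (d : AddMonoid.End M) ((d₁ : AddMonoid.End M) ((x : AddMonoid.End M) v)) -
      (d : AddMonoid.End M) ((d₁ : AddMonoid.End M) v) =
      2 • (d : AddMonoid.End M) ((x : AddMonoid.End M) v) - v := by
    intro v
    have h1 := hq ((a : AddMonoid.End M) v)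
    rw [f1, f2, hq, map_sub, map_nsmul] at h1
    have h3 := congrArg (fun w => ((a⁻¹ : (AddMonoid.End M)ˣ) : AddMonoid.End M) w) h1
    simp only [map_sub, map_nsmul, f3, f4, einv'] at h3
    exact h3
  -- fixed points
  have hK : ∀ v, (d : AddMonoid.End M) v = v → (d₁ : AddMonoid.End M) v = v := by
    intro v hv
    have h1 := key v
    rw [f5, hv] at h1
    have h4 : (d : AddMonoid.End M) ((d₁ : AddMonoid.End M) v) = v := by
      have := sub_right_injective h1
      exact this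
    rw [f7, hv] at h4
    exact h4
  have hKeq : {v : M | (d : AddMonoid.End M) v = v} = {v : M | (d₁ : AddMonoid.End M) v = v} := by
    apply Set.eq_of_subset_of_ncard_le (fun v hv => hK v hv) _ (Set.toFinite _)
    apply Set.ncard_le_ncard_of_injOn (fun v => ((x⁻¹ : (AddMonoid.End M)ˣ) : AddMonoid.End M) v)
    · intro v hv
      show (d : AddMonoid.End M) (((x⁻¹ : (AddMonoid.End M)ˣ) : AddMonoid.End M) v) = _
      rw [f6]
      exact congrArg _ hv
    · intro v _ w _ hvw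
      have := congrArg (fun u => (x : AddMonoid.End M) u) hvw
      simpa [einv] using this
  have hK' : ∀ v, (d₁ : AddMonoid.End M) v = v → (d : AddMonoid.End M) v = v := by
    intro v hv
    have : v ∈ {v : M | (d₁ : AddMonoid.End M) v = v} := hv
    rw [← hKeq] at this
    exact this
  -- (d₁ - 1)(d₁ - d) = 0
  have hE : ∀ w, (d₁ : AddMonoid.End M) ((d₁ : AddMonoid.End M) w - (d : AddMonoid.End M) w) =
      (d₁ : AddMonoid.End M) w - (d : AddMonoid.End M) w := by
    intro w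
    have hα := key ((d : AddMonoid.End M) (((x⁻¹ : (AddMonoid.End M)ˣ) : AddMonoid.End M) w))
    have hβ := congrArg (fun u => (d : AddMonoid.End M) u)
      (key (((x⁻¹ : (AddMonoid.End M)ˣ) : AddMonoid.End M) w))
    simp only [map_sub, map_nsmul] at hβ
    rw [← f5, einv] at hα
    rw [einv] at hβ
    rw [f7 (((x⁻¹ : (AddMonoid.End M)ˣ) : AddMonoid.End M) w)] at hβ
    -- hα : 2 • d (d₁ (d₁ w)) - d (d₁ (d (x⁻¹ w))) = 2 • d (d₁ w) - d (x⁻¹ w)
    -- hβ : 2 • d (d (d₁ w)) - d (d₁ (d (x⁻¹ w))) = 2 • d (d w) - d (x⁻¹ w)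
    have h3 : 2 • ((d : AddMonoid.End M) ((d₁ : AddMonoid.End M) ((d₁ : AddMonoid.End M) w) -
        (d : AddMonoid.End M) ((d₁ : AddMonoid.End M) w) - (d₁ : AddMonoid.End M) w +
        (d : AddMonoid.End M) w)) = 0 := by
      rw [map_add, map_sub, map_sub]
      have e : ∀ (P1 R1 S1 T1 Q U : M), 2 • (P1 - R1 - S1 + T1) =
          (2 • P1 - Q) - (2 • R1 - Q) - ((2 • S1 - U) - (2 • T1 - U)) := by
        intro P1 R1 S1 T1 Q U
        simp only [nsmul_sub, nsmul_add]
        abel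
      rw [e _ _ _ _ ((d : AddMonoid.End M) ((d₁ : AddMonoid.End M) ((d : AddMonoid.End M)
        (((x⁻¹ : (AddMonoid.End M)ˣ) : AddMonoid.End M) w))))
        ((d : AddMonoid.End M) (((x⁻¹ : (AddMonoid.End M)ˣ) : AddMonoid.End M) w)), hα, hβ]
      abel
    have h4 := h2 _ h3
    have h5 : (d₁ : AddMonoid.End M) ((d₁ : AddMonoid.End M) w) -
        (d : AddMonoid.End M) ((d₁ : AddMonoid.End M) w) - (d₁ : AddMonoid.End M) w +
        (d : AddMonoid.End M) w = 0 := by
      have := congrArg (fun u => ((d⁻¹ : (AddMonoid.End M)ˣ) : AddMonoid.End M) u) h4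
      simp only [einv', map_zero] at this
      exact this
    rw [sub_add, sub_eq_zero] at h5
    rw [map_sub, ← f7 w]
    exact h5
  -- F = d₁ - d squares to zero
  have hFF : ((d₁ : AddMonoid.End M) - (d : AddMonoid.End M)) *
      ((d₁ : AddMonoid.End M) - (d : AddMonoid.End M)) = 0 := by
    ext v
    show (d₁ : AddMonoid.End M) ((d₁ : AddMonoid.End M) v - (d : AddMonoid.End M) v) -
      (d : AddMonoid.End M) ((d₁ : AddMonoid.End M) v - (d : AddMonoid.End M) v) = 0
    rw [hE v, hK' _ (hE v), sub_self]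
  have hdd' : (d₁ : AddMonoid.End M) * (d : AddMonoid.End M) =
      (d : AddMonoid.End M) * (d₁ : AddMonoid.End M) := by
    rw [← Units.val_mul, ← Units.val_mul, hcomm.eq]
  have hc : ((d₁ : AddMonoid.End M) - (d : AddMonoid.End M)) * (d : AddMonoid.End M) =
      (d : AddMonoid.End M) * ((d₁ : AddMonoid.End M) - (d : AddMonoid.End M)) := by
    rw [sub_mul, mul_sub, hdd']
  obtain ⟨k, rfl⟩ : ∃ k, m = k + 1 := ⟨m - 1, by omega⟩
  have hpow := pow_succ_add_of_sq_zero (d : AddMonoid.End M)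
    ((d₁ : AddMonoid.End M) - (d : AddMonoid.End M)) hFF hc k
  rw [add_sub_cancel] at hpow
  have hd₁m : d₁ ^ (k + 1) = 1 := by
    rw [hd₁', conj_pow, hdm, mul_one, mul_inv_cancel]
  rw [← Units.val_pow_eq_pow_val, ← Units.val_pow_eq_pow_val, hd₁m, hdm, Units.val_one] at hpow
  have hzero : (k + 1) • ((d : AddMonoid.End M) ^ k * ((d₁ : AddMonoid.End M) - (d : AddMonoid.End M))) = 0 := by
    have := hpow
    rwa [left_eq_add] at this
  have hF0 : ∀ v, (d₁ : AddMonoid.End M) v = (d : AddMonoid.End M) v := by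
    intro v
    have h1 := DFunLike.congr_fun hzero v
    have h1' : (k + 1) • (((d ^ k : (AddMonoid.End M)ˣ) : AddMonoid.End M)
        ((d₁ : AddMonoid.End M) v - (d : AddMonoid.End M) v)) = 0 := by
      rw [Units.val_pow_eq_pow_val]
      exact h1
    have h6 := hm _ h1'
    have h7 := congrArg (fun u => (((d ^ k)⁻¹ : (AddMonoid.End M)ˣ) : AddMonoid.End M) u) h6
    simp only [einv', map_zero] at h7
    exact sub_eq_zero.1 h7
  have heq : d₁ = d := by
    apply Units.ext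
    exact AddMonoidHom.ext hF0
  rw [heq] at hd₁'
  have h8 : d * x = x * d * x⁻¹ * x := by rw [← hd₁']
  rw [h8]
  group

end quad

end Cfsg.Agent.Lib.helper57
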