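import Mathlib
import Cfsg.Agent.Lib.helper57.Quadratic
import Cfsg.Agent.Lib.helper14.PStable

/-!
# Quadratic elements centralize the abelian `p'`-groups they normalize (group form)
-/

set_option autoImplicit false

namespace Cfsg.Agent.Lib.helper57

open scoped commutatorElement

theorem eq_one_of_conj_eq_mul {U : Type*} [Group U] (X A Δ : U) (h1 : X * A * X⁻¹ = A * Δ)
    (h2 : X * Δ = Δ * X) (n m : ℕ) (hX : X ^ n = 1) (hΔ : Δ ^ m = 1) (hnm : Nat.Coprime n m) : Δ = 1 := by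
  have hc : Commute X Δ := h2
  have key : ∀ k : ℕ, X ^ k * A * (X ^ k)⁻¹ = A * Δ ^ k := by
    intro k
    induction k with
    | zero => simp
    | succ k ih =>
      have h3 : X * Δ ^ k * X⁻¹ = Δ ^ k := by
        rw [(hc.pow_right k).eq]; group
      calc X ^ (k + 1) * A * (X ^ (k + 1))⁻¹ = X * (X ^ k * A * (X ^ k)⁻¹) * X⁻¹ := by
            rw [pow_succ']; group
        _ = X * (A * Δ ^ k) * X⁻¹ := by rw [ih]
        _ = (X * A * X⁻¹) * (X * Δ ^ k * X⁻¹) := by group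
        _ = A * Δ ^ (k + 1) := by rw [h1, h3, pow_succ']; group
  have h4 := key n
  rw [hX] at h4
  have h5 : Δ ^ n = 1 := by
    have : A * Δ ^ n = A * 1 := by rw [← h4]; group
    exact mul_left_cancel this
  have h6 : orderOf Δ ∣ n := orderOf_dvd_of_pow_eq_one h5
  have h7 : orderOf Δ ∣ m := orderOf_dvd_of_pow_eq_one hΔ
  have h8 : orderOf Δ = 1 := Nat.Coprime.eq_one_of_dvd (Nat.Coprime.coprime_dvd_left h6 hnm) h7
  exact orderOf_eq_one_iff.1 h8

section action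

variable {Γ : Type*} [Group Γ]

open scoped IsMulCommutative in
/-- conjugation on an abelian normal subgroup, as additive endomorphisms -/
noncomputable def conjEnd (V : Subgroup Γ) [V.Normal] [IsMulCommutative V] :
    Γ →* AddMonoid.End (Additive ↥V) where
  toFun g := MonoidHom.toAdditive ((MulAut.conjNormal g : MulAut ↥V) : ↥V →* ↥V)
  map_one' := by
    apply AddMonoidHom.ext
    intro v
    show Additive.ofMul ((MulAut.conjNormal (1 : Γ) : MulAut ↥V) (Additive.toMul v)) = v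
    rw [map_one]
    rfl
  map_mul' g h := by
    apply AddMonoidHom.ext
    intro v
    show Additive.ofMul ((MulAut.conjNormal (g * h) : MulAut ↥V) (Additive.toMul v)) =
      Additive.ofMul ((MulAut.conjNormal g : MulAut ↥V) ((MulAut.conjNormal h : MulAut ↥V) (Additive.toMul v)))
    rw [map_mul]
    rfl

open scoped IsMulCommutative in
theorem conjEnd_apply (V : Subgroup Γ) [V.Normal] [IsMulCommutative V] (g : Γ) (v : ↥V) :
    conjEnd V g (Additive.ofMul v) = Additive.ofMul (MulAut.conjNormal g v) := rfl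

open scoped IsMulCommutative in
/-- a quadratically acting element centralizes, modulo `C(V)`, every subgroup `L` it normalizes whose
image in `Aut(V)` is abelian of exponent prime to `p` (`V` an abelian normal `p`-subgroup, `p` odd) -/
theorem comm_mem_centralizer_of_quadratic [Finite Γ] {p : ℕ} [Fact p.Prime] (hp : p ≠ 2)
    (V : Subgroup Γ) [hVn : V.Normal] [hVc : IsMulCommutative V] (hVp : IsPGroup p V)
    (x : Γ) (hx : ⁅⁅V, Subgroup.zpowers x⁆, Subgroup.zpowers x⁆ = ⊥)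
    (L : Subgroup Γ) (hxL : ∀ l ∈ L, x * l * x⁻¹ ∈ L)
    (hLc : ∀ l ∈ L, ∀ l' ∈ L, ⁅l, l'⁆ ∈ Subgroup.centralizer (V : Set Γ))
    (m : ℕ) (hm0 : 0 < m) (hm : m.Coprime p)
    (hLm : ∀ l ∈ L, l ^ m ∈ Subgroup.centralizer (V : Set Γ)) :
    ∀ l ∈ L, x * l * x⁻¹ * l⁻¹ ∈ Subgroup.centralizer (V : Set Γ) := by
  have hker : ∀ g : Γ, g ∈ Subgroup.centralizer (V : Set Γ) → (conjEnd V).toHomUnits g = 1 := by
    intro g hg
    apply Units.ext
    rw [MonoidHom.coe_toHomUnits]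
    apply AddMonoidHom.ext
    intro w
    show conjEnd V g (Additive.ofMul (Additive.toMul w)) = w
    rw [conjEnd_apply]
    have : MulAut.conjNormal g (Additive.toMul w) = Additive.toMul w := by
      apply Subtype.ext
      rw [MulAut.conjNormal_apply]
      have := Subgroup.mem_centralizer_iff.1 hg _ (Additive.toMul w).2
      rw [← this]; group
    rw [this]
    rfl
  have hker' : ∀ g : Γ, (conjEnd V).toHomUnits g = 1 → g ∈ Subgroup.centralizer (V : Set Γ) := by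
    intro g hg
    rw [Subgroup.mem_centralizer_iff]
    intro v hv
    have h1 := congrArg Units.val hg
    rw [MonoidHom.coe_toHomUnits] at h1
    have h2 := DFunLike.congr_fun h1 (Additive.ofMul (⟨v, hv⟩ : ↥V))
    rw [conjEnd_apply] at h2
    have h3 : MulAut.conjNormal g (⟨v, hv⟩ : ↥V) = ⟨v, hv⟩ := h2
    have h4 := congrArg Subtype.val h3
    rw [MulAut.conjNormal_apply] at h4
    have h5 : g * v * g⁻¹ = v := h4
    calc v * g = (g * v * g⁻¹) * g := by rw [h5]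
      _ = g * v := by group
  -- the quadratic identity
  have hq : ∀ w : Additive ↥V, (((conjEnd V).toHomUnits x : (AddMonoid.End (Additive ↥V))ˣ) :
      AddMonoid.End (Additive ↥V)) ((((conjEnd V).toHomUnits x : (AddMonoid.End (Additive ↥V))ˣ) :
      AddMonoid.End (Additive ↥V)) w) =
      2 • (((conjEnd V).toHomUnits x : (AddMonoid.End (Additive ↥V))ˣ) :
        AddMonoid.End (Additive ↥V)) w - w := by
    intro w
    rw [MonoidHom.coe_toHomUnits]
    show conjEnd V x (conjEnd V x (Additive.ofMul (Additive.toMul w))) =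
      2 • conjEnd V x (Additive.ofMul (Additive.toMul w)) - Additive.ofMul (Additive.toMul w)
    generalize Additive.toMul w = v
    rw [conjEnd_apply, conjEnd_apply, ← ofMul_pow, ← ofMul_div]
    congr 1
    apply Subtype.ext
    have hu1 : ⁅(v : Γ), x⁆ ∈ ⁅V, Subgroup.zpowers x⁆ :=
      Subgroup.commutator_mem_commutator v.2 (Subgroup.mem_zpowers x)
    have hu : ⁅⁅(v : Γ), x⁆, x⁆ = 1 := by
      have : ⁅⁅(v : Γ), x⁆, x⁆ ∈ ⁅⁅V, Subgroup.zpowers x⁆, Subgroup.zpowers x⁆ :=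
        Subgroup.commutator_mem_commutator hu1 (Subgroup.mem_zpowers x)
      rw [hx] at this
      exact Subgroup.mem_bot.1 this
    rw [commutatorElement_def, commutatorElement_def] at hu
    have h1 : x * ((v : Γ) * x * (v : Γ)⁻¹ * x⁻¹)⁻¹ * x⁻¹ = ((v : Γ) * x * (v : Γ)⁻¹ * x⁻¹)⁻¹ := by
      calc x * ((v : Γ) * x * (v : Γ)⁻¹ * x⁻¹)⁻¹ * x⁻¹
          = ((v : Γ) * x * (v : Γ)⁻¹ * x⁻¹)⁻¹ * (((v : Γ) * x * (v : Γ)⁻¹ * x⁻¹) * x *
              ((v : Γ) * x * (v : Γ)⁻¹ * x⁻¹)⁻¹ * x⁻¹) := by group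
        _ = ((v : Γ) * x * (v : Γ)⁻¹ * x⁻¹)⁻¹ := by rw [hu, mul_one]
    have h2 : x * (x * (v : Γ) * x⁻¹) * x⁻¹ = (x * (v : Γ) * x⁻¹) * (v : Γ)⁻¹ * (x * (v : Γ) * x⁻¹) := by
      calc x * (x * (v : Γ) * x⁻¹) * x⁻¹
          = (x * ((v : Γ) * x * (v : Γ)⁻¹ * x⁻¹)⁻¹ * x⁻¹) * ((v : Γ) * x * (v : Γ)⁻¹ * x⁻¹) *
              ((x * (v : Γ) * x⁻¹) * (v : Γ)⁻¹ * (x * (v : Γ) * x⁻¹)) := by group
        _ = ((v : Γ) * x * (v : Γ)⁻¹ * x⁻¹)⁻¹ * ((v : Γ) * x * (v : Γ)⁻¹ * x⁻¹) *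
              ((x * (v : Γ) * x⁻¹) * (v : Γ)⁻¹ * (x * (v : Γ) * x⁻¹)) := by rw [h1]
        _ = (x * (v : Γ) * x⁻¹) * (v : Γ)⁻¹ * (x * (v : Γ) * x⁻¹) := by group
    have hcV : (v : Γ)⁻¹ * (x * (v : Γ) * x⁻¹) = (x * (v : Γ) * x⁻¹) * (v : Γ)⁻¹ := by
      have := mul_comm' (v⁻¹ : ↥V) (MulAut.conjNormal x v)
      have := congrArg Subtype.val this
      simpa [MulAut.conjNormal_apply] using this
    have e : (((MulAut.conjNormal x v) ^ 2 / v : ↥V) : Γ) =
        (x * (v : Γ) * x⁻¹) * (x * (v : Γ) * x⁻¹) * (v : Γ)⁻¹ := by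
      rw [div_eq_mul_inv, pow_two, Subgroup.coe_mul, Subgroup.coe_mul, Subgroup.coe_inv,
        MulAut.conjNormal_apply]
    rw [e, MulAut.conjNormal_apply, MulAut.conjNormal_apply, h2, mul_assoc, hcV, ← mul_assoc]
  -- torsion facts on V
  have htor : ∀ (n : ℕ), n.Coprime p → ∀ w : Additive ↥V, n • w = 0 → w = 0 := by
    intro n hn w hw
    have hv1 : (Additive.toMul w) ^ n = 1 := hw
    obtain ⟨k, hk⟩ := hVp (Additive.toMul w)
    have h3 := pow_gcd_eq_one.2 ⟨hv1, hk⟩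
    have h4 : n.gcd (p ^ k) = 1 := Nat.Coprime.pow_right k hn
    rw [h4, pow_one] at h3
    exact h3
  have h2p : (2 : ℕ).Coprime p := (Nat.coprime_primes Nat.prime_two Fact.out).2 (Ne.symm hp)
  have hcommL : ∀ l ∈ L, ∀ l' ∈ L, Commute ((conjEnd V).toHomUnits l) ((conjEnd V).toHomUnits l') := by
    intro l hl l' hl'
    rw [← commutatorElement_eq_one_iff_commute, ← map_commutatorElement]
    exact hker _ (hLc l hl l' hl')
  have hXn : ((conjEnd V).toHomUnits x) ^ Nat.card V = 1 := by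
    rw [← map_pow]
    exact hker _ (Cfsg.Agent.Lib.helper14.pow_card_mem_centralizer_of_quadratic V x hx)
  obtain ⟨j, hj⟩ := IsPGroup.iff_card.1 hVp
  intro l hl
  have hl₁ : x * l * x⁻¹ ∈ L := hxL l hl
  have hl₂ : x * (x * l * x⁻¹) * x⁻¹ ∈ L := hxL _ hl₁
  have e1 : (conjEnd V).toHomUnits x * (conjEnd V).toHomUnits l * ((conjEnd V).toHomUnits x)⁻¹ =
      (conjEnd V).toHomUnits (x * l * x⁻¹) := by
    simp only [map_mul, map_inv]
  have e2 : (conjEnd V).toHomUnits x * (conjEnd V).toHomUnits (x * l * x⁻¹) *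
      ((conjEnd V).toHomUnits x)⁻¹ = (conjEnd V).toHomUnits (x * (x * l * x⁻¹) * x⁻¹) := by
    simp only [map_mul, map_inv]
  have hdm : (((conjEnd V).toHomUnits l)⁻¹ * ((conjEnd V).toHomUnits x * (conjEnd V).toHomUnits l *
      ((conjEnd V).toHomUnits x)⁻¹)) ^ m = 1 := by
    rw [e1, ← map_inv, ← map_mul, ← map_pow]
    exact hker _ (hLm _ (L.mul_mem (L.inv_mem hl) hl₁))
  have hqc := quad_commute ((conjEnd V).toHomUnits x) ((conjEnd V).toHomUnits l) hq
    (by rw [e1]; exact hcommL l hl _ hl₁)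
    (by rw [e1, e2]; exact hcommL l hl _ hl₂)
    (by rw [e1, e2]; exact hcommL _ hl₁ _ hl₂)
    m hm0 hdm (htor m hm) (htor 2 h2p)
  have hΔ := eq_one_of_conj_eq_mul ((conjEnd V).toHomUnits x) ((conjEnd V).toHomUnits l)
    (((conjEnd V).toHomUnits l)⁻¹ * ((conjEnd V).toHomUnits x * (conjEnd V).toHomUnits l *
      ((conjEnd V).toHomUnits x)⁻¹)) (by group) hqc (Nat.card V) m hXn hdm
    (by rw [hj]; exact (Nat.Coprime.pow_right j hm).symm)
  apply hker'
  have e3 : (conjEnd V).toHomUnits (x * l * x⁻¹ * l⁻¹) =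
      (conjEnd V).toHomUnits l * (((conjEnd V).toHomUnits l)⁻¹ * ((conjEnd V).toHomUnits x *
        (conjEnd V).toHomUnits l * ((conjEnd V).toHomUnits x)⁻¹)) * ((conjEnd V).toHomUnits l)⁻¹ := by
    rw [map_mul, map_mul, map_mul, map_inv, map_inv]
    group
  rw [e3, hΔ, mul_one, mul_inv_cancel]

end action

end Cfsg.Agent.Lib.helper57
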