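import Mathlib
import Cfsg.Agent.Lib.helper57.QuadraticAction
import Cfsg.Agent.Lib.helper14.PStable
import Cfsg.Agent.Lib.helper1.PGroup
import Cfsg.Agent.Lib.helper39.Sections

/-!
# `p`-stability of the minimal configuration

`G = L·P` with `H ≤ L` normal subgroups, `H` a `p`-group, `L / H` abelian of exponent prime to `p`,
`P` a `p`-subgroup, `p` odd.  Then every normal subgroup `B ≤ H` of `G` is `p`-stable
(`Cfsg.IsPStableOn p B`): a quadratically acting element lies in a normal subgroup whose image in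
`G / C_G(B)` is a `p`-group.  No Dickson / `SL(2,p)` argument: induction on `|B|` through `⁅B, H⁆`
and the quadratic-action lemma `comm_mem_centralizer_of_quadratic`.
-/

set_option autoImplicit false

namespace Cfsg.Agent.Lib.helper57

open scoped commutatorElement

section

variable {G : Type*} [Group G]

/-- conjugates of a quadratic element are quadratic (on a normal subgroup) -/
theorem quadratic_conj {B : Subgroup G} [hB : B.Normal] {a : G}
    (ha : ⁅⁅B, Subgroup.zpowers a⁆, Subgroup.zpowers a⁆ = ⊥) (g : G) :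
    ⁅⁅B, Subgroup.zpowers (g * a * g⁻¹)⁆, Subgroup.zpowers (g * a * g⁻¹)⁆ = ⊥ := by
  have h1 : B.map (MulAut.conj g).toMonoidHom = B := by
    ext x
    constructor
    · rintro ⟨y, hy, rfl⟩
      exact hB.conj_mem y hy g
    · intro hx
      refine ⟨g⁻¹ * x * g, ?_, ?_⟩
      · have := hB.conj_mem x hx g⁻¹
        simpa using this
      · simp [MulAut.conj_apply, mul_assoc]
  have h2 : (Subgroup.zpowers a).map (MulAut.conj g).toMonoidHom = Subgroup.zpowers (g * a * g⁻¹) := by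
    rw [MonoidHom.map_zpowers]; rfl
  have h3 : ⁅⁅B, Subgroup.zpowers (g * a * g⁻¹)⁆, Subgroup.zpowers (g * a * g⁻¹)⁆ =
      (⁅⁅B, Subgroup.zpowers a⁆, Subgroup.zpowers a⁆).map (MulAut.conj g).toMonoidHom := by
    rw [Subgroup.map_commutator, Subgroup.map_commutator, h1, h2]
  rw [h3, ha, Subgroup.map_bot]

theorem commutator_centralizer_eq_bot (B : Subgroup G) :
    ⁅B, Subgroup.centralizer (B : Set G)⁆ = ⊥ := by
  rw [eq_bot_iff, Subgroup.commutator_le]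
  intro u hu c hc
  rw [Subgroup.mem_bot, commutatorElement_eq_one_iff_commute]
  exact Subgroup.mem_centralizer_iff.1 hc u hu

/-- the elementary form of `p`-stability in the minimal configuration -/
theorem exists_normal_of_quadratic [Finite G] {p : ℕ} [Fact p.Prime] (hp : p ≠ 2)
    (H : Subgroup G) [hHn : H.Normal] (hHp : IsPGroup p H)
    (L : Subgroup G) [hLn : L.Normal]
    (hLc : ∀ l ∈ L, ∀ l' ∈ L, ⁅l, l'⁆ ∈ H)
    (m : ℕ) (hm0 : 0 < m) (hm : m.Coprime p) (hLm : ∀ l ∈ L, l ^ m ∈ H)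
    (P : Subgroup G) (hPp : IsPGroup p P) (hLP : ∀ g : G, ∃ l ∈ L, ∃ y ∈ P, g = l * y) :
    ∀ (n : ℕ) (B : Subgroup G), B.Normal → B ≤ H → Nat.card B = n → ∀ a : G,
      ⁅⁅B, Subgroup.zpowers a⁆, Subgroup.zpowers a⁆ = ⊥ →
      ∃ X : Subgroup G, X.Normal ∧ a ∈ X ∧
        ∀ g ∈ X, ∃ k : ℕ, g ^ (p ^ k) ∈ Subgroup.centralizer (B : Set G) := by
  intro n
  induction n using Nat.strong_induction_on with
  | _ n ih =>
  intro B hBn hBH hcard a ha
  by_cases hB1 : B = ⊥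
  · subst hB1
    refine ⟨⊤, inferInstance, Subgroup.mem_top a, fun g _ => ⟨0, ?_⟩⟩
    rw [Subgroup.mem_centralizer_iff]
    intro h hh
    have : h = 1 := by simpa using hh
    subst this; simp
  have hBp : IsPGroup p B := hHp.to_le hBH
  have hB₁le : ⁅B, H⁆ ≤ B := Subgroup.commutator_le_left B H
  have hB₁ne : ⁅B, H⁆ ≠ B := Cfsg.Agent.Lib.helper1.pgroup_commutator_ne B H hBp hHp
    (by rw [Subgroup.normalizer_eq_top_iff.2 hBn]; exact le_top) hB1
  have hB₁n : (⁅B, H⁆ : Subgroup G).Normal := Subgroup.commutator_normal B H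
  have hlt : Nat.card ↥⁅B, H⁆ < Nat.card B := by
    refine lt_of_le_of_ne (Nat.le_of_dvd Nat.card_pos (Subgroup.card_dvd_of_le hB₁le)) ?_
    intro heq
    exact hB₁ne (Subgroup.eq_of_le_of_card_ge hB₁le heq.ge)
  have ha₁ : ⁅⁅⁅B, H⁆, Subgroup.zpowers a⁆, Subgroup.zpowers a⁆ = ⊥ := by
    rw [eq_bot_iff, ← ha]
    exact Subgroup.commutator_mono (Subgroup.commutator_mono hB₁le le_rfl) le_rfl
  obtain ⟨X₁, hX₁n, haX₁, hX₁⟩ := ih _ (hcard ▸ hlt) ⁅B, H⁆ hB₁n (hB₁le.trans hBH) rfl a ha₁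
  -- the quotient by `B₁ = ⁅B, H⁆`
  have hπ : Function.Surjective (QuotientGroup.mk' ⁅B, H⁆) := QuotientGroup.mk'_surjective _
  have hVn : (B.map (QuotientGroup.mk' ⁅B, H⁆)).Normal := hBn.map _ hπ
  have hVp : IsPGroup p ↥(B.map (QuotientGroup.mk' ⁅B, H⁆)) := hBp.map _
  have hVc : IsMulCommutative ↥(B.map (QuotientGroup.mk' ⁅B, H⁆)) := by
    refine ⟨⟨?_⟩⟩
    rintro ⟨_, b, hb, rfl⟩ ⟨_, b', hb', rfl⟩
    apply Subtype.ext
    show (QuotientGroup.mk' ⁅B, H⁆) b * (QuotientGroup.mk' ⁅B, H⁆) b' =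
      (QuotientGroup.mk' ⁅B, H⁆) b' * (QuotientGroup.mk' ⁅B, H⁆) b
    rw [← map_mul, ← map_mul]
    apply QuotientGroup.eq.2
    have e : (b * b')⁻¹ * (b' * b) = ⁅b'⁻¹, b⁻¹⁆ := by rw [commutatorElement_def]; group
    rw [e]
    exact Subgroup.commutator_mem_commutator (B.inv_mem hb') (H.inv_mem (hBH hb))
  -- `K₁`: the kernel of the action on `B / B₁`
  have hK₁n : ((Subgroup.centralizer ((B.map (QuotientGroup.mk' ⁅B, H⁆) : Subgroup (G ⧸ ⁅B, H⁆)) :
      Set (G ⧸ ⁅B, H⁆))).comap (QuotientGroup.mk' ⁅B, H⁆)).Normal := by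
    infer_instance
  have hHK₁ : H ≤ (Subgroup.centralizer ((B.map (QuotientGroup.mk' ⁅B, H⁆) : Subgroup (G ⧸ ⁅B, H⁆)) :
      Set (G ⧸ ⁅B, H⁆))).comap (QuotientGroup.mk' ⁅B, H⁆) := by
    intro h hh
    rw [Subgroup.mem_comap, Subgroup.mem_centralizer_iff]
    rintro _ ⟨b, hb, rfl⟩
    rw [← map_mul, ← map_mul]
    apply QuotientGroup.eq.2
    have e : (b * h)⁻¹ * (h * b) = ⁅h⁻¹, b⁻¹⁆ := by rw [commutatorElement_def]; group
    rw [e, Subgroup.commutator_comm]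
    exact Subgroup.commutator_mem_commutator (H.inv_mem hh) (B.inv_mem hb)
  have hCK₁ : Subgroup.centralizer (B : Set G) ≤
      (Subgroup.centralizer ((B.map (QuotientGroup.mk' ⁅B, H⁆) : Subgroup (G ⧸ ⁅B, H⁆)) :
      Set (G ⧸ ⁅B, H⁆))).comap (QuotientGroup.mk' ⁅B, H⁆) := by
    intro c hc
    rw [Subgroup.mem_comap, Subgroup.mem_centralizer_iff]
    rintro _ ⟨b, hb, rfl⟩
    rw [← map_mul, ← map_mul, Subgroup.mem_centralizer_iff.1 hc b hb]
  generalize hK₁def : (Subgroup.centralizer ((B.map (QuotientGroup.mk' ⁅B, H⁆) :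
      Subgroup (G ⧸ ⁅B, H⁆)) : Set (G ⧸ ⁅B, H⁆))).comap (QuotientGroup.mk' ⁅B, H⁆) = K₁
    at hK₁n hHK₁ hCK₁
  have hmemK₁ : ∀ x : G, x ∈ K₁ ↔ (QuotientGroup.mk' ⁅B, H⁆) x ∈
      Subgroup.centralizer ((B.map (QuotientGroup.mk' ⁅B, H⁆) : Subgroup (G ⧸ ⁅B, H⁆)) :
      Set (G ⧸ ⁅B, H⁆)) := by
    intro x; rw [← hK₁def, Subgroup.mem_comap]
  -- quadratic elements centralize `L` modulo `K₁`
  have key : ∀ a' : G, ⁅⁅B, Subgroup.zpowers a'⁆, Subgroup.zpowers a'⁆ = ⊥ →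
      ∀ l ∈ L, a' * l * a'⁻¹ * l⁻¹ ∈ K₁ := by
    intro a' ha' l hl
    have hx : ⁅⁅B.map (QuotientGroup.mk' ⁅B, H⁆),
        Subgroup.zpowers ((QuotientGroup.mk' ⁅B, H⁆) a')⁆,
        Subgroup.zpowers ((QuotientGroup.mk' ⁅B, H⁆) a')⁆ = ⊥ := by
      have e : Subgroup.zpowers ((QuotientGroup.mk' ⁅B, H⁆) a') =
          (Subgroup.zpowers a').map (QuotientGroup.mk' ⁅B, H⁆) :=
        (MonoidHom.map_zpowers _ a').symm
      rw [e, ← Subgroup.map_commutator, ← Subgroup.map_commutator, ha', Subgroup.map_bot]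
    have h1 := comm_mem_centralizer_of_quadratic hp (B.map (QuotientGroup.mk' ⁅B, H⁆)) hVp
      ((QuotientGroup.mk' ⁅B, H⁆) a') hx (L.map (QuotientGroup.mk' ⁅B, H⁆)) ?_ ?_ m hm0 hm ?_
      ((QuotientGroup.mk' ⁅B, H⁆) l) (Subgroup.mem_map_of_mem _ hl)
    · rw [hmemK₁]
      simpa using h1
    · rintro _ ⟨l₁, hl₁, rfl⟩
      exact ⟨a' * l₁ * a'⁻¹, hLn.conj_mem l₁ hl₁ a', by simp⟩
    · rintro _ ⟨l₁, hl₁, rfl⟩ _ ⟨l₂, hl₂, rfl⟩
      rw [← map_commutatorElement, ← hmemK₁]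
      exact hHK₁ (hLc l₁ hl₁ l₂ hl₂)
    · rintro _ ⟨l₁, hl₁, rfl⟩
      rw [← map_pow, ← hmemK₁]
      exact hHK₁ (hLm l₁ hl₁)
  have hρ : ∀ x : G, (QuotientGroup.mk' K₁) x = 1 ↔ x ∈ K₁ := fun x => QuotientGroup.eq_one_iff x
  have hPpow : ∀ y ∈ P, y ^ Nat.card P = 1 := by
    intro y hy
    have h := pow_card_eq_one' (G := P) (x := ⟨y, hy⟩)
    have h' := congrArg Subtype.val h
    rwa [Subgroup.coe_pow, Subgroup.coe_one] at h'
  obtain ⟨nB, hnB⟩ := IsPGroup.iff_card.1 hBp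
  obtain ⟨nP, hnP⟩ := IsPGroup.iff_card.1 hPp
  -- every conjugate of `a` lies in `K₁ ⊔ P`
  have hconj : ∀ g : G, g * a * g⁻¹ ∈ K₁ ⊔ P := by
    intro g
    have ha' := quadratic_conj ha g
    obtain ⟨l, hl, y, hy, hly⟩ := hLP (g * a * g⁻¹)
    have h1 := key _ ha' l hl
    generalize g * a * g⁻¹ = a' at ha' hly h1
    have h2 : (QuotientGroup.mk' K₁) a' * (QuotientGroup.mk' K₁) l =
        (QuotientGroup.mk' K₁) l * (QuotientGroup.mk' K₁) a' := by
      have h := (hρ _).2 h1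
      rw [map_mul, map_mul, map_mul, map_inv, map_inv] at h
      calc (QuotientGroup.mk' K₁) a' * (QuotientGroup.mk' K₁) l
          = ((QuotientGroup.mk' K₁) a' * (QuotientGroup.mk' K₁) l * ((QuotientGroup.mk' K₁) a')⁻¹ *
              ((QuotientGroup.mk' K₁) l)⁻¹) * ((QuotientGroup.mk' K₁) l * (QuotientGroup.mk' K₁) a') := by
            group
        _ = (QuotientGroup.mk' K₁) l * (QuotientGroup.mk' K₁) a' := by rw [h, one_mul]
    have h3 : (QuotientGroup.mk' K₁) a' = (QuotientGroup.mk' K₁) l * (QuotientGroup.mk' K₁) y := by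
      rw [← map_mul, ← hly]
    have h4 : Commute ((QuotientGroup.mk' K₁) l) ((QuotientGroup.mk' K₁) y) := by
      rw [h3] at h2
      show (QuotientGroup.mk' K₁) l * (QuotientGroup.mk' K₁) y =
        (QuotientGroup.mk' K₁) y * (QuotientGroup.mk' K₁) l
      have := congrArg (fun t => ((QuotientGroup.mk' K₁) l)⁻¹ * t) h2
      simp only [mul_assoc, inv_mul_cancel_left] at this
      exact this.symm
    have h5 : ((QuotientGroup.mk' K₁) a') ^ (Nat.card B) = 1 := by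
      rw [← map_pow]
      exact (hρ _).2 (hCK₁ (Cfsg.Agent.Lib.helper14.pow_card_mem_centralizer_of_quadratic B a' ha'))
    have h6 : ((QuotientGroup.mk' K₁) y) ^ (Nat.card P) = 1 := by
      rw [← map_pow, hPpow y hy, map_one]
    have h7 : ((QuotientGroup.mk' K₁) l) ^ (Nat.card B * Nat.card P) = 1 := by
      have h8 := h4.mul_pow (Nat.card B * Nat.card P)
      rw [← h3, pow_mul, h5, one_pow, mul_comm (Nat.card B), pow_mul ((QuotientGroup.mk' K₁) y), h6,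
        one_pow, mul_one] at h8
      rw [mul_comm]
      exact h8.symm
    have h9 : ((QuotientGroup.mk' K₁) l) ^ m = 1 := by
      rw [← map_pow]; exact (hρ _).2 (hHK₁ (hLm l hl))
    have h10 : (QuotientGroup.mk' K₁) l = 1 := by
      have hcop : Nat.Coprime (Nat.card B * Nat.card P) m := by
        rw [hnB, hnP, ← pow_add]
        exact Nat.Coprime.pow_left _ hm.symm
      have h11 : ((QuotientGroup.mk' K₁) l) ^ (Nat.gcd (Nat.card B * Nat.card P) m) = 1 :=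
        pow_gcd_eq_one.2 ⟨h7, h9⟩
      rw [hcop.gcd_eq_one, pow_one] at h11
      exact h11
    rw [hly]
    exact Subgroup.mul_mem _ (Subgroup.mem_sup_left ((hρ l).1 h10)) (Subgroup.mem_sup_right hy)
  have hNC : Subgroup.normalClosure ({a} : Set G) ≤ K₁ ⊔ P := by
    unfold Subgroup.normalClosure
    rw [Subgroup.closure_le]
    intro x hx
    rw [SetLike.mem_coe]
    rw [Group.mem_conjugatesOfSet_iff] at hx
    obtain ⟨a₀, ha₀, hc⟩ := hx
    rw [Set.mem_singleton_iff] at ha₀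
    subst ha₀
    obtain ⟨c, hc⟩ := isConj_iff.1 hc
    rw [← hc]; exact hconj c
  have hsup : ∀ g ∈ K₁ ⊔ P, g ^ (Nat.card P) ∈ K₁ := by
    intro g hg
    obtain ⟨k, hk, y, hy, rfl⟩ := Subgroup.mem_sup_of_normal_left.1 hg
    rw [← hρ, map_pow, map_mul, (hρ k).2 hk, one_mul, ← map_pow, hPpow y hy, map_one]
  refine ⟨X₁ ⊓ Subgroup.normalClosure {a}, inferInstance,
    ⟨haX₁, Subgroup.subset_normalClosure (Set.mem_singleton a)⟩, ?_⟩
  rintro g ⟨hg1, hg2⟩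
  obtain ⟨k₁, hk₁⟩ := hX₁ g hg1
  have h1 : g ^ (p ^ nP) ∈ K₁ := hnP ▸ hsup g (hNC hg2)
  have h2 : g ^ (p ^ (k₁ + nP)) ∈ K₁ := by
    rw [pow_add, pow_mul']; exact K₁.pow_mem h1 _
  have h3 : g ^ (p ^ (k₁ + nP)) ∈ Subgroup.centralizer ((⁅B, H⁆ : Subgroup G) : Set G) := by
    rw [pow_add, pow_mul]; exact Subgroup.pow_mem _ hk₁ _
  have h4 : ⁅⁅B, Subgroup.zpowers (g ^ (p ^ (k₁ + nP)))⁆, Subgroup.zpowers (g ^ (p ^ (k₁ + nP)))⁆ = ⊥ := by
    generalize g ^ (p ^ (k₁ + nP)) = g' at h2 h3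
    have hz1 : Subgroup.zpowers g' ≤ K₁ := (Subgroup.zpowers_le).2 h2
    have hz2 : Subgroup.zpowers g' ≤ Subgroup.centralizer ((⁅B, H⁆ : Subgroup G) : Set G) :=
      (Subgroup.zpowers_le).2 h3
    have h5 : ⁅B, Subgroup.zpowers g'⁆ ≤ ⁅B, H⁆ := by
      rw [Subgroup.commutator_le]
      intro b hb z hz
      have hz' := (hmemK₁ z).1 (hz1 hz)
      have h6 : (QuotientGroup.mk' ⁅B, H⁆) ⁅b, z⁆ = 1 := by
        rw [map_commutatorElement, commutatorElement_eq_one_iff_commute]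
        exact Subgroup.mem_centralizer_iff.1 hz' _ (Subgroup.mem_map_of_mem _ hb)
      exact (QuotientGroup.eq_one_iff _).1 h6
    rw [eq_bot_iff]
    calc ⁅⁅B, Subgroup.zpowers g'⁆, Subgroup.zpowers g'⁆
        ≤ ⁅⁅B, H⁆, Subgroup.centralizer ((⁅B, H⁆ : Subgroup G) : Set G)⁆ :=
          Subgroup.commutator_mono h5 hz2
      _ = ⊥ := commutator_centralizer_eq_bot _
  have h6 := Cfsg.Agent.Lib.helper14.pow_card_mem_centralizer_of_quadratic B _ h4
  refine ⟨k₁ + nP + nB, ?_⟩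
  rw [pow_add, pow_mul, ← hnB]; exact h6

/-- **`p`-stability of the minimal configuration.**  `H ⊴ G` a `p`-group, `L ⊴ G` with `L / H` abelian
of exponent prime to `p` (`⁅L, L⁆ ≤ H`, `L ^ m ≤ H`), `G = L·P` with `P` a `p`-subgroup, `p` odd: every
normal subgroup `B ≤ H` is `p`-stable. -/
theorem isPStableOn_of_abelian_pprime_section [Finite G] {p : ℕ} [Fact p.Prime] (hp : p ≠ 2)
    (H : Subgroup G) [hHn : H.Normal] (hHp : IsPGroup p H)
    (L : Subgroup G) [hLn : L.Normal]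
    (hLc : ∀ l ∈ L, ∀ l' ∈ L, ⁅l, l'⁆ ∈ H)
    (m : ℕ) (hm0 : 0 < m) (hm : m.Coprime p) (hLm : ∀ l ∈ L, l ^ m ∈ H)
    (P : Subgroup G) (hPp : IsPGroup p P) (hLP : ∀ g : G, ∃ l ∈ L, ∃ y ∈ P, g = l * y)
    (B : Subgroup G) [hBn : B.Normal] (hBH : B ≤ H) : Cfsg.IsPStableOn p B := by
  intro a ha
  obtain ⟨X, hXn, haX, hX⟩ := exists_normal_of_quadratic hp H hHp L hLc m hm0 hm hLm P hPp hLP _ B
    hBn hBH rfl a ha
  have hn : (X.map (QuotientGroup.mk' (Subgroup.centralizer (B : Set G)))).Normal :=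
    hXn.map _ (QuotientGroup.mk'_surjective _)
  have hpg : IsPGroup p ↥(X.map (QuotientGroup.mk' (Subgroup.centralizer (B : Set G)))) := by
    rintro ⟨_, g, hg, rfl⟩
    obtain ⟨k, hk⟩ := hX g hg
    refine ⟨k, Subtype.ext ?_⟩
    show ((QuotientGroup.mk' (Subgroup.centralizer (B : Set G))) g) ^ (p ^ k) = 1
    rw [← map_pow]; exact (QuotientGroup.eq_one_iff _).2 hk
  exact Cfsg.Agent.Lib.helper39.le_pCore hn hpg (Subgroup.mem_map_of_mem _ haX)

end

end Cfsg.Agent.Lib.helper57
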