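import Mathlib
import Cfsg.Agent.Lib.helper57.PStableSolv
import Cfsg.Agent.Lib.helper57.ZJStrong
import Cfsg.Agent.Lib.helper57.PPrimeQuot
import Cfsg.Agent.Lib.helper57.FusionZJ
import Cfsg.Agent.Lib.helper40.ThompsonW
import Cfsg.Agent.Lib.helper37.CoprimeGen

/-!
# The Glauberman–Thompson normal `p`-complement theorem for strongly closed subgroups

`p` odd, `P` a Sylow `p`-subgroup of the finite group `G`, `D ≤ P` strongly closed in `P` with respect to
`G`.  If `N_G(zjE e D)` has a normal `p`-complement (`e = 0`: `Z(J(D))`; `e = p`: `Ω₁(Z(J_e(D)))`), then so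
does `G`.  The minimal-counterexample reduction is helper40's `thompson_reduction`; the endgame uses
the `p`-stability of the minimal configuration (`isPStableOn_of_abelian_pprime_section`) and the
`ZJ`-theorem for strongly closed subgroups (`zjE_normal_of_isStronglyClosed`).
-/

set_option autoImplicit false

namespace Cfsg.Agent.Lib.helper57

open Cfsg Cfsg.Agent.Lib.helper14 Cfsg.Agent.Lib.helper40
open scoped commutatorElement

universe u

/-- the local hypothesis: every Sylow `p`-subgroup `S` has a strongly closed subgroup `D` such that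
`N_X(zjE e D)` has a normal `p`-complement -/
def HypD (p e : ℕ) (X : Type u) [Group X] : Prop :=
  ∀ S : Sylow p X, ∃ D : Subgroup X, IsStronglyClosed D (S : Subgroup X) ∧
    HasNormalPComplement p ↥(Subgroup.normalizer ((zjE e D : Subgroup X) : Set X))

section

variable {p : ℕ} [Fact p.Prime] {e : ℕ}

theorem hypD_toSub {X : Type u} [Group X] [Finite X] (h : HypD p e X) (S : Sylow p X)
    (M : Subgroup X) (hSM : (S : Subgroup X) ≤ M) : HypD p e ↥M := by
  intro T'
  obtain ⟨T, hT⟩ := exists_sylow_map_subtype S hSM T'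
  obtain ⟨D, hD, hN⟩ := h T
  have hDM : D ≤ M := hD.1.trans (hT ▸ Subgroup.map_subtype_le _)
  refine ⟨D.subgroupOf M, ⟨?_, ?_⟩, ?_⟩
  · intro x hx
    have h1 : (x : X) ∈ (T : Subgroup X) := hD.1 (Subgroup.mem_subgroupOf.1 hx)
    rw [hT] at h1
    obtain ⟨y, hy, hyx⟩ := h1
    have h2 : y = x := Subtype.ext hyx
    exact h2 ▸ hy
  · intro x hx g hg
    rw [Subgroup.mem_subgroupOf]
    have h1 : ((g * x * g⁻¹ : ↥M) : X) ∈ (T : Subgroup X) := by
      rw [hT]; exact Subgroup.mem_map_of_mem _ hg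
    exact hD.2 (x : X) (Subgroup.mem_subgroupOf.1 hx) (g : X) h1
  · have h2 : (zjE e (D.subgroupOf M)).map M.subtype = zjE e D := by
      rw [← zjE_map_of_injective M.subtype_injective, Subgroup.map_subgroupOf_eq_of_le hDM]
    have h1 : PN p (Subgroup.normalizer ((zjE e D : Subgroup X) : Set X)) := pn_iff_hasNPC.2 hN
    apply h1.hasNPC_of_injective (M.subtype.comp (Subgroup.normalizer _).subtype)
      (M.subtype_injective.comp (Subgroup.subtype_injective _))
    intro y
    rw [← h2]
    exact Subgroup.le_normalizer_map _ (Subgroup.mem_map_of_mem _ y.2)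

theorem charIn_zjE {X : Type u} [Group X] [Finite X] (e : ℕ) (S : Subgroup X) :
    CharIn (zjE e S) S := by
  refine ⟨zjE_le e S, ?_⟩
  intro φ u hu
  have h0 : (⊤ : Subgroup ↥S).map S.subtype = S := by
    rw [← MonoidHom.range_eq_map, Subgroup.range_subtype]
  have h1 : zjE e S = (zjE e (⊤ : Subgroup ↥S)).map S.subtype := by
    rw [← zjE_map_of_injective (Subgroup.subtype_injective _), h0]
  have h3 : (⊤ : Subgroup ↥S).map φ.toMonoidHom = ⊤ := by
    rw [← MonoidHom.range_eq_map]; exact MonoidHom.range_eq_top.2 φ.surjective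
  have h2 : zjE e (⊤ : Subgroup ↥S) = (zjE e (⊤ : Subgroup ↥S)).map φ.toMonoidHom := by
    have := zjE_map e (⊤ : Subgroup ↥S) φ
    rwa [h3] at this
  rw [h1] at hu ⊢
  obtain ⟨w, hw, hwu⟩ := hu
  have h4 : w = u := Subtype.ext hwu
  subst h4
  refine ⟨φ w, ?_, rfl⟩
  rw [h2]; exact Subgroup.mem_map_of_mem _ hw

theorem hypD_ofLocal (he : e = 0 ∨ e = p) {X : Type u} [Group X] [Finite X]
    (hdvd : p ∣ Nat.card X)
    (h : ∀ (S : Sylow p X) (U : Subgroup X), U ≠ ⊥ → CharIn U (S : Subgroup X) →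
      HasNormalPComplement p ↥(Subgroup.normalizer (U : Set X))) : HypD p e X := by
  intro S
  refine ⟨S, ⟨le_rfl, fun x _ g hg => hg⟩, ?_⟩
  apply h S
  · have hne : (S : Subgroup X) ≠ ⊥ := S.ne_bot_of_dvd_card hdvd
    rcases he with rfl | rfl
    · exact zjE_zero_ne_bot S.isPGroup' hne
    · exact zjE_prime_ne_bot S.isPGroup' hne
  · exact charIn_zjE e _

theorem hypD_toQuot {X : Type u} [Group X] [Finite X] (h : HypD p e X) (D' : Subgroup X)
    [D'.Normal] (hD' : (Nat.card D').Coprime p) : HypD p e (X ⧸ D') := by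
  intro T'
  have hf : Function.Surjective (QuotientGroup.mk' D') := QuotientGroup.mk'_surjective D'
  obtain ⟨T, hT⟩ := Sylow.mapSurjective_surjective hf p T'
  have hT' : (T' : Subgroup (X ⧸ D')) = (T : Subgroup X).map (QuotientGroup.mk' D') := by
    rw [← hT]; exact Sylow.coe_mapSurjective hf T
  obtain ⟨D, hD, hN⟩ := h T
  refine ⟨D.map (QuotientGroup.mk' D'), ?_, ?_⟩
  · rw [hT']; exact isStronglyClosed_map_mk' D' hD' T.isPGroup' hD
  · have h2 := zjE_map_mk' e D' hD' T.isPGroup' hD.1
    have hVp : IsPGroup p (zjE e D) := T.isPGroup'.to_le ((zjE_le e D).trans hD.1)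
    have h3 := Cfsg.Agent.Lib.helper39.normalizer_map_le_of_pprime D' hD' hVp
    rw [← h2] at h3
    have h4 : HasNormalPComplement p ↥((Subgroup.normalizer ((zjE e D : Subgroup X) : Set X)).map
        (QuotientGroup.mk' D')) :=
      hasNPC_of_surjective ((QuotientGroup.mk' D').subgroupMap _)
        ((QuotientGroup.mk' D').subgroupMap_surjective _) hN
    exact pn_iff_hasNPC.1 ((pn_iff_hasNPC.2 h4).mono h3)

/-- The axioms of the Thompson reduction hold for `HypD p e`. -/
theorem redAx_hypD (he : e = 0 ∨ e = p) : RedAx.{u} p (fun _ _ => True) (HypD p e) where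
  sub := fun _ _ _ _ => trivial
  quot := fun _ _ _ _ _ => trivial
  toSub := fun _ _ _ _ h S M hSM => hypD_toSub h S M hSM
  ofLocal := fun _ _ _ _ hdvd h => hypD_ofLocal he hdvd h
  toQuot := fun _ _ _ _ h D _ hD => hypD_toQuot h D hD

/-- It is enough to know the hypothesis for one Sylow `p`-subgroup. -/
theorem hypD_of_sylow {G : Type u} [Group G] [Finite G] (P : Sylow p G) (D : Subgroup G)
    (hD : IsStronglyClosed D (P : Subgroup G))
    (hN : HasNormalPComplement p ↥(Subgroup.normalizer ((zjE e D : Subgroup G) : Set G))) :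
    HypD p e G := by
  intro S'
  obtain ⟨g, rfl⟩ := MulAction.exists_smul_eq G P S'
  have h1 : ((g • P : Sylow p G) : Subgroup G) =
      (P : Subgroup G).map (MulAut.conj g).toMonoidHom := rfl
  refine ⟨D.map (MulAut.conj g).toMonoidHom, ⟨?_, ?_⟩, ?_⟩
  · rw [h1]; exact Subgroup.map_mono hD.1
  · rintro _ ⟨x, hx, rfl⟩ k hk
    rw [h1] at hk
    obtain ⟨y, hy, hyk⟩ := hk
    have hyk' : g * y * g⁻¹ = k * (g * x * g⁻¹) * k⁻¹ := hyk
    have h2 : (g⁻¹ * k * g) * x * (g⁻¹ * k * g)⁻¹ = y := by
      calc (g⁻¹ * k * g) * x * (g⁻¹ * k * g)⁻¹ = g⁻¹ * (k * (g * x * g⁻¹) * k⁻¹) * g := by group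
        _ = g⁻¹ * (g * y * g⁻¹) * g := by rw [hyk']
        _ = y := by group
    have h3 := hD.2 x hx (g⁻¹ * k * g) (h2 ▸ hy)
    refine ⟨(g⁻¹ * k * g) * x * (g⁻¹ * k * g)⁻¹, h3, ?_⟩
    show g * ((g⁻¹ * k * g) * x * (g⁻¹ * k * g)⁻¹) * g⁻¹ = k * (g * x * g⁻¹) * k⁻¹
    group
  · have h2 : zjE e (D.map (MulAut.conj g).toMonoidHom) =
        (zjE e D).map (MulAut.conj g).toMonoidHom := zjE_conj e D g
    have h3 : Subgroup.normalizer ((zjE e (D.map (MulAut.conj g).toMonoidHom) : Subgroup G) : Set G) =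
        (Subgroup.normalizer ((zjE e D : Subgroup G) : Set G)).map (MulAut.conj g).toMonoidHom := by
      rw [h2]
      exact (Subgroup.map_normalizer_eq_of_bijective _ (MulAut.conj g).bijective).symm
    rw [h3]
    exact hasNPC_of_surjective ((MulAut.conj g).toMonoidHom.subgroupMap _)
      ((MulAut.conj g).toMonoidHom.subgroupMap_surjective _) hN

/-- The endgame: the minimal configuration is `p`-stable, so `zjE e D` is normal. -/
theorem hasNPC_of_hypD_endgame (hp : p ≠ 2) {X : Type u} [Group X] [Finite X] (hP : HypD p e X)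
    (hcent : Subgroup.centralizer ((pCore p X : Subgroup X) : Set X) ≤ pCore p X)
    (hquot : HasNormalPComplement p (X ⧸ pCore p X))
    (hco : ∀ T : Sylow p X, IsCoatom (T : Subgroup X)) : HasNormalPComplement p X := by
  have hpp : p.Prime := Fact.out
  obtain ⟨T⟩ : Nonempty (Sylow p X) := inferInstance
  obtain ⟨D, hD, hN⟩ := hP T
  have hHn : (pCore p X).Normal := Cfsg.Agent.Lib.helper39.pCore_normal p X
  have hHp : IsPGroup p (pCore p X) := Cfsg.Agent.Lib.helper39.pCore_isPGroup p X
  have hHT : pCore p X ≤ T := Cfsg.Agent.Lib.helper39.pCore_le_sylow T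
  obtain ⟨K, hKn, hK, k, hk⟩ := exists_normal_coprime_of_hasNPC hquot
  have hπ : Function.Surjective (QuotientGroup.mk' (pCore p X)) := QuotientGroup.mk'_surjective _
  have hmk1 : ∀ x : X, (QuotientGroup.mk' (pCore p X)) x = 1 ↔ x ∈ pCore p X :=
    fun x => QuotientGroup.eq_one_iff x
  have hLn : (K.comap (QuotientGroup.mk' (pCore p X))).Normal := hKn.comap _
  -- `p`-elements of `L` lie in `H`
  have hLT : K.comap (QuotientGroup.mk' (pCore p X)) ⊓ (T : Subgroup X) ≤ pCore p X := by
    rintro x ⟨hxL, hxT⟩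
    obtain ⟨j, hj⟩ := T.isPGroup' ⟨x, hxT⟩
    have hj' : x ^ (p ^ j) = 1 := by
      have := congrArg Subtype.val hj
      rwa [Subgroup.coe_pow, Subgroup.coe_one] at this
    have hxK : (QuotientGroup.mk' (pCore p X)) x ∈ K := hxL
    have h1 : ((QuotientGroup.mk' (pCore p X)) x) ^ (p ^ j) = 1 := by rw [← map_pow, hj', map_one]
    have h2 : ((QuotientGroup.mk' (pCore p X)) x) ^ (Nat.card K) = 1 := by
      have := pow_card_eq_one' (G := K) (x := ⟨_, hxK⟩)
      have := congrArg Subtype.val this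
      rwa [Subgroup.coe_pow, Subgroup.coe_one] at this
    have h3 : ((QuotientGroup.mk' (pCore p X)) x) ^ (Nat.gcd (p ^ j) (Nat.card K)) = 1 :=
      pow_gcd_eq_one.2 ⟨h1, h2⟩
    rw [(Nat.Coprime.pow_left j hK.symm).gcd_eq_one, pow_one] at h3
    exact (hmk1 x).1 h3
  -- `X = L T`
  have hLTtop : K.comap (QuotientGroup.mk' (pCore p X)) ⊔ (T : Subgroup X) = ⊤ := by
    have h1 : (K.comap (QuotientGroup.mk' (pCore p X)) ⊔ (T : Subgroup X)).index ∣ p ^ k := by
      rw [← hk, ← Subgroup.index_comap_of_surjective K hπ]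
      exact Subgroup.index_dvd_of_le le_sup_left
    obtain ⟨j, -, hj'⟩ := (Nat.dvd_prime_pow hpp).1 h1
    rcases Nat.eq_zero_or_pos j with rfl | hjpos
    · rw [pow_zero] at hj'; exact Subgroup.index_eq_one.1 hj'
    · exfalso
      apply T.not_dvd_index
      exact dvd_trans (hj' ▸ dvd_pow_self p hjpos.ne') (Subgroup.index_dvd_of_le le_sup_right)
  have hLP : ∀ g : X, ∃ l ∈ K.comap (QuotientGroup.mk' (pCore p X)), ∃ y ∈ (T : Subgroup X),
      g = l * y := by
    intro g
    have hg : g ∈ K.comap (QuotientGroup.mk' (pCore p X)) ⊔ (T : Subgroup X) :=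
      hLTtop ▸ Subgroup.mem_top g
    obtain ⟨l, hl, y, hy, rfl⟩ := Subgroup.mem_sup_of_normal_left.1 hg
    exact ⟨l, hl, y, hy, rfl⟩
  -- Claim A: a `T`-invariant subgroup of `K` is `K` or trivial
  have claimA : ∀ M' : Subgroup (X ⧸ pCore p X), M' ≤ K →
      (T : Subgroup X).map (QuotientGroup.mk' (pCore p X)) ≤
        Subgroup.normalizer (M' : Set (X ⧸ pCore p X)) → M' = K ∨ M' = ⊥ := by
    intro M' hM'K hTM'
    have hHM : pCore p X ≤ M'.comap (QuotientGroup.mk' (pCore p X)) := by
      intro h hh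
      rw [Subgroup.mem_comap, (hmk1 h).2 hh]; exact M'.one_mem
    have hML : M'.comap (QuotientGroup.mk' (pCore p X)) ≤ K.comap (QuotientGroup.mk' (pCore p X)) :=
      Subgroup.comap_mono hM'K
    have hTM : (T : Subgroup X) ≤
        Subgroup.normalizer ((M'.comap (QuotientGroup.mk' (pCore p X)) : Subgroup X) : Set X) := by
      intro t ht
      exact Subgroup.le_normalizer_comap _ (Subgroup.mem_comap.2 (hTM' (Subgroup.mem_map_of_mem _ ht)))
    have hmap : (M'.comap (QuotientGroup.mk' (pCore p X))).map (QuotientGroup.mk' (pCore p X)) = M' :=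
      Subgroup.map_comap_eq_self_of_surjective hπ M'
    by_cases hMT : M'.comap (QuotientGroup.mk' (pCore p X)) ≤ (T : Subgroup X)
    · right
      rw [← hmap, eq_bot_iff]
      rintro _ ⟨x, hx, rfl⟩
      rw [Subgroup.mem_bot]; exact (hmk1 x).2 (hLT ⟨hML hx, hMT hx⟩)
    · left
      have hlt : (T : Subgroup X) < M'.comap (QuotientGroup.mk' (pCore p X)) ⊔ (T : Subgroup X) :=
        lt_of_le_of_ne le_sup_right (fun h => hMT (h ▸ le_sup_left))
      have htop := (hco T).2 _ hlt
      apply le_antisymm hM'K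
      intro x' hx'
      obtain ⟨x, rfl⟩ := hπ x'
      have hxL : x ∈ K.comap (QuotientGroup.mk' (pCore p X)) := hx'
      have hx : x ∈ ((M'.comap (QuotientGroup.mk' (pCore p X)) ⊔ (T : Subgroup X) : Subgroup X) :
          Set X) := by
        rw [htop]; exact Set.mem_univ x
      rw [Subgroup.coe_mul_of_right_le_normalizer_left _ _ hTM] at hx
      obtain ⟨m, hm, t, ht, rfl⟩ := Set.mem_mul.1 hx
      have htL : t ∈ K.comap (QuotientGroup.mk' (pCore p X)) := by
        have e1 : t = m⁻¹ * (m * t) := by group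
        rw [e1]; exact Subgroup.mul_mem _ (Subgroup.inv_mem _ (hML hm)) hxL
      have htH : t ∈ pCore p X := hLT ⟨htL, ht⟩
      exact Subgroup.mul_mem _ hm (hHM htH)
  have hTbar : IsPGroup p ↥((T : Subgroup X).map (QuotientGroup.mk' (pCore p X))) :=
    T.isPGroup'.map _
  -- Claim B: `K` is abelian
  have claimB : ∀ x ∈ K, ∀ y ∈ K, x * y = y * x := by
    by_cases hK1 : K = ⊥
    · intro x hx y hy
      rw [hK1, Subgroup.mem_bot] at hx hy
      rw [hx, hy]
    have hcardK : Nat.card K ≠ 1 := fun h => hK1 (Subgroup.card_eq_one.1 h)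
    obtain ⟨q, hq, hqK⟩ := Nat.exists_prime_and_dvd hcardK
    have hqf : Fact q.Prime := ⟨hq⟩
    have hpK : ¬ p ∣ Nat.card K := (Nat.Prime.coprime_iff_not_dvd hpp).1 hK.symm
    obtain ⟨Q, hQK, hQq, hTQ, hQcard⟩ := Cfsg.Agent.Lib.helper37.exists_invariant_sylow p q
      ((T : Subgroup X).map (QuotientGroup.mk' (pCore p X))) K hTbar hpK
      (by rw [Subgroup.normalizer_eq_top_iff.2 hKn]; exact le_top)
    have hQK' : Q = K := by
      rcases claimA Q hQK hTQ with h | h
      · exact h
      · exfalso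
        rw [h, Subgroup.card_bot] at hQcard
        have hpos : 0 < (Nat.card K).factorization q :=
          hq.factorization_pos_of_dvd Nat.card_pos.ne' hqK
        have : 1 < q ^ (Nat.card K).factorization q := Nat.one_lt_pow hpos.ne' hq.one_lt
        omega
    subst hQK'
    -- the centre of `Q`
    have hZn : (Q ⊓ Subgroup.centralizer (Q : Set (X ⧸ pCore p X))).Normal := inferInstance
    have hZ : Q ⊓ Subgroup.centralizer (Q : Set (X ⧸ pCore p X)) = Q := by
      rcases claimA (Q ⊓ Subgroup.centralizer (Q : Set (X ⧸ pCore p X))) inf_le_left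
        (by rw [Subgroup.normalizer_eq_top_iff.2 hZn]; exact le_top) with h | h
      · exact h
      · exfalso
        have hnt : Nontrivial ↥Q := by
          rw [← Finite.one_lt_card_iff_nontrivial]
          have := Nat.card_pos (α := ↥Q)
          omega
        have hcn : Nontrivial ↥(Subgroup.center ↥Q) := hQq.center_nontrivial
        obtain ⟨z, hz⟩ := exists_ne (1 : ↥(Subgroup.center ↥Q))
        have hz1 : ((z : ↥Q) : X ⧸ pCore p X) ∈
            Q ⊓ Subgroup.centralizer (Q : Set (X ⧸ pCore p X)) := by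
          refine Subgroup.mem_inf.2 ⟨(z : ↥Q).2, ?_⟩
          rw [Subgroup.mem_centralizer_iff]
          intro y hy
          have := Subgroup.mem_center_iff.1 z.2 ⟨y, hy⟩
          exact congrArg Subtype.val this
        rw [h, Subgroup.mem_bot] at hz1
        apply hz
        apply Subtype.ext
        apply Subtype.ext
        exact hz1
    intro x hx y hy
    have hxZ : x ∈ Q ⊓ Subgroup.centralizer (Q : Set (X ⧸ pCore p X)) := by rw [hZ]; exact hx
    have hxc : x ∈ Subgroup.centralizer (Q : Set (X ⧸ pCore p X)) := hxZ.2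
    exact (Subgroup.mem_centralizer_iff.1 hxc y hy).symm
  -- `p`-stability
  have hst : ∀ (B : Subgroup X) [B.Normal], IsPGroup p B → Cfsg.IsPStableOn p B := by
    intro B hBn hB
    refine isPStableOn_of_abelian_pprime_section hp (pCore p X) hHp
      (K.comap (QuotientGroup.mk' (pCore p X))) ?_ (Nat.card K) Nat.card_pos hK ?_ (T : Subgroup X)
      T.isPGroup' hLP B (Cfsg.Agent.Lib.helper39.le_pCore hBn hB)
    · intro l hl l' hl'
      rw [← hmk1, map_commutatorElement, commutatorElement_eq_one_iff_commute]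
      exact claimB _ hl _ hl'
    · intro l hl
      rw [← hmk1, map_pow]
      have := pow_card_eq_one' (G := K) (x := ⟨_, hl⟩)
      have := congrArg Subtype.val this
      rwa [Subgroup.coe_pow, Subgroup.coe_one] at this
  have hnorm : (zjE e D).Normal := zjE_normal_of_isStronglyClosed hp e hcent hst T D hD
  have h1 := pn_iff_hasNPC.2 hN
  rw [Subgroup.normalizer_eq_top_iff.2 hnorm] at h1
  exact pn_top_iff_hasNPC.1 h1

/-- **Glauberman–Thompson for strongly closed subgroups**, generic form. -/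
theorem hasNPC_of_hypD (hp : p ≠ 2) (he : e = 0 ∨ e = p) :
    ∀ (X : Type u) [Group X] [Finite X], HypD p e X → HasNormalPComplement p X := by
  intro X _ _ h
  exact thompson_reduction (Cls := fun _ _ => True) (redAx_hypD he)
    (fun X _ _ _ hP _ hcent hquot hco => hasNPC_of_hypD_endgame hp hP hcent hquot hco) X trivial h

/-- **Glauberman–Thompson for strongly closed subgroups.** -/
theorem hasNPC_of_normalizer_zjE_strongly_closed (hp : p ≠ 2) (he : e = 0 ∨ e = p)
    {G : Type u} [Group G] [Finite G] (P : Sylow p G) (D : Subgroup G)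
    (hD : IsStronglyClosed D (P : Subgroup G))
    (hN : HasNormalPComplement p ↥(Subgroup.normalizer ((zjE e D : Subgroup G) : Set G))) :
    HasNormalPComplement p G :=
  hasNPC_of_hypD hp he G (hypD_of_sylow P D hD hN)

end

end Cfsg.Agent.Lib.helper57
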