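import Mathlib
import Cfsg.Agent.Lib.helper37.Transfer
import Cfsg.Agent.Lib.helper39.TransferNorm

/-!
# The transfer as a product of a cocycle over the coset space

For `χ : N →* E` (`E` commutative) the function `kap χ g ω = χ (out(gω)⁻¹ g out(ω))` on
`G × G ⧸ N` is a cocycle, the transfer of `χ` is its product over all cosets, and the partial
products `tsum χ s g` over invariant finite sets of cosets are multiplicative.
-/

set_option autoImplicit false

namespace Cfsg.Agent.Lib.helper57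

open scoped Classical

section cocycle

variable {G : Type*} [Group G] {N : Subgroup G} {E : Type*} [CommGroup E]

theorem kap_mem (g : G) (ω : G ⧸ N) : (g • ω).out⁻¹ * g * ω.out ∈ N := by
  rw [mul_assoc, ← QuotientGroup.eq]
  have h1 : ((g * ω.out : G) : G ⧸ N) = g • ((ω.out : G) : G ⧸ N) := rfl
  rw [h1, QuotientGroup.out_eq', QuotientGroup.out_eq']

/-- the transfer cocycle -/
noncomputable def kap (χ : N →* E) (g : G) (ω : G ⧸ N) : E :=
  χ ⟨(g • ω).out⁻¹ * g * ω.out, kap_mem g ω⟩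

theorem kap_mul (χ : N →* E) (g h : G) (ω : G ⧸ N) :
    kap χ (g * h) ω = kap χ g (h • ω) * kap χ h ω := by
  unfold kap
  rw [← map_mul]
  congr 1
  apply Subtype.ext
  simp only [Subgroup.coe_mul, mul_smul]
  group

theorem kap_of_fixed (χ : N →* E) {g : G} {ω : G ⧸ N} (h : g • ω = ω)
    (hm : ω.out⁻¹ * g * ω.out ∈ N) : kap χ g ω = χ ⟨ω.out⁻¹ * g * ω.out, hm⟩ := by
  unfold kap
  congr 1
  apply Subtype.ext
  simp only
  rw [h]

theorem kap_one (χ : N →* E) (ω : G ⧸ N) : kap χ 1 ω = 1 := by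
  have h := kap_mul χ 1 1 ω
  rw [one_mul, one_smul] at h
  exact (mul_eq_left.1 h.symm)

theorem kap_pow (χ : N →* E) (v : G) (n : ℕ) (ω : G ⧸ N) :
    kap χ (v ^ n) ω = ∏ j ∈ Finset.range n, kap χ v (v ^ j • ω) := by
  induction n with
  | zero => simp [kap_one]
  | succ n ih =>
    rw [pow_succ', kap_mul, ih, Finset.prod_range_succ, mul_comm]

/-- partial transfer over a finite set of cosets -/
noncomputable def tsum (χ : N →* E) (s : Finset (G ⧸ N)) (g : G) : E :=
  ∏ ω ∈ s, kap χ g ω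

theorem prod_smul_eq {Ω A : Type*} [MulAction G Ω] [CommMonoid A] (s : Finset Ω)
    (h : G) (hs : ∀ ω ∈ s, h • ω ∈ s) (f : Ω → A) :
    ∏ ω ∈ s, f (h • ω) = ∏ ω ∈ s, f ω := by
  have himg : s.image (fun ω => h • ω) = s := by
    apply Finset.eq_of_subset_of_card_le
    · intro x hx
      obtain ⟨ω, hω, rfl⟩ := Finset.mem_image.1 hx
      exact hs ω hω
    · rw [Finset.card_image_of_injective _ (MulAction.injective h)]
  conv_rhs => rw [← himg]
  rw [Finset.prod_image (fun a _ b _ hab => MulAction.injective h hab)]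

theorem tsum_mul (χ : N →* E) (s : Finset (G ⧸ N)) (g h : G) (hs : ∀ ω ∈ s, h • ω ∈ s) :
    tsum χ s (g * h) = tsum χ s g * tsum χ s h := by
  unfold tsum
  rw [← prod_smul_eq s h hs (fun ω => kap χ g ω), ← Finset.prod_mul_distrib]
  exact Finset.prod_congr rfl (fun ω _ => kap_mul χ g h ω)

theorem tsum_one (χ : N →* E) (s : Finset (G ⧸ N)) : tsum χ s 1 = 1 := by
  unfold tsum
  exact Finset.prod_eq_one (fun ω _ => kap_one χ ω)

theorem tsum_inv (χ : N →* E) (s : Finset (G ⧸ N)) (h : G)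
    (hs' : ∀ ω ∈ s, h⁻¹ • ω ∈ s) :
    tsum χ s h⁻¹ = (tsum χ s h)⁻¹ := by
  have h1 := tsum_mul χ s h h⁻¹ hs'
  rw [mul_inv_cancel, tsum_one] at h1
  exact eq_inv_of_mul_eq_one_right h1.symm

theorem tsum_pow_eq (χ : N →* E) (s : Finset (G ⧸ N)) (h : G) (hs : ∀ ω ∈ s, h • ω ∈ s)
    (n : ℕ) : tsum χ s (h ^ n) = (tsum χ s h) ^ n := by
  induction n with
  | zero => simp [tsum_one]
  | succ n ih => rw [pow_succ, tsum_mul χ s _ _ hs, ih, pow_succ]

theorem tsum_image (χ : N →* E) (s : Finset (G ⧸ N)) (t g : G) :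
    tsum χ (s.image (fun ω => t • ω)) g = ∏ ω ∈ s, kap χ g (t • ω) := by
  unfold tsum
  rw [Finset.prod_image (fun a _ b _ hab => MulAction.injective t hab)]

theorem kap_conj (χ : N →* E) (v t : G) (ω : G ⧸ N) :
    kap χ v (t • ω) = kap χ t ((t⁻¹ * v * t) • ω) * kap χ (t⁻¹ * v * t) ω * (kap χ t ω)⁻¹ := by
  have h1 := kap_mul χ v t ω
  have h2 := kap_mul χ t (t⁻¹ * v * t) ω
  have e : t * (t⁻¹ * v * t) = v * t := by group
  rw [e] at h2
  rw [← h2, h1, mul_inv_cancel_right]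

theorem tsum_conj (χ : N →* E) (s : Finset (G ⧸ N)) (v t : G)
    (hs : ∀ ω ∈ s, (t⁻¹ * v * t) • ω ∈ s) :
    tsum χ (s.image (fun ω => t • ω)) v = tsum χ s (t⁻¹ * v * t) := by
  rw [tsum_image]
  unfold tsum
  have h1 : ∀ ω ∈ s, kap χ v (t • ω) =
      kap χ t ((t⁻¹ * v * t) • ω) * kap χ (t⁻¹ * v * t) ω * (kap χ t ω)⁻¹ :=
    fun ω _ => kap_conj χ v t ω
  rw [Finset.prod_congr rfl h1, Finset.prod_mul_distrib, Finset.prod_mul_distrib,
    prod_smul_eq s (t⁻¹ * v * t) hs (fun ω => kap χ t ω), Finset.prod_inv_distrib]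
  rw [mul_comm (∏ ω ∈ s, kap χ t ω), mul_assoc, mul_inv_cancel, mul_one]

theorem tsum_pow (χ : N →* E) (s : Finset (G ⧸ N)) (v : G) (n : ℕ) :
    tsum χ s (v ^ n) = ∏ j ∈ Finset.range n, tsum χ (s.image (fun ω => v ^ j • ω)) v := by
  unfold tsum
  simp_rw [kap_pow]
  rw [Finset.prod_comm]
  refine Finset.prod_congr rfl (fun j _ => ?_)
  rw [Finset.prod_image (fun a _ b _ hab => MulAction.injective (v ^ j) hab)]

/-- the transfer is the total product of the cocycle -/
theorem transfer_eq_tsum [Finite G] [Fintype (G ⧸ N)] (χ : N →* E) (g : G) :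
    MonoidHom.transfer χ g = tsum χ Finset.univ g := by
  have hr : ∀ q : G ⧸ N, ((Quotient.out q : G) : G ⧸ N) = q := fun q => QuotientGroup.out_eq' q
  rw [Cfsg.Agent.Lib.helper37.transfer_eq_prod_section χ (fun q => Quotient.out q) hr g]
  unfold tsum
  symm
  refine Fintype.prod_equiv (MulAction.toPerm g) _ _ (fun ω => ?_)
  unfold kap
  congr 1
  apply Subtype.ext
  simp only [MulAction.toPerm_apply, inv_smul_smul, mul_assoc]

end cocycle

end Cfsg.Agent.Lib.helper57
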