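import Mathlib
import Cfsg.Agent.Lib.helper39.ChiefNorm

set_option autoImplicit false

namespace Cfsg.Agent.Lib.helper57

section seq

variable {E : Type*} [CommGroup E]

/-- multiplicative forward difference -/
def seqDiff (f : ℕ → E) : ℕ → E := fun j => f (j + 1) * (f j)⁻¹

theorem seqDiff_mul (f g : ℕ → E) : seqDiff (f * g) = seqDiff f * seqDiff g := by
  funext j
  simp only [seqDiff, Pi.mul_apply, mul_inv]
  rw [mul_mul_mul_comm]

theorem seqDiff_one : seqDiff (1 : ℕ → E) = 1 := by
  funext j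
  simp [seqDiff]

theorem seqDiff_inv (f : ℕ → E) : seqDiff f⁻¹ = (seqDiff f)⁻¹ := by
  funext j
  simp only [seqDiff, Pi.inv_apply, mul_inv]

theorem seqDiff_iter_mul (n : ℕ) (f g : ℕ → E) :
    seqDiff^[n] (f * g) = seqDiff^[n] f * seqDiff^[n] g := by
  induction n generalizing f g with
  | zero => rfl
  | succ n ih => rw [Function.iterate_succ_apply, seqDiff_mul, ih]; rfl

theorem seqDiff_iter_one (n : ℕ) : seqDiff^[n] (1 : ℕ → E) = 1 := by
  induction n with
  | zero => rfl
  | succ n ih => rw [Function.iterate_succ_apply, seqDiff_one, ih]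

theorem seqDiff_iter_inv (n : ℕ) (f : ℕ → E) : seqDiff^[n] f⁻¹ = (seqDiff^[n] f)⁻¹ := by
  induction n generalizing f with
  | zero => rfl
  | succ n ih => rw [Function.iterate_succ_apply, seqDiff_inv, ih]; rfl

theorem seqDiff_shift (f : ℕ → E) : seqDiff (fun j => f (j + 1)) = fun j => seqDiff f (j + 1) := rfl

theorem seqDiff_iter_shift (n : ℕ) (f : ℕ → E) :
    seqDiff^[n] (fun j => f (j + 1)) = fun j => seqDiff^[n] f (j + 1) := by
  induction n generalizing f with
  | zero => rfl
  | succ n ih => rw [Function.iterate_succ_apply, seqDiff_shift, ih]; rfl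

/-- the subgroup of sequences of exponent `p` killed by the `k`-th difference -/
def seqSub (p k : ℕ) : Subgroup (ℕ → E) where
  carrier := {f | (∀ j, f j ^ p = 1) ∧ seqDiff^[k] f = 1}
  mul_mem' := by
    rintro f g ⟨hf1, hf2⟩ ⟨hg1, hg2⟩
    refine ⟨fun j => ?_, ?_⟩
    · rw [Pi.mul_apply, mul_pow, hf1, hg1, one_mul]
    · rw [seqDiff_iter_mul, hf2, hg2, one_mul]
  one_mem' := ⟨fun j => by simp, seqDiff_iter_one k⟩
  inv_mem' := by
    rintro f ⟨hf1, hf2⟩
    refine ⟨fun j => ?_, ?_⟩
    · rw [Pi.inv_apply, inv_pow, hf1, inv_one]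
    · rw [seqDiff_iter_inv, hf2, inv_one]

/-- the shift as an endomorphism of `seqSub p k` -/
def seqShift (p k : ℕ) : (seqSub (E := E) p k) →* (seqSub (E := E) p k) where
  toFun f := ⟨fun j => f.1 (j + 1), fun j => f.2.1 (j + 1), by
    rw [seqDiff_iter_shift]
    funext j
    rw [f.2.2]; rfl⟩
  map_one' := rfl
  map_mul' _ _ := rfl

theorem seqShift_iter_apply (p k : ℕ) (i : ℕ) (f : seqSub (E := E) p k) (j : ℕ) :
    ((seqShift p k)^[i] f).1 j = f.1 (j + i) := by
  induction i generalizing f j with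
  | zero => rfl
  | succ i ih =>
    rw [Function.iterate_succ_apply, ih]
    show f.1 (j + i + 1) = f.1 (j + (i + 1))
    rw [add_assoc]

theorem seqNil_iter (p k : ℕ) (i : ℕ) (f : seqSub (E := E) p k) :
    ((fun w : seqSub (E := E) p k => seqShift p k w * w⁻¹)^[i] f).1 = seqDiff^[i] f.1 := by
  induction i generalizing f with
  | zero => rfl
  | succ i ih =>
    rw [Function.iterate_succ_apply, ih, Function.iterate_succ_apply]
    rfl

/-- a sequence of elements of order dividing `p` whose `(p-1)`-st difference vanishes has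
trivial product over a window of length `p` -/
theorem prod_range_eq_one_of_seqDiff {p : ℕ} [Fact p.Prime] (f : ℕ → E)
    (hp : ∀ j, f j ^ p = 1) (hd : seqDiff^[p - 1] f = 1) :
    ∏ j ∈ Finset.range p, f j = 1 := by
  let v : seqSub (E := E) p (p - 1) := ⟨f, hp, hd⟩
  have hexp : ∀ w : seqSub (E := E) p (p - 1), w ^ p = 1 := by
    intro w
    apply Subtype.ext
    funext j
    show (w.1 ^ p) j = 1
    rw [Pi.pow_apply]
    exact w.2.1 j
  have hnil : ∀ w : seqSub (E := E) p (p - 1),
      (fun w' : seqSub (E := E) p (p - 1) => seqShift p (p - 1) w' * w'⁻¹)^[p - 1] w = 1 := by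
    intro w
    apply Subtype.ext
    rw [seqNil_iter]
    exact w.2.2
  have h := Cfsg.Agent.Lib.helper39.prod_iterate_eq_one hexp (seqShift p (p - 1)) hnil v
  have h2 := congrArg (fun w : seqSub (E := E) p (p - 1) => w.1 0) h
  have h3 : (∏ i ∈ Finset.range p, (seqShift p (p - 1))^[i] v).1 0 =
      ∏ i ∈ Finset.range p, f i := by
    have h4 : ∀ (s : Finset ℕ), (∏ i ∈ s, (seqShift p (p - 1))^[i] v).1 0 =
        ∏ i ∈ s, ((seqShift p (p - 1))^[i] v).1 0 := by
      intro s
      induction s using Finset.induction_on with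
      | empty => rfl
      | insert a s ha ih =>
        rw [Finset.prod_insert ha, Finset.prod_insert ha, ← ih]
        rfl
    rw [h4]
    refine Finset.prod_congr rfl (fun i _ => ?_)
    rw [seqShift_iter_apply, zero_add]
  rw [← h3, h2]
  rfl

/-- the two-index form: `F (k+1) j = F k (j+1) / F k j` -/
theorem prod_range_eq_one_of_table {p : ℕ} [Fact p.Prime] (F : ℕ → ℕ → E)
    (hF : ∀ k j, F (k + 1) j = F k (j + 1) * (F k j)⁻¹)
    (hp : ∀ j, F 0 j ^ p = 1) (hlast : ∀ j, F (p - 1) j = 1) :
    ∏ j ∈ Finset.range p, F 0 j = 1 := by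
  apply prod_range_eq_one_of_seqDiff (F 0) hp
  have h : ∀ k, seqDiff^[k] (F 0) = F k := by
    intro k
    induction k with
    | zero => rfl
    | succ k ih =>
      rw [Function.iterate_succ_apply', ih]
      funext j
      rw [hF]; rfl
  rw [h]
  funext j
  exact hlast j

end seq

end Cfsg.Agent.Lib.helper57
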