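import Mathlib
import Cfsg.Prelude.Def_Transfer
import Cfsg.Agent.Lib.helper57.HWCocycle
import Cfsg.Agent.Lib.helper57.HWSeq
import Cfsg.Agent.Lib.helper3.PGroupFrattini

/-!
# The Hall–Wielandt transfer theorem

`P` a Sylow `p`-subgroup of `G`, `Q ≤ P` weakly closed in `P` with `[u, z; p-1] = 1` for
`u ∈ P`, `z ∈ Q`.  Then `P ∩ G' ≤ N_G(Q)'`.
-/

set_option autoImplicit false

namespace Cfsg.Agent.Lib.helper57

open scoped Classical

open Cfsg.Agent.Lib.helper39 (cj mem_cj conj_mem_cj cj_mul cj_eq_self_iff isPGroup_cj IsSylIn)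

section hw

variable {G : Type*} [Group G] [Finite G] {N : Subgroup G} {E : Type*} [CommGroup E]
  [Fintype (G ⧸ N)]

omit [Finite G] in
theorem inv_conj_pow' (g x : G) (m : ℕ) : (g⁻¹ * x * g) ^ m = g⁻¹ * x ^ m * g := by
  have h := conj_pow (a := g⁻¹) (b := x) (i := m)
  rwa [inv_inv] at h

/-- orbit of a subgroup on the cosets, as a finset -/
noncomputable def orb (N : Subgroup G) [Fintype (G ⧸ N)] (S : Subgroup G) (ω : G ⧸ N) :
    Finset (G ⧸ N) :=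
  Finset.univ.filter (fun c => c ∈ MulAction.orbit ↥S ω)

omit [Finite G] in
theorem mem_orb {S : Subgroup G} {ω c : G ⧸ N} : c ∈ orb N S ω ↔ ∃ s ∈ S, s • ω = c := by
  unfold orb
  rw [Finset.mem_filter]
  constructor
  · rintro ⟨-, ⟨s, hs⟩, rfl⟩
    exact ⟨s, hs, rfl⟩
  · rintro ⟨s, hs, rfl⟩
    exact ⟨Finset.mem_univ _, ⟨⟨s, hs⟩, rfl⟩⟩

omit [Finite G] in
theorem smul_mem_orb {S : Subgroup G} {ω c : G ⧸ N} (hc : c ∈ orb N S ω) {s : G} (hs : s ∈ S) :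
    s • c ∈ orb N S ω := by
  rw [mem_orb] at hc ⊢
  obtain ⟨s', hs', rfl⟩ := hc
  exact ⟨s * s', S.mul_mem hs hs', mul_smul _ _ _⟩

/-- the partial transfer of a `p`-th power of an element of a conjugation- and power-closed
set `𝒦`, over an invariant set, is trivial as soon as `χ` kills the `p`-th powers of `𝒦` -/
theorem tsum_eq_one_of_pow (χ : N →* E) {p : ℕ} (𝒦 : Set G)
    (hconj : ∀ k ∈ 𝒦, ∀ g : G, g⁻¹ * k * g ∈ 𝒦) (hpow : ∀ k ∈ 𝒦, ∀ n : ℕ, k ^ n ∈ 𝒦)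
    (hχ : ∀ k ∈ 𝒦, ∀ h : k ^ p ∈ N, χ ⟨k ^ p, h⟩ = 1)
    {k : G} (hk : k ∈ 𝒦) (s : Finset (G ⧸ N)) (hs : ∀ ω ∈ s, k ^ p • ω ∈ s) :
    tsum χ s (k ^ p) = 1 := by
  have hB := Cfsg.Agent.Lib.helper39.prod_mem_of_orbits (Γ := ↥(Subgroup.zpowers (k ^ p)))
    (fun ω => kap χ (k ^ p) ω) (⊥ : Subgroup E) s ?_ ?_
  · exact Subgroup.mem_bot.1 hB
  · rintro ⟨γ, hγ⟩ c hc
    obtain ⟨n, rfl⟩ := mem_powers_iff_mem_zpowers.2 hγ
    show (k ^ p) ^ n • c ∈ s
    induction n with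
    | zero => simpa using hc
    | succ n ih =>
      rw [pow_succ', mul_smul]
      exact hs _ (ih (Subgroup.pow_mem _ (Subgroup.mem_zpowers _) n))
  · intro c _
    rw [Subgroup.mem_bot]
    refine (Cfsg.Agent.Lib.helper39.prod_orbit_zpowers (fun ω => kap χ (k ^ p) ω)
      (k ^ p) c).trans ?_
    rw [← kap_pow]
    have hfix : (k ^ p) ^ Function.minimalPeriod ((k ^ p) • · : G ⧸ N → G ⧸ N) c • c = c := by
      have h := Function.iterate_minimalPeriod (f := ((k ^ p) • · : G ⧸ N → G ⧸ N)) (x := c)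
      rwa [smul_iterate] at h
    generalize Function.minimalPeriod ((k ^ p) • · : G ⧸ N → G ⧸ N) c = n at hfix
    have hm : c.out⁻¹ * (k ^ p) ^ n * c.out ∈ N := by
      have h := kap_mem (N := N) ((k ^ p) ^ n) c
      rwa [hfix] at h
    rw [kap_of_fixed χ hfix hm]
    have e : c.out⁻¹ * (k ^ p) ^ n * c.out = (c.out⁻¹ * k ^ n * c.out) ^ p := by
      rw [inv_conj_pow', ← pow_mul, ← pow_mul, mul_comm]
    have hk' : c.out⁻¹ * k ^ n * c.out ∈ 𝒦 := hconj _ (hpow k hk n) _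
    have h := hχ _ hk' (by rw [← e]; exact hm)
    rw [← h]
    congr 1
    exact Subtype.ext e

omit [Finite G] in
/-- decomposition of an orbit into translates of an orbit of a subgroup of index `p` -/
theorem orb_decomp {p : ℕ} (S M : Subgroup G) (hMS : M ≤ S) (t : G) (htS : t ∈ S)
    (h1 : ∀ s ∈ S, ∃ j < p, ∃ m ∈ M, s = t ^ j * m)
    (h3 : ∀ k, 0 < k → k < p → t ^ k ∉ M)
    (ω₀ : G ⧸ N) (hstab : ∀ s ∈ S, s • ω₀ = ω₀ → s ∈ M) (f : G ⧸ N → E) :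
    ∏ ω ∈ orb N S ω₀, f ω =
      ∏ j ∈ Finset.range p, ∏ ω ∈ (orb N M ω₀).image (fun ω => t ^ j • ω), f ω := by
  rw [← Finset.prod_biUnion]
  · refine Finset.prod_congr ?_ (fun _ _ => rfl)
    ext c
    simp only [Finset.mem_biUnion, Finset.mem_range, Finset.mem_image, mem_orb]
    constructor
    · rintro ⟨s, hs, rfl⟩
      obtain ⟨j, hj, m, hm, rfl⟩ := h1 s hs
      exact ⟨j, hj, m • ω₀, ⟨m, hm, rfl⟩, by rw [mul_smul]⟩
    · rintro ⟨j, _, _, ⟨m, hm, rfl⟩, rfl⟩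
      exact ⟨t ^ j * m, S.mul_mem (S.pow_mem htS j) (hMS hm), by rw [mul_smul]⟩
  · have key : ∀ i j : ℕ, i < j → j < p → ∀ m ∈ M, ∀ m' ∈ M,
        t ^ i • m • ω₀ = t ^ j • m' • ω₀ → False := by
      intro i j hij hj m hm m' hm' h
      have e : (m⁻¹ * t ^ (j - i) * m') • ω₀ = ω₀ := by
        have e1 : t ^ j = t ^ i * t ^ (j - i) := by
          rw [← pow_add]; congr 1; omega
        rw [e1, mul_smul, smul_left_cancel_iff] at h
        rw [mul_smul, mul_smul, ← h, inv_smul_smul]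
      have hmem := hstab _ (S.mul_mem (S.mul_mem (S.inv_mem (hMS hm)) (S.pow_mem htS _))
        (hMS hm')) e
      have h4 : t ^ (j - i) ∈ M := by
        have h5 := M.mul_mem (M.mul_mem hm hmem) (M.inv_mem hm')
        have e2 : m * (m⁻¹ * t ^ (j - i) * m') * m'⁻¹ = t ^ (j - i) := by group
        rwa [e2] at h5
      exact h3 (j - i) (by omega) (by omega) h4
    intro i hi j hj hij
    rw [Function.onFun, Finset.disjoint_left]
    intro c hc1 hc2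
    rw [Finset.mem_coe, Finset.mem_range] at hi hj
    simp only [Finset.mem_image, mem_orb] at hc1 hc2
    obtain ⟨_, ⟨m, hm, rfl⟩, rfl⟩ := hc1
    obtain ⟨_, ⟨m', hm', rfl⟩, h⟩ := hc2
    rcases lt_or_gt_of_ne hij with hlt | hlt
    · exact key i j hlt hj m hm m' hm' h.symm
    · exact key j i hlt hi m' hm' m hm h

omit [Finite G] in
theorem tsum_orb_decomp (χ : N →* E) {p : ℕ} (S M : Subgroup G) (hMS : M ≤ S) (t : G)
    (htS : t ∈ S) (h1 : ∀ s ∈ S, ∃ j < p, ∃ m ∈ M, s = t ^ j * m)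
    (h3 : ∀ k, 0 < k → k < p → t ^ k ∉ M)
    (ω₀ : G ⧸ N) (hstab : ∀ s ∈ S, s • ω₀ = ω₀ → s ∈ M) (g : G) :
    tsum χ (orb N S ω₀) g =
      ∏ j ∈ Finset.range p, tsum χ ((orb N M ω₀).image (fun ω => t ^ j • ω)) g :=
  orb_decomp S M hMS t htS h1 h3 ω₀ hstab _

omit [Finite G] in
/-- the cyclic quotient of order `p` by a normal subgroup of index `p` -/
theorem index_p_facts {p : ℕ} [Fact p.Prime] (S : Subgroup G) (M' : Subgroup ↥S) [M'.Normal]
    (hidx : M'.index = p) (t : G) (htS : t ∈ S) (htM : (⟨t, htS⟩ : ↥S) ∉ M') :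
    (∀ s ∈ S, ∃ j < p, ∃ m ∈ M'.map S.subtype, s = t ^ j * m) ∧
    (∀ k, 0 < k → k < p → t ^ k ∉ M'.map S.subtype) ∧ t ^ p ∈ M'.map S.subtype := by
  have hcard : Nat.card (↥S ⧸ M') = p := by rw [← Subgroup.index_eq_card]; exact hidx
  set x : ↥S ⧸ M' := QuotientGroup.mk' M' ⟨t, htS⟩ with hx
  have hx1 : x ≠ 1 := fun h => htM ((QuotientGroup.eq_one_iff _).1 h)
  have hxp : x ^ p = 1 := by rw [← hcard]; exact pow_card_eq_one'
  have hord : orderOf x = p := orderOf_eq_prime hxp hx1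
  have hmemmap : ∀ (g : G) (hg : g ∈ S), (⟨g, hg⟩ : ↥S) ∈ M' → g ∈ M'.map S.subtype :=
    fun g hg h => ⟨⟨g, hg⟩, h, rfl⟩
  have hmemmap' : ∀ (g : G) (hg : g ∈ S), g ∈ M'.map S.subtype → (⟨g, hg⟩ : ↥S) ∈ M' := by
    rintro g hg ⟨y, hy, rfl⟩
    exact hy
  refine ⟨?_, ?_, ?_⟩
  · intro s hs
    obtain ⟨n, hn⟩ : QuotientGroup.mk' M' ⟨s, hs⟩ ∈ Submonoid.powers x :=
      mem_powers_of_prime_card hcard hx1
    have hn' : x ^ (n % p) = QuotientGroup.mk' M' ⟨s, hs⟩ := by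
      rw [← hn]
      show x ^ (n % p) = x ^ n
      rw [← hord, pow_mod_orderOf]
    refine ⟨n % p, Nat.mod_lt _ (Fact.out : p.Prime).pos, (t ^ (n % p))⁻¹ * s, ?_, by group⟩
    apply hmemmap _ (S.mul_mem (S.inv_mem (S.pow_mem htS _)) hs)
    have h2 : (⟨(t ^ (n % p))⁻¹ * s, S.mul_mem (S.inv_mem (S.pow_mem htS _)) hs⟩ : ↥S) =
        (⟨t, htS⟩ ^ (n % p))⁻¹ * ⟨s, hs⟩ := rfl
    rw [h2, ← QuotientGroup.eq]
    show (QuotientGroup.mk' M') (⟨t, htS⟩ ^ (n % p)) = QuotientGroup.mk' M' ⟨s, hs⟩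
    rw [map_pow]
    exact hn'
  · intro k hk0 hkp hk
    have h2 := hmemmap' _ (S.pow_mem htS k) hk
    have h3 : x ^ k = 1 := by
      rw [hx, ← map_pow]
      exact (QuotientGroup.eq_one_iff _).2 h2
    have h4 := orderOf_dvd_of_pow_eq_one h3
    rw [hord] at h4
    exact absurd (Nat.le_of_dvd hk0 h4) (by omega)
  · apply hmemmap _ (S.pow_mem htS p)
    have h2 : (⟨t ^ p, S.pow_mem htS p⟩ : ↥S) = ⟨t, htS⟩ ^ p := rfl
    rw [h2, ← QuotientGroup.eq_one_iff, QuotientGroup.mk_pow]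
    exact hxp

/-- the orbit products of the transfer cocycle vanish on `𝒦` along orbits on which the
weakly closed subgroup `Q` acts nontrivially -/
theorem orb_tsum_eq_one {p : ℕ} [Fact p.Prime] (χ : N →* E) (P Q : Subgroup G)
    (hP : IsPGroup p P)
    (hEngel : ∀ u ∈ P, ∀ z ∈ Q, (fun y : G => y⁻¹ * z⁻¹ * y * z)^[p - 1] u = 1)
    (𝒦 : Set G)
    (hconj : ∀ k ∈ 𝒦, ∀ g : G, g⁻¹ * k * g ∈ 𝒦) (hpow : ∀ k ∈ 𝒦, ∀ n : ℕ, k ^ n ∈ 𝒦)
    (hχ : ∀ k ∈ 𝒦, ∀ h : k ^ p ∈ N, χ ⟨k ^ p, h⟩ = 1) :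
    ∀ (n : ℕ) (S : Subgroup G), Nat.card S = n → S ≤ P → ∀ ω₀ : G ⧸ N,
      (∃ z ∈ Q, z ∈ S ∧ z • ω₀ ≠ ω₀) → ∀ v ∈ S, v ∈ 𝒦 → tsum χ (orb N S ω₀) v = 1 := by
  intro n
  induction n using Nat.strong_induction_on with
  | _ n ih =>
  rintro S hcard hSP ω₀ ⟨z₀, hz₀Q, hz₀S, hz₀⟩ v hvS hv𝒦
  have hD' : MulAction.stabilizer ↥S ω₀ ≠ ⊤ := by
    intro h
    have h1 : (⟨z₀, hz₀S⟩ : ↥S) ∈ MulAction.stabilizer ↥S ω₀ := by rw [h]; trivial
    exact hz₀ (MulAction.mem_stabilizer_iff.1 h1)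
  obtain ⟨M', hM'co, hDM'⟩ := (eq_top_or_exists_le_coatom (MulAction.stabilizer ↥S ω₀)).resolve_left hD'
  have hSp : IsPGroup p ↥S := hP.to_le hSP
  obtain ⟨hM'n, hM'idx⟩ := Cfsg.Agent.Lib.helper3.coatom_normal_index hSp hM'co
  have hMS : M'.map S.subtype ≤ S := by
    rintro _ ⟨y, -, rfl⟩
    exact y.2
  have hmemM : ∀ (g : G) (hg : g ∈ S), g ∈ M'.map S.subtype ↔ (⟨g, hg⟩ : ↥S) ∈ M' := by
    intro g hg
    constructor
    · rintro ⟨y, hy, rfl⟩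
      exact hy
    · intro h
      exact ⟨⟨g, hg⟩, h, rfl⟩
  have hMlt : Nat.card (M'.map S.subtype : Subgroup G) < n := by
    have h1 : Nat.card (M'.map S.subtype : Subgroup G) = Nat.card M' :=
      Nat.card_congr (M'.equivMapOfInjective S.subtype S.subtype_injective).symm.toEquiv
    have h2 : Nat.card M' * M'.index = Nat.card ↥S := Subgroup.card_mul_index M'
    rw [h1, ← hcard, ← h2, hM'idx]
    have h3 : 0 < Nat.card M' := Nat.card_pos
    have h4 := (Fact.out : p.Prime).one_lt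
    nlinarith
  have hstab : ∀ s ∈ S, s • ω₀ = ω₀ → s ∈ M'.map S.subtype := fun s hs h =>
    (hmemM s hs).2 (hDM' (MulAction.mem_stabilizer_iff.2 h))
  have hnorm : ∀ m ∈ M'.map S.subtype, ∀ s ∈ S, s⁻¹ * m * s ∈ M'.map S.subtype := by
    intro m hm s hs
    have hmS := hMS hm
    rw [hmemM _ (S.mul_mem (S.mul_mem (S.inv_mem hs) hmS) hs)]
    have h1 := hM'n.conj_mem ⟨m, hmS⟩ ((hmemM m hmS).1 hm) (⟨s, hs⟩⁻¹ : ↥S)
    rw [inv_inv] at h1
    exact h1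
  have hinv : ∀ m ∈ M'.map S.subtype, ∀ ω ∈ orb N (M'.map S.subtype) ω₀,
      m • ω ∈ orb N (M'.map S.subtype) ω₀ := fun m hm ω hω => smul_mem_orb hω hm
  by_cases hvM : v ∈ M'.map S.subtype
  · by_cases hQ : ∃ z ∈ Q, z ∈ S ∧ z ∉ M'.map S.subtype
    · obtain ⟨z, hzQ, hzS, hzM⟩ := hQ
      obtain ⟨h1, h3, -⟩ := index_p_facts S M' hM'idx z hzS (fun h => hzM ((hmemM z hzS).2 h))
      rw [tsum_orb_decomp χ S (M'.map S.subtype) hMS z hzS h1 h3 ω₀ hstab]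
      have hstep : ∀ j ∈ Finset.range p,
          tsum χ ((orb N (M'.map S.subtype) ω₀).image (fun ω => z ^ j • ω)) v =
            tsum χ (orb N (M'.map S.subtype) ω₀) ((z ^ j)⁻¹ * v * z ^ j) := fun j _ =>
        tsum_conj χ _ v (z ^ j) (hinv _ (hnorm v hvM _ (S.pow_mem hzS j)))
      rw [Finset.prod_congr rfl hstep]
      have heM : ∀ k : ℕ, (fun y : G => y⁻¹ * z⁻¹ * y * z)^[k] v ∈ M'.map S.subtype := by
        intro k
        induction k with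
        | zero => exact hvM
        | succ k ihk =>
          rw [Function.iterate_succ_apply']
          have h5 := hnorm _ ihk z hzS
          have h6 := (M'.map S.subtype).mul_mem ((M'.map S.subtype).inv_mem ihk) h5
          rw [← mul_assoc, ← mul_assoc] at h6
          exact h6
      have hcM : ∀ (k j : ℕ),
          (z ^ j)⁻¹ * (fun y : G => y⁻¹ * z⁻¹ * y * z)^[k] v * z ^ j ∈ M'.map S.subtype :=
        fun k j => hnorm _ (heM k) _ (S.pow_mem hzS j)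
      apply prod_range_eq_one_of_table (p := p) (fun k j => tsum χ (orb N (M'.map S.subtype) ω₀)
        ((z ^ j)⁻¹ * (fun y : G => y⁻¹ * z⁻¹ * y * z)^[k] v * z ^ j))
      · intro k j
        have e1 : (z ^ j)⁻¹ * (fun y : G => y⁻¹ * z⁻¹ * y * z)^[k + 1] v * z ^ j =
            ((z ^ j)⁻¹ * (fun y : G => y⁻¹ * z⁻¹ * y * z)^[k] v * z ^ j)⁻¹ *
              ((z ^ (j + 1))⁻¹ * (fun y : G => y⁻¹ * z⁻¹ * y * z)^[k] v * z ^ (j + 1)) := by
          rw [Function.iterate_succ_apply', pow_succ]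
          group
        show tsum χ _ _ = tsum χ _ _ * (tsum χ _ _)⁻¹
        rw [e1, tsum_mul χ _ _ _ (hinv _ (hcM k (j + 1))),
          tsum_inv χ _ _ (hinv _ ((M'.map S.subtype).inv_mem (hcM k j))), mul_comm]
      · intro j
        show tsum χ _ _ ^ p = 1
        rw [← tsum_pow_eq χ _ _ (hinv _ (hcM 0 j))]
        exact tsum_eq_one_of_pow χ 𝒦 hconj hpow hχ (hconj v hv𝒦 (z ^ j)) _
          (fun ω hω => hinv _ ((M'.map S.subtype).pow_mem (hcM 0 j) p) ω hω)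
      · intro j
        show tsum χ _ _ = 1
        rw [hEngel v (hSP hvS) z hzQ, mul_one, inv_mul_cancel, tsum_one]
    · push Not at hQ
      have hMne : ∃ t ∈ S, t ∉ M'.map S.subtype := by
        by_contra hcon
        push Not at hcon
        apply hM'co.1
        rw [eq_top_iff]
        intro y _
        exact (hmemM y.1 y.2).1 (hcon y.1 y.2)
      obtain ⟨t, htS, htM⟩ := hMne
      obtain ⟨h1, h3, -⟩ := index_p_facts S M' hM'idx t htS (fun h => htM ((hmemM t htS).2 h))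
      rw [tsum_orb_decomp χ S (M'.map S.subtype) hMS t htS h1 h3 ω₀ hstab]
      apply Finset.prod_eq_one
      intro j _
      rw [tsum_conj χ _ v (t ^ j) (hinv _ (hnorm v hvM _ (S.pow_mem htS j)))]
      exact ih _ hMlt (M'.map S.subtype) rfl (hMS.trans hSP) ω₀
        ⟨z₀, hz₀Q, hQ z₀ hz₀Q hz₀S, hz₀⟩ _ (hnorm v hvM _ (S.pow_mem htS j)) (hconj v hv𝒦 _)
  · obtain ⟨h1, h3, hvp⟩ := index_p_facts S M' hM'idx v hvS (fun h => hvM ((hmemM v hvS).2 h))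
    rw [tsum_orb_decomp χ S (M'.map S.subtype) hMS v hvS h1 h3 ω₀ hstab, ← tsum_pow]
    exact tsum_eq_one_of_pow χ 𝒦 hconj hpow hχ hv𝒦 _ (fun ω hω => hinv _ hvp ω hω)

/-- evaluation of the transfer into `N` on elements of `P ∩ 𝒦` -/
theorem transfer_eq_of_engel {p : ℕ} [Fact p.Prime] (χ : N →* E) (P Q : Subgroup G)
    (hP : IsPGroup p P) (hPN : P ≤ N)
    (hEngel : ∀ u ∈ P, ∀ z ∈ Q, (fun y : G => y⁻¹ * z⁻¹ * y * z)^[p - 1] u = 1)
    (hmove : ∀ ω : G ⧸ N, ω ≠ ((1 : G) : G ⧸ N) → ∃ z ∈ Q, z ∈ P ∧ z • ω ≠ ω)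
    (𝒦 : Set G)
    (hconj : ∀ k ∈ 𝒦, ∀ g : G, g⁻¹ * k * g ∈ 𝒦) (hpow : ∀ k ∈ 𝒦, ∀ n : ℕ, k ^ n ∈ 𝒦)
    (hχ : ∀ k ∈ 𝒦, ∀ h : k ^ p ∈ N, χ ⟨k ^ p, h⟩ = 1)
    (u : G) (huP : u ∈ P) (hu𝒦 : u ∈ 𝒦) :
    MonoidHom.transfer χ u = χ ⟨u, hPN huP⟩ := by
  rw [transfer_eq_tsum]
  unfold tsum
  rw [← Finset.mul_prod_erase Finset.univ _ (Finset.mem_univ ((1 : G) : G ⧸ N))]
  have hfix : ∀ g ∈ N, g • (((1 : G) : G ⧸ N)) = ((1 : G) : G ⧸ N) := by
    intro g hg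
    show ((g * 1 : G) : G ⧸ N) = ((1 : G) : G ⧸ N)
    rw [QuotientGroup.eq]
    simpa using hg
  have hout : (((1 : G) : G ⧸ N)).out ∈ N := by
    have h := QuotientGroup.out_eq' (((1 : G) : G ⧸ N))
    rw [QuotientGroup.eq] at h
    have h2 := N.inv_mem h
    simpa using h2
  have h1 : kap χ u (((1 : G) : G ⧸ N)) = χ ⟨u, hPN huP⟩ := by
    have hm : (((1 : G) : G ⧸ N)).out⁻¹ * u * (((1 : G) : G ⧸ N)).out ∈ N :=
      N.mul_mem (N.mul_mem (N.inv_mem hout) (hPN huP)) hout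
    rw [kap_of_fixed χ (hfix u (hPN huP)) hm]
    have e : (⟨(((1 : G) : G ⧸ N)).out⁻¹ * u * (((1 : G) : G ⧸ N)).out, hm⟩ : ↥N) =
        (⟨(((1 : G) : G ⧸ N)).out, hout⟩ : ↥N)⁻¹ * ⟨u, hPN huP⟩ *
          ⟨(((1 : G) : G ⧸ N)).out, hout⟩ := rfl
    rw [e, map_mul, map_mul, map_inv, mul_comm, mul_inv_cancel_left]
  have h2 : ∏ ω ∈ Finset.univ.erase (((1 : G) : G ⧸ N)), kap χ u ω = 1 := by
    have hB := Cfsg.Agent.Lib.helper39.prod_mem_of_orbits (Γ := ↥P)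
      (fun ω => kap χ u ω) (⊥ : Subgroup E) (Finset.univ.erase (((1 : G) : G ⧸ N))) ?_ ?_
    · exact Subgroup.mem_bot.1 hB
    · rintro ⟨γ, hγ⟩ c hc
      rw [Finset.mem_erase] at hc ⊢
      refine ⟨fun h => hc.1 ?_, Finset.mem_univ _⟩
      have h3 : γ⁻¹ • ((⟨γ, hγ⟩ : ↥P) • c) = c := inv_smul_smul γ c
      rw [h] at h3
      rw [← h3]
      exact hfix _ (N.inv_mem (hPN hγ))
    · intro c hc
      rw [Subgroup.mem_bot]
      have hc1 : c ≠ ((1 : G) : G ⧸ N) := (Finset.mem_erase.1 hc).1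
      exact orb_tsum_eq_one χ P Q hP hEngel 𝒦 hconj hpow hχ _ P rfl le_rfl c (hmove c hc1)
        u huP hu𝒦
  rw [h1, h2, mul_one]

end hw

section focal

variable {G : Type*} [Group G] [Finite G] {p : ℕ} [Fact p.Prime]

omit [Finite G] [Fact (Nat.Prime p)] in
/-- a Sylow subgroup normalizes its weakly closed subgroups -/
theorem le_normalizer_of_weaklyClosed (P : Sylow p G) (Q : Subgroup G)
    (hQ : Cfsg.IsWeaklyClosed Q (P : Subgroup G)) :
    (P : Subgroup G) ≤ Subgroup.normalizer (Q : Set G) := by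
  intro g hg
  rw [← cj_eq_self_iff]
  apply hQ.2
  rintro _ ⟨y, hy, rfl⟩
  show g * y * g⁻¹ ∈ (P : Subgroup G)
  exact (P : Subgroup G).mul_mem ((P : Subgroup G).mul_mem hg (hQ.1 hy)) ((P : Subgroup G).inv_mem hg)

theorem isSylIn_normalizer_of_weaklyClosed (P : Sylow p G) (Q : Subgroup G)
    (hQ : Cfsg.IsWeaklyClosed Q (P : Subgroup G)) :
    IsSylIn p (P : Subgroup G) (Subgroup.normalizer (Q : Set G)) :=
  ⟨le_normalizer_of_weaklyClosed P Q hQ, P.2, fun h => P.not_dvd_index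
    (dvd_trans h (Subgroup.relIndex_dvd_index_of_le (le_normalizer_of_weaklyClosed P Q hQ)))⟩

/-- a weakly closed subgroup moves every nontrivial coset of its normalizer -/
theorem exists_move_of_weaklyClosed (P : Sylow p G) (Q : Subgroup G)
    (hQ : Cfsg.IsWeaklyClosed Q (P : Subgroup G))
    (ω : G ⧸ Subgroup.normalizer (Q : Set G))
    (hω : ω ≠ ((1 : G) : G ⧸ Subgroup.normalizer (Q : Set G))) :
    ∃ z ∈ Q, z ∈ (P : Subgroup G) ∧ z • ω ≠ ω := by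
  by_contra hcon
  push Not at hcon
  have hx : ∀ z ∈ Q, ω.out⁻¹ * z * ω.out ∈ Subgroup.normalizer (Q : Set G) := by
    intro z hz
    have h1 := hcon z hz (hQ.1 hz)
    have h2 : z • ((ω.out : G) : G ⧸ Subgroup.normalizer (Q : Set G)) =
        ((ω.out : G) : G ⧸ Subgroup.normalizer (Q : Set G)) := by
      rw [QuotientGroup.out_eq']; exact h1
    have h3 : ((z * ω.out : G) : G ⧸ Subgroup.normalizer (Q : Set G)) =
        ((ω.out : G) : G ⧸ Subgroup.normalizer (Q : Set G)) := h2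
    rw [eq_comm, QuotientGroup.eq] at h3
    rw [mul_assoc]
    exact h3
  have hcj : cj ω.out⁻¹ Q ≤ Subgroup.normalizer (Q : Set G) := by
    intro y hy
    rw [mem_cj, inv_inv] at hy
    have h1 := hx _ hy
    have e : ω.out⁻¹ * (ω.out * y * ω.out⁻¹) * ω.out = y := by group
    rwa [e] at h1
  have hQp : IsPGroup p Q := P.2.to_le hQ.1
  obtain ⟨n, hn, hle⟩ := (isSylIn_normalizer_of_weaklyClosed P Q hQ).exists_cj_le
    (isPGroup_cj hQp) hcj
  rw [← cj_mul] at hle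
  have heq := hQ.2 (n * ω.out⁻¹) hle
  have hmem : n * ω.out⁻¹ ∈ Subgroup.normalizer (Q : Set G) := cj_eq_self_iff.1 heq
  have hxN : ω.out ∈ Subgroup.normalizer (Q : Set G) := by
    have h1 := (Subgroup.normalizer (Q : Set G)).mul_mem
      ((Subgroup.normalizer (Q : Set G)).inv_mem hmem) hn
    have e : (n * ω.out⁻¹)⁻¹ * n = ω.out := by group
    rwa [e] at h1
  apply hω
  rw [← QuotientGroup.out_eq' ω, QuotientGroup.eq]
  simpa using hxN

/-- **Hall–Wielandt**, focal form: `P ∩ G' ≤ N_G(Q)'`. -/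
theorem hallWielandt_focal (P : Sylow p G) (Q : Subgroup G)
    (hQ : Cfsg.IsWeaklyClosed Q (P : Subgroup G))
    (hEngel : ∀ u ∈ (P : Subgroup G), ∀ z ∈ Q,
      (fun y : G => y⁻¹ * z⁻¹ * y * z)^[p - 1] u = 1) :
    (P : Subgroup G) ⊓ commutator G ≤
      (commutator ↥(Subgroup.normalizer (Q : Set G))).map
        (Subgroup.normalizer (Q : Set G)).subtype := by
  have hPN := le_normalizer_of_weaklyClosed P Q hQ
  have hsyl := isSylIn_normalizer_of_weaklyClosed P Q hQ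
  have : Fintype (G ⧸ Subgroup.normalizer (Q : Set G)) := Fintype.ofFinite _
  -- the filtration by `p^j`-th powers of `p`-elements of `G'`
  let K : ℕ → Set G := fun j =>
    {g | ∃ h ∈ commutator G, (∃ n : ℕ, h ^ p ^ n = 1) ∧ g = h ^ p ^ j}
  have hKconj : ∀ j, ∀ k ∈ K j, ∀ g : G, g⁻¹ * k * g ∈ K j := by
    rintro j k ⟨h, hh, ⟨n, hn⟩, rfl⟩ g
    refine ⟨g⁻¹ * h * g, ?_, ⟨n, ?_⟩, ?_⟩
    · have h1 := (inferInstance : (commutator G).Normal).conj_mem h hh g⁻¹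
      rwa [inv_inv] at h1
    · rw [inv_conj_pow', hn, mul_one, inv_mul_cancel]
    · rw [inv_conj_pow']
  have hKpow : ∀ j, ∀ k ∈ K j, ∀ m : ℕ, k ^ m ∈ K j := by
    rintro j k ⟨h, hh, ⟨n, hn⟩, rfl⟩ m
    refine ⟨h ^ m, (commutator G).pow_mem hh m, ⟨n, ?_⟩, ?_⟩
    · rw [← pow_mul, mul_comm, pow_mul, hn, one_pow]
    · rw [← pow_mul, ← pow_mul, mul_comm]
  have hKsucc : ∀ j, ∀ k ∈ K j, k ^ p ∈ K (j + 1) := by
    rintro j k ⟨h, hh, hn, rfl⟩
    exact ⟨h, hh, hn, by rw [← pow_mul, ← pow_succ]⟩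
  have hKcomm : ∀ j, ∀ k ∈ K j, k ∈ commutator G := by
    rintro j k ⟨h, hh, -, rfl⟩
    exact (commutator G).pow_mem hh _
  have hKp : ∀ j, ∀ k ∈ K j, ∃ n : ℕ, k ^ p ^ n = 1 := by
    rintro j k ⟨h, -, ⟨n, hn⟩, rfl⟩
    exact ⟨n, by rw [← pow_mul, mul_comm, pow_mul, hn, one_pow]⟩
  have main : ∀ (d j : ℕ), j + d = Nat.card G → ∀ g ∈ K j,
      ∀ hg : g ∈ Subgroup.normalizer (Q : Set G),
        (⟨g, hg⟩ : ↥(Subgroup.normalizer (Q : Set G))) ∈
          commutator ↥(Subgroup.normalizer (Q : Set G)) := by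
    intro d
    induction d with
    | zero =>
      rintro j hj g ⟨h, -, ⟨n, hn⟩, rfl⟩ hg
      have h1 : h ^ p ^ j = 1 := by
        have h2 : orderOf h ∣ p ^ n := orderOf_dvd_of_pow_eq_one hn
        obtain ⟨a, -, ha⟩ := (Nat.dvd_prime_pow (Fact.out : p.Prime)).1 h2
        have h3 : orderOf h ≤ Nat.card G := Nat.le_of_dvd Nat.card_pos (orderOf_dvd_natCard h)
        have h4 : a < p ^ a := Nat.lt_pow_self (Fact.out : p.Prime).one_lt
        have h5 : a ≤ j := by rw [ha] at h3; omega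
        apply orderOf_dvd_iff_pow_eq_one.1
        rw [ha]
        exact pow_dvd_pow p h5
      have e : (⟨h ^ p ^ j, hg⟩ : ↥(Subgroup.normalizer (Q : Set G))) = 1 := Subtype.ext h1
      rw [e]
      exact Subgroup.one_mem _
    | succ d ihd =>
      intro j hj g hgK hg
      have hχ : ∀ k ∈ K j, ∀ h : k ^ p ∈ Subgroup.normalizer (Q : Set G),
          (Abelianization.of : ↥(Subgroup.normalizer (Q : Set G)) →* _) ⟨k ^ p, h⟩ = 1 := by
        intro k hk h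
        have h1 := ihd (j + 1) (by omega) (k ^ p) (hKsucc j k hk) h
        rw [← Abelianization.ker_of] at h1
        exact MonoidHom.mem_ker.1 h1
      -- conjugate `g` into `P` inside the normalizer
      have hgp : IsPGroup p (Subgroup.zpowers g) := by
        obtain ⟨n, hn⟩ := hKp j g hgK
        rintro ⟨y, hy⟩
        obtain ⟨m, rfl⟩ := Subgroup.mem_zpowers_iff.1 hy
        refine ⟨n, Subtype.ext ?_⟩
        show (g ^ m) ^ p ^ n = 1
        rw [← zpow_natCast, ← zpow_mul, mul_comm, zpow_mul, zpow_natCast, hn, one_zpow]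
      obtain ⟨n₁, hn₁, hle⟩ := hsyl.exists_cj_le hgp
        (by rw [Subgroup.zpowers_le]; exact hg)
      have huP : n₁ * g * n₁⁻¹ ∈ (P : Subgroup G) :=
        hle (conj_mem_cj.2 (Subgroup.mem_zpowers g))
      have huK : n₁ * g * n₁⁻¹ ∈ K j := by
        have h1 := hKconj j g hgK n₁⁻¹
        rwa [inv_inv] at h1
      have htr := transfer_eq_of_engel
        (Abelianization.of : ↥(Subgroup.normalizer (Q : Set G)) →* _)
        (P : Subgroup G) Q P.2 hPN hEngel (exists_move_of_weaklyClosed P Q hQ) (K j)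
        (hKconj j) (hKpow j) hχ (n₁ * g * n₁⁻¹) huP huK
      have h1 : MonoidHom.transfer
          (Abelianization.of : ↥(Subgroup.normalizer (Q : Set G)) →* _) (n₁ * g * n₁⁻¹) = 1 :=
        MonoidHom.mem_ker.1 (Abelianization.commutator_subset_ker _ (hKcomm j _ huK))
      rw [h1] at htr
      have h2 : (⟨n₁ * g * n₁⁻¹, hPN huP⟩ : ↥(Subgroup.normalizer (Q : Set G))) ∈
          commutator ↥(Subgroup.normalizer (Q : Set G)) := by
        rw [← Abelianization.ker_of]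
        exact MonoidHom.mem_ker.2 htr.symm
      have h3 := (inferInstance : (commutator ↥(Subgroup.normalizer (Q : Set G))).Normal).conj_mem
        _ h2 (⟨n₁, hn₁⟩⁻¹ : ↥(Subgroup.normalizer (Q : Set G)))
      have e : (⟨n₁, hn₁⟩⁻¹ : ↥(Subgroup.normalizer (Q : Set G))) *
          ⟨n₁ * g * n₁⁻¹, hPN huP⟩ * (⟨n₁, hn₁⟩⁻¹ : ↥(Subgroup.normalizer (Q : Set G)))⁻¹ =
            ⟨g, hg⟩ := by
        apply Subtype.ext
        show n₁⁻¹ * (n₁ * g * n₁⁻¹) * n₁⁻¹⁻¹ = g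
        group
      rwa [e] at h3
  rintro a ⟨haP, haG⟩
  have haK : a ∈ K 0 := by
    obtain ⟨n, hn⟩ := P.2 ⟨a, haP⟩
    refine ⟨a, haG, ⟨n, ?_⟩, by simp⟩
    have h1 := congrArg Subtype.val hn
    simpa using h1
  exact ⟨⟨a, hPN haP⟩, main (Nat.card G) 0 (by omega) a haK (hPN haP), rfl⟩

end focal

end Cfsg.Agent.Lib.helper57
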