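import Mathlib
import Cfsg.Prelude.Def_Transfer
import Cfsg.Prelude.Def_BaumannBlocks
import Cfsg.Agent.Lib.helper57.HallWielandt
import Cfsg.Agent.Lib.helper67.Tate

/-!
# Control of transfer in the `O^p` form

If `P ≤ H` and `P ∩ G' ≤ H'` then `O^p(H) = O^p(G) ∩ H` (via Tate's theorem), and the
Hall–Wielandt theorem in this form.
-/

set_option autoImplicit false

namespace Cfsg.Agent.Lib.helper57

open Cfsg.Agent.Lib.helper39 (cj mem_cj conj_mem_cj IsSylIn)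

section res

variable {G : Type*} [Group G] [Finite G] {p : ℕ} [Fact p.Prime]

/-- `O^p(H) = O^p(G) ∩ H` when `H` contains a Sylow `p`-subgroup `P` with `P ∩ G' ≤ H'`. -/
theorem pResidual_inf_eq_of_focal (P : Sylow p G) (H : Subgroup G)
    (hPH : (P : Subgroup G) ≤ H)
    (h : (P : Subgroup G) ⊓ commutator G ≤ (commutator ↥H).map H.subtype) :
    (Cfsg.pResidual p ↥H).map H.subtype = Cfsg.pResidual p G ⊓ H := by
  have htate := Cfsg.Agent.Lib.helper67.tate_general P H hPH h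
  have hGn : (Cfsg.pResidual p G).Normal := Cfsg.Agent.Lib.helper40.pResidual_normal p G
  have hHn : (Cfsg.pResidual p ↥H).Normal := Cfsg.Agent.Lib.helper40.pResidual_normal p ↥H
  have hsyl : IsSylIn p (P : Subgroup G) H :=
    ⟨hPH, P.2, fun hd => P.not_dvd_index (dvd_trans hd (Subgroup.relIndex_dvd_index_of_le hPH))⟩
  apply le_antisymm
  · refine le_inf (Cfsg.Agent.Lib.helper67.map_pResidual_le p H) ?_
    rintro _ ⟨y, -, rfl⟩
    exact y.2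
  · rintro x ⟨hxR, hxH⟩
    refine ⟨⟨x, hxH⟩, ?_, rfl⟩
    -- split the order of `y = ⟨x, hxH⟩`
    have hpos : orderOf (⟨x, hxH⟩ : ↥H) ≠ 0 := (orderOf_pos _).ne'
    obtain ⟨a, m, hm, hnm⟩ := Nat.exists_eq_pow_mul_and_not_dvd hpos p
      (Fact.out : p.Prime).ne_one
    have hcop : Nat.Coprime (p ^ a) m :=
      Nat.Coprime.pow_left a ((Nat.Prime.coprime_iff_not_dvd (Fact.out : p.Prime)).2 hm)
    -- the `p'`-part lies in `O^p(H)`
    have h1 : (⟨x, hxH⟩ : ↥H) ^ p ^ a ∈ Cfsg.pResidual p ↥H := by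
      apply Subgroup.subset_closure
      show Nat.Coprime (orderOf ((⟨x, hxH⟩ : ↥H) ^ p ^ a)) p
      have h2 : ((⟨x, hxH⟩ : ↥H) ^ p ^ a) ^ m = 1 := by
        rw [← pow_mul, ← hnm, pow_orderOf_eq_one]
      have h3 : orderOf ((⟨x, hxH⟩ : ↥H) ^ p ^ a) ∣ m := orderOf_dvd_of_pow_eq_one h2
      exact Nat.Coprime.coprime_dvd_left h3
        ((Nat.Prime.coprime_iff_not_dvd (Fact.out : p.Prime)).2 hm).symm
    -- the `p`-part lies in `O^p(H)` by Tate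
    have h2 : (⟨x, hxH⟩ : ↥H) ^ m ∈ Cfsg.pResidual p ↥H := by
      have hwp : (x ^ m) ^ p ^ a = 1 := by
        have h3 : ((⟨x, hxH⟩ : ↥H) ^ m) ^ p ^ a = 1 := by
          rw [← pow_mul, mul_comm, ← hnm, pow_orderOf_eq_one]
        have h4 := congrArg Subtype.val h3
        simpa using h4
      have hgp : IsPGroup p (Subgroup.zpowers (x ^ m)) := by
        rintro ⟨y, hy⟩
        obtain ⟨k, rfl⟩ := Subgroup.mem_zpowers_iff.1 hy
        refine ⟨a, Subtype.ext ?_⟩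
        show ((x ^ m) ^ k) ^ p ^ a = 1
        rw [← zpow_natCast, ← zpow_mul, mul_comm, zpow_mul, zpow_natCast, hwp, one_zpow]
      obtain ⟨n₁, hn₁, hle⟩ := hsyl.exists_cj_le hgp
        (by rw [Subgroup.zpowers_le]; exact H.pow_mem hxH m)
      have huP : n₁ * x ^ m * n₁⁻¹ ∈ (P : Subgroup G) :=
        hle (conj_mem_cj.2 (Subgroup.mem_zpowers (x ^ m)))
      have huR : n₁ * x ^ m * n₁⁻¹ ∈ Cfsg.pResidual p G :=
        hGn.conj_mem _ ((Cfsg.pResidual p G).pow_mem hxR m) n₁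
      have h3 : n₁ * x ^ m * n₁⁻¹ ∈ (P : Subgroup G) ⊓ Cfsg.pResidual p G := ⟨huP, huR⟩
      rw [htate] at h3
      obtain ⟨u', hu', hu'e⟩ := h3.2
      have h4 := hHn.conj_mem u' hu' (⟨n₁, hn₁⟩⁻¹ : ↥H)
      have e : (⟨n₁, hn₁⟩⁻¹ : ↥H) * u' * (⟨n₁, hn₁⟩⁻¹ : ↥H)⁻¹ = (⟨x, hxH⟩ : ↥H) ^ m := by
        apply Subtype.ext
        have h5 : (u' : G) = n₁ * x ^ m * n₁⁻¹ := hu'e
        show n₁⁻¹ * (u' : G) * n₁⁻¹⁻¹ = x ^ m
        rw [h5]
        group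
      rwa [e] at h4
    -- recombine
    have hb := Int.gcd_eq_gcd_ab ((p ^ a : ℕ) : ℤ) (m : ℤ)
    have hg : Int.gcd ((p ^ a : ℕ) : ℤ) (m : ℤ) = 1 := by
      rw [Int.gcd_natCast_natCast]; exact hcop
    rw [hg] at hb
    have e : (⟨x, hxH⟩ : ↥H) =
        ((⟨x, hxH⟩ : ↥H) ^ p ^ a) ^ (Int.gcdA ((p ^ a : ℕ) : ℤ) (m : ℤ)) *
          ((⟨x, hxH⟩ : ↥H) ^ m) ^ (Int.gcdB ((p ^ a : ℕ) : ℤ) (m : ℤ)) := by
      rw [← zpow_natCast, ← zpow_natCast, ← zpow_mul, ← zpow_mul, ← zpow_add, ← hb]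
      simp
    rw [e]
    exact (Cfsg.pResidual p ↥H).mul_mem ((Cfsg.pResidual p ↥H).zpow_mem h1 _)
      ((Cfsg.pResidual p ↥H).zpow_mem h2 _)

/-- **Hall–Wielandt**: `O^p(N_G(Q)) = O^p(G) ∩ N_G(Q)`. -/
theorem hallWielandt_residual (P : Sylow p G) (Q : Subgroup G)
    (hQ : Cfsg.IsWeaklyClosed Q (P : Subgroup G))
    (hEngel : ∀ u ∈ (P : Subgroup G), ∀ z ∈ Q,
      (fun y : G => y⁻¹ * z⁻¹ * y * z)^[p - 1] u = 1) :
    Cfsg.pResidualOf p (Subgroup.normalizer (Q : Set G)) =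
      Cfsg.pResidual p G ⊓ Subgroup.normalizer (Q : Set G) :=
  pResidual_inf_eq_of_focal P _ (le_normalizer_of_weaklyClosed P Q hQ)
    (hallWielandt_focal P Q hQ hEngel)

end res

end Cfsg.Agent.Lib.helper57
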