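import Mathlib

/-!
# Piece H4 of Huppert's theorem (S3360): a class-2 fixed-point-free count

`x` of prime order `ℓ` normalises `N`, centralises the central subgroup `M ≤ N` with `N/M`
abelian, `M` has no `ℓ`-torsion and `C_N(x)` is abelian: then `C_N(x) ≤ M` and
`ℓ ∣ |N| - |M|`.
-/

namespace Cfsg.Agent.Lib.helper57.Hup

/-- Step 1: an element of `N` commuting with `x` is central in `N`. -/
theorem comm_of_fpf_aux {G : Type*} [Group G] (M N : Subgroup G)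
    (x : G) (ℓ : ℕ) (hx : x ^ ℓ = 1)
    (hxN : ∀ g ∈ N, x * g * x⁻¹ ∈ N)
    (hxM : ∀ z ∈ M, x * z = z * x)
    (hcent : ∀ g ∈ N, ∀ z ∈ M, g * z = z * g)
    (hcomm : ∀ g ∈ N, ∀ h ∈ N, g * h * g⁻¹ * h⁻¹ ∈ M)
    (hℓM : ∀ z ∈ M, z ^ ℓ = 1 → z = 1)
    (hCx : ∀ g ∈ N, ∀ h ∈ N, x * g = g * x → x * h = h * x → g * h = h * g)
    (g : G) (hg : g ∈ N) (hxg : x * g = g * x) (h : G) (hh : h ∈ N) : g * h = h * g := by
  obtain ⟨c, hc⟩ : ∃ c : G, c = g * h * g⁻¹ * h⁻¹ := ⟨_, rfl⟩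
  have hcM : c ∈ M := hc ▸ hcomm g hg h hh
  obtain ⟨P, hP0, hP⟩ : ∃ P : ℕ → G, P 0 = 1 ∧ ∀ k, P (k + 1) = P k * (x ^ k * h * (x ^ k)⁻¹) :=
    ⟨fun k => Nat.rec 1 (fun k pk => pk * (x ^ k * h * (x ^ k)⁻¹)) k, rfl, fun _ => rfl⟩
  -- powers of `x` normalise `N`
  have hxpowN : ∀ k : ℕ, ∀ y ∈ N, x ^ k * y * (x ^ k)⁻¹ ∈ N := by
    intro k
    induction k with
    | zero => intro y hy; simpa using hy
    | succ k ih =>
      intro y hy
      have h1 := hxN _ (ih y hy)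
      have e : x ^ (k + 1) * y * (x ^ (k + 1))⁻¹ = x * (x ^ k * y * (x ^ k)⁻¹) * x⁻¹ := by
        rw [pow_succ']
        group
      rw [e]
      exact h1
  have hPN : ∀ k, P k ∈ N := by
    intro k
    induction k with
    | zero => rw [hP0]; exact N.one_mem
    | succ k ih => rw [hP]; exact N.mul_mem ih (hxpowN k h hh)
  -- powers of `x` commute with `g` and with `M`
  have hxkg : ∀ k : ℕ, x ^ k * g = g * x ^ k := fun k =>
    ((show Commute x g from hxg).pow_left k).eq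
  have hxkM : ∀ k : ℕ, ∀ z ∈ M, x ^ k * z = z * x ^ k := fun k z hz =>
    ((show Commute x z from hxM z hz).pow_left k).eq
  -- the commutator map with `g` is multiplicative on `N`
  have hκmul : ∀ y ∈ N, ∀ y' ∈ N, g * (y * y') * g⁻¹ * (y * y')⁻¹
      = (g * y * g⁻¹ * y⁻¹) * (g * y' * g⁻¹ * y'⁻¹) := by
    intro y hy y' hy'
    have hm := hcomm g hg y' hy'
    have h1 := hcent y⁻¹ (N.inv_mem hy) _ hm
    calc g * (y * y') * g⁻¹ * (y * y')⁻¹
        = g * y * g⁻¹ * ((g * y' * g⁻¹ * y'⁻¹) * y⁻¹) := by group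
      _ = g * y * g⁻¹ * (y⁻¹ * (g * y' * g⁻¹ * y'⁻¹)) := by rw [h1]
      _ = (g * y * g⁻¹ * y⁻¹) * (g * y' * g⁻¹ * y'⁻¹) := by group
  have hκconj : ∀ X : G, X * g = g * X → X * c = c * X →
      g * (X * h * X⁻¹) * g⁻¹ * (X * h * X⁻¹)⁻¹ = c := by
    intro X hXg hXc
    have e1 : X⁻¹ * g * X = g := by
      rw [mul_assoc, ← hXg, ← mul_assoc, inv_mul_cancel, one_mul]
    have e2 : X⁻¹ * g⁻¹ * X = g⁻¹ := by
      have h0 : X⁻¹ * g⁻¹ * X = (X⁻¹ * g * X)⁻¹ := by group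
      rw [h0, e1]
    calc g * (X * h * X⁻¹) * g⁻¹ * (X * h * X⁻¹)⁻¹
        = X * ((X⁻¹ * g * X) * h * (X⁻¹ * g⁻¹ * X) * h⁻¹) * X⁻¹ := by group
      _ = X * (g * h * g⁻¹ * h⁻¹) * X⁻¹ := by rw [e1, e2]
      _ = c := by rw [← hc, hXc, mul_assoc, mul_inv_cancel, mul_one]
  have hκP : ∀ k, g * P k * g⁻¹ * (P k)⁻¹ = c ^ k := by
    intro k
    induction k with
    | zero => rw [hP0]; simp
    | succ k ih =>
      rw [hP, hκmul _ (hPN k) _ (hxpowN k h hh), ih,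
        hκconj (x ^ k) (hxkg k) (hxkM k c hcM), pow_succ]
  -- the shift identity
  have hshift : ∀ k, P (k + 1) = h * (x * P k * x⁻¹) := by
    intro k
    induction k with
    | zero => rw [hP, hP0]; simp
    | succ k ih =>
      calc P (k + 1 + 1) = P (k + 1) * (x ^ (k + 1) * h * (x ^ (k + 1))⁻¹) := hP (k + 1)
        _ = h * (x * P k * x⁻¹) * (x ^ (k + 1) * h * (x ^ (k + 1))⁻¹) := by rw [ih]
        _ = h * (x * (P k * (x ^ k * h * (x ^ k)⁻¹)) * x⁻¹) := by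
            rw [pow_succ']
            group
        _ = h * (x * P (k + 1) * x⁻¹) := by rw [hP k]
  obtain ⟨ν, hν⟩ : ∃ ν : G, ν = P ℓ := ⟨_, rfl⟩
  have hνN : ν ∈ N := hν ▸ hPN ℓ
  have hxν : x * ν * x⁻¹ = h⁻¹ * ν * h := by
    have h1 := hshift ℓ
    rw [hP ℓ, hx, ← hν] at h1
    have h2 : ν * h = h * (x * ν * x⁻¹) := by simpa using h1
    calc x * ν * x⁻¹ = h⁻¹ * (h * (x * ν * x⁻¹)) := by group
      _ = h⁻¹ * (ν * h) := by rw [h2]
      _ = h⁻¹ * ν * h := by group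
  obtain ⟨z, hz⟩ : ∃ z : G, z = ν⁻¹ * h⁻¹ * ν * h := ⟨_, rfl⟩
  have hzM : z ∈ M := by
    have h1 := hcomm ν⁻¹ (N.inv_mem hνN) h⁻¹ (N.inv_mem hh)
    rw [inv_inv, inv_inv] at h1
    rw [hz]
    exact h1
  have hxν' : x * ν * x⁻¹ = ν * z := by
    rw [hxν, hz]
    group
  have hzpow : ∀ k : ℕ, z ^ k ∈ M := fun k => M.pow_mem hzM k
  have hxkν : ∀ k : ℕ, x ^ k * ν * (x ^ k)⁻¹ = ν * z ^ k := by
    intro k
    induction k with
    | zero => simp
    | succ k ih =>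
      have h1 : x * z ^ k = z ^ k * x := hxM _ (hzpow k)
      calc x ^ (k + 1) * ν * (x ^ (k + 1))⁻¹ = x * (x ^ k * ν * (x ^ k)⁻¹) * x⁻¹ := by
            rw [pow_succ']
            group
        _ = x * (ν * z ^ k) * x⁻¹ := by rw [ih]
        _ = (x * ν * x⁻¹) * (x * z ^ k) * x⁻¹ := by group
        _ = (ν * z) * (z ^ k * x) * x⁻¹ := by rw [hxν', h1]
        _ = ν * z ^ (k + 1) := by
            rw [pow_succ']
            group
  have hz1 : z = 1 := by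
    apply hℓM z hzM
    have h1 := hxkν ℓ
    rw [hx] at h1
    have h2 : ν = ν * z ^ ℓ := by simpa using h1
    have h3 : ν * 1 = ν * z ^ ℓ := by rw [mul_one]; exact h2
    exact (mul_left_cancel h3).symm
  have hxνc : x * ν = ν * x := by
    have h1 : x * ν * x⁻¹ = ν := by rw [hxν', hz1, mul_one]
    calc x * ν = x * ν * x⁻¹ * x := by group
      _ = ν * x := by rw [h1]
  have hgν : g * ν = ν * g := hCx g hg ν hνN hxg hxνc
  have hcℓ : c ^ ℓ = 1 := by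
    rw [← hκP ℓ, ← hν, hgν]
    group
  have hc1 : c = 1 := hℓM c hcM hcℓ
  rw [hc] at hc1
  calc g * h = (g * h * g⁻¹ * h⁻¹) * (h * g) := by group
    _ = h * g := by rw [hc1, one_mul]

theorem prime_dvd_of_fpf {G : Type*} [Group G] [Finite G] (M N : Subgroup G) (hMN : M ≤ N)
    (x : G) (ℓ : ℕ) (hℓ : ℓ.Prime) (hx : x ^ ℓ = 1)
    (hxN : ∀ g ∈ N, x * g * x⁻¹ ∈ N)
    (hxM : ∀ z ∈ M, x * z = z * x)
    (hcent : ∀ g ∈ N, ∀ z ∈ M, g * z = z * g)
    (hcomm : ∀ g ∈ N, ∀ h ∈ N, g * h * g⁻¹ * h⁻¹ ∈ M)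
    (hZ : ∀ g ∈ N, (∀ h ∈ N, g * h = h * g) → g ∈ M)
    (hℓM : ∀ z ∈ M, z ^ ℓ = 1 → z = 1)
    (hCx : ∀ g ∈ N, ∀ h ∈ N, x * g = g * x → x * h = h * x → g * h = h * g) :
    ℓ ∣ Nat.card N - Nat.card M := by
  classical
  have hfact : Fact ℓ.Prime := ⟨hℓ⟩
  have hfix : ∀ g ∈ N, x * g = g * x → g ∈ M := fun g hg hxg =>
    hZ g hg (fun h hh => comm_of_fpf_aux M N x ℓ hx hxN hxM hcent hcomm hℓM hCx g hg hxg h hh)
  -- `x⁻¹` also normalises `N`
  have hxpowN : ∀ k : ℕ, ∀ y ∈ N, x ^ k * y * (x ^ k)⁻¹ ∈ N := by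
    intro k
    induction k with
    | zero => intro y hy; simpa using hy
    | succ k ih =>
      intro y hy
      have h1 := hxN _ (ih y hy)
      have e : x ^ (k + 1) * y * (x ^ (k + 1))⁻¹ = x * (x ^ k * y * (x ^ k)⁻¹) * x⁻¹ := by
        rw [pow_succ']
        group
      rw [e]
      exact h1
  have hxinv : x⁻¹ = x ^ (ℓ - 1) := by
    have h1 : x ^ (ℓ - 1) * x = 1 := by
      rw [← pow_succ, Nat.sub_add_cancel hℓ.one_lt.le, hx]
    exact (eq_inv_of_mul_eq_one_left h1).symm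
  have hxinvN : ∀ y ∈ N, x⁻¹ * y * x ∈ N := by
    intro y hy
    have h1 := hxpowN (ℓ - 1) y hy
    rw [← hxinv, inv_inv] at h1
    exact h1
  obtain ⟨Y, hY⟩ : ∃ Y : Set G, Y = {g | g ∈ N ∧ g ∉ M} := ⟨_, rfl⟩
  have hmemY : ∀ g, g ∈ Y ↔ g ∈ N ∧ g ∉ M := fun g => by rw [hY]; rfl
  have hunion : (N : Set G) = (M : Set G) ∪ Y := by
    ext g
    constructor
    · intro hg
      by_cases hgM : g ∈ M
      · exact Or.inl hgM
      · exact Or.inr ((hmemY g).mpr ⟨hg, hgM⟩)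
    · rintro (hg | hg)
      · exact hMN hg
      · exact ((hmemY g).mp hg).1
  have hdisj : Disjoint (M : Set G) Y :=
    Set.disjoint_left.mpr (fun g hg hgY => ((hmemY g).mp hgY).2 hg)
  have hcard : (N : Set G).ncard = (M : Set G).ncard + Y.ncard := by
    rw [hunion]
    exact Set.ncard_union_eq hdisj
  have hNc : Nat.card N = (N : Set G).ncard := (Nat.card_coe_set_eq (N : Set G)).symm
  have hMc : Nat.card M = (M : Set G).ncard := (Nat.card_coe_set_eq (M : Set G)).symm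
  have hdiff : Nat.card N - Nat.card M = Y.ncard := by omega
  rw [hdiff]
  -- the conjugation permutation of `Y`
  have hfwd : ∀ y ∈ Y, x * y * x⁻¹ ∈ Y := by
    intro y hy
    obtain ⟨hyN, hyM⟩ := (hmemY y).mp hy
    refine (hmemY _).mpr ⟨hxN y hyN, fun hm => hyM ?_⟩
    have h1 := hxM _ hm
    have h3 : y = x * y * x⁻¹ := by
      calc y = x⁻¹ * ((x * y * x⁻¹) * x) := by group
        _ = x⁻¹ * (x * (x * y * x⁻¹)) := by rw [← h1]
        _ = x * y * x⁻¹ := by group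
    rw [h3]
    exact hm
  have hbwd : ∀ y ∈ Y, x⁻¹ * y * x ∈ Y := by
    intro y hy
    obtain ⟨hyN, hyM⟩ := (hmemY y).mp hy
    refine (hmemY _).mpr ⟨hxinvN y hyN, fun hm => hyM ?_⟩
    have h1 := hxM _ hm
    have h3 : y = x⁻¹ * y * x := by
      calc y = x * (x⁻¹ * y * x) * x⁻¹ := by group
        _ = (x⁻¹ * y * x) * x * x⁻¹ := by rw [h1]
        _ = x⁻¹ * y * x := by group
    rw [h3]
    exact hm
  let σ : Equiv.Perm ↥Y :=
    { toFun := fun y => ⟨x * y.1 * x⁻¹, hfwd y.1 y.2⟩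
      invFun := fun y => ⟨x⁻¹ * y.1 * x, hbwd y.1 y.2⟩
      left_inv := fun y => by
        apply Subtype.ext
        show x⁻¹ * (x * y.1 * x⁻¹) * x = y.1
        group
      right_inv := fun y => by
        apply Subtype.ext
        show x * (x⁻¹ * y.1 * x) * x⁻¹ = y.1
        group }
  have hσpow : ∀ k : ℕ, ∀ y : ↥Y, ((σ ^ k) y : G) = x ^ k * y.1 * (x ^ k)⁻¹ := by
    intro k
    induction k with
    | zero => intro y; simp
    | succ k ih =>
      intro y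
      rw [pow_succ', Equiv.Perm.mul_apply]
      show x * ((σ ^ k) y : G) * x⁻¹ = _
      rw [ih y, pow_succ']
      group
  have hσℓ : σ ^ ℓ ^ 1 = 1 := by
    rw [pow_one]
    ext y
    rw [hσpow ℓ y, hx]
    simp
  have hYfin : Fintype ↥Y := Fintype.ofFinite _
  by_contra hndvd
  have hndvd' : ¬ ℓ ∣ Fintype.card ↥Y := by
    rw [← Nat.card_eq_fintype_card, Nat.card_coe_set_eq]
    exact hndvd
  obtain ⟨y, hy⟩ := Equiv.Perm.exists_fixed_point_of_prime hndvd' hσℓ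
  obtain ⟨hyN, hyM⟩ := (hmemY y.1).mp y.2
  apply hyM
  apply hfix y.1 hyN
  have h1 : x * y.1 * x⁻¹ = y.1 := congrArg Subtype.val hy
  calc x * y.1 = x * y.1 * x⁻¹ * x := by group
    _ = y.1 * x := by rw [h1]

end Cfsg.Agent.Lib.helper57.Hup
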