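import Mathlib
import Cfsg.Agent.Lib.helper86.IvDefs

/-!
# S3928 piece ABEL: the abelianization of a group generated by `≤ m` elements of orders `≤ m`
has order `≤ (m!) ^ m`  (self-contained: the commutative case of ABGEN is proved here)
-/

set_option autoImplicit false

namespace Cfsg.Agent.Lib.helper86.IV

open scoped Pointwise

/-- A commutative group generated by a finset `O` of elements of exponent `e` has order
`≤ e ^ |O|`. -/
theorem h57_comm_gen_card {A : Type*} [CommGroup A] (O : Finset A) (e : ℕ) (he : 0 < e)
    (hpow : ∀ o ∈ O, o ^ e = 1) : Nat.card (Subgroup.closure (O : Set A)) ≤ e ^ O.card := by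
  classical
  induction O using Finset.induction_on with
  | empty => simp
  | insert a O ha ih =>
    have h1 : Subgroup.closure ((insert a O : Finset A) : Set A) =
        Subgroup.zpowers a ⊔ Subgroup.closure (O : Set A) := by
      rw [Finset.coe_insert, Set.insert_eq, Subgroup.closure_union, Subgroup.zpowers_eq_closure]
    rw [h1, Finset.card_insert_of_notMem ha, pow_succ']
    have h2 : Nat.card (Subgroup.zpowers a ⊔ Subgroup.closure (O : Set A) : Subgroup A) ≤
        Nat.card (Subgroup.zpowers a) * Nat.card (Subgroup.closure (O : Set A)) := by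
      have h5 := Subgroup.mul_normal (Subgroup.zpowers a) (Subgroup.closure (O : Set A))
      have h6 : Nat.card (Subgroup.zpowers a ⊔ Subgroup.closure (O : Set A) : Subgroup A) =
          Nat.card ((Subgroup.zpowers a : Set A) * (Subgroup.closure (O : Set A) : Set A) :
            Set A) := by
        rw [← h5]
        rfl
      rw [h6]
      exact Set.natCard_mul_le
    have h3 : Nat.card (Subgroup.zpowers a) ≤ e := by
      rw [Nat.card_zpowers]
      exact orderOf_le_of_pow_eq_one he (hpow a (Finset.mem_insert_self a O))
    have h4 := ih (fun o ho => hpow o (Finset.mem_insert_of_mem ho))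
    exact h2.trans (Nat.mul_le_mul h3 h4)

/-- ABEL : the abelianization of a group generated by `≤ m` elements of orders `≤ m` has order
`≤ (m!) ^ m`. -/
theorem iv_abelianization_card {G : Type*} [Group G] [Finite G] (S : Set G) (m : ℕ)
    (hS : Subgroup.closure S = ⊤) (hc : Nat.card S ≤ m) (ho : ∀ s ∈ S, orderOf s ≤ m) :
    (commutator G).index ≤ (Nat.factorial m) ^ m := by
  classical
  have hπ : Function.Surjective (Abelianization.of : G →* Abelianization G) :=
    QuotientGroup.mk_surjective
  have hfin : S.Finite := Set.toFinite S
  have hOcard : (hfin.toFinset.image (Abelianization.of : G →* Abelianization G)).card ≤ m := by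
    calc (hfin.toFinset.image (Abelianization.of : G →* Abelianization G)).card
        ≤ hfin.toFinset.card := Finset.card_image_le
      _ = Nat.card S := by rw [Nat.card_coe_set_eq, Set.ncard_eq_toFinset_card S hfin]
      _ ≤ m := hc
  have hOcl : Subgroup.closure
      ((hfin.toFinset.image (Abelianization.of : G →* Abelianization G) : Finset _) :
        Set (Abelianization G)) = ⊤ := by
    have h0 : ((hfin.toFinset.image (Abelianization.of : G →* Abelianization G) : Finset _) :
        Set (Abelianization G)) = (Abelianization.of : G →* Abelianization G) '' S := by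
      rw [Finset.coe_image, Set.Finite.coe_toFinset]
    rw [h0, ← MonoidHom.map_closure, hS, ← MonoidHom.range_eq_map, MonoidHom.range_eq_top]
    exact hπ
  have hOpow : ∀ o ∈ hfin.toFinset.image (Abelianization.of : G →* Abelianization G),
      o ^ (Nat.factorial m) = 1 := by
    intro o ho'
    obtain ⟨s, hs, rfl⟩ := Finset.mem_image.mp ho'
    rw [Set.Finite.mem_toFinset] at hs
    rw [← map_pow]
    have h3 : s ^ (Nat.factorial m) = 1 :=
      orderOf_dvd_iff_pow_eq_one.mp (Nat.dvd_factorial (orderOf_pos s) (ho s hs))
    rw [h3, map_one]
  have h1 := h57_comm_gen_card _ (Nat.factorial m) (Nat.factorial_pos m) hOpow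
  rw [hOcl] at h1
  have h2 : Nat.card (⊤ : Subgroup (Abelianization G)) = (commutator G).index := by
    rw [Subgroup.card_top]
    rfl
  rw [h2] at h1
  exact h1.trans (Nat.pow_le_pow_right (Nat.factorial_pos m) hOcard)

end Cfsg.Agent.Lib.helper86.IV
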