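import Mathlib
import Cfsg.Agent.Lib.helper57.KWBasic
import Cfsg.Agent.Lib.helper40.PResidual
import Cfsg.Agent.S0143
import Cfsg.Agent.S0566
import Cfsg.Agent.S0581
import Cfsg.Agent.S4215

/-!
# Wielandt's theorem: a finite product of two nilpotent groups of coprime orders is solvable

`KWCtx G` is the context of a minimal counterexample: `G` is simple, not solvable, and every proper
subgroup factorized by nilpotent subgroups of coprime orders is solvable.  For a factorization
`G = AB` (`KW A B`) in such a context we prove in turn: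

* `exists_prime_ne`: `|A|` has at least two prime divisors (Burnside's class-size lemma);
* `rpart_sup_eq_top`: a Sylow subgroup of `A` and a Sylow subgroup of `B` generate `G`;
* `eq_bot_of_rpart_le_normalizer`: a Sylow `r`-subgroup of `A` normalizes no nontrivial `q`-subgroup
  for `q` dividing `|B|`;
* `le_normalizer_of_le`: every proper subgroup containing `A` normalizes `A`;
* `centralizer_le_normalizer`: the centralizer of an element of prime order of `A` normalizes `A`
  (uses the Hall–Wielandt transfer theorem);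
* `mem_normalizer_of_inter`: `A` is a TI-subgroup; and a count of the conjugates of `A` gives
  `|A| < |B|`, whence a contradiction by symmetry.
-/

set_option autoImplicit false
set_option linter.style.haveILetI false
set_option linter.unusedSectionVars false
open Pointwise

namespace Cfsg.Agent.Lib.helper57

universe u

variable {G : Type*} [Group G]

/-- the context of a minimal counterexample to Wielandt's theorem -/
structure KWCtx (G : Type*) [Group G] : Prop where
  simple : IsSimpleGroup G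
  nonsolv : ¬ Group.IsSolvable G
  ih : ∀ H X Y : Subgroup G, H ≠ ⊤ → X ≤ H → Y ≤ H → Group.IsNilpotent X → Group.IsNilpotent Y →
    (Nat.card X).Coprime (Nat.card Y) → (∀ h ∈ H, ∃ x ∈ X, ∃ y ∈ Y, h = x * y) →
    Group.IsSolvable H

namespace KWCtx

variable [Finite G] (c : KWCtx G) {A B : Subgroup G}
include c

theorem solvable_of_fz (h : KW A B) {H : Subgroup G} (hH : H ≠ ⊤) (hf : Fz A B H) :
    Group.IsSolvable H :=
  c.ih H (H ⊓ A) (H ⊓ B) hH inf_le_left inf_le_left (kw_isNilpotent_of_le h.nilA inf_le_right)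
    (kw_isNilpotent_of_le h.nilB inf_le_right)
    (Nat.Coprime.coprime_dvd_left (Subgroup.card_dvd_of_le inf_le_right)
      (Nat.Coprime.coprime_dvd_right (Subgroup.card_dvd_of_le inf_le_right) h.cop)) hf

theorem eq_bot_of_normal {N : Subgroup G} (hN : N.Normal) (hne : N ≠ ⊤) : N = ⊥ := by
  haveI := c.simple
  exact (hN.eq_bot_or_eq_top).resolve_right hne

theorem ne_top_of_isNilpotent {X : Subgroup G} (hX : Group.IsNilpotent X) : X ≠ ⊤ := by
  rintro rfl
  apply c.nonsolv
  haveI : Group.IsNilpotent G := Group.nilpotent_of_mulEquiv (Subgroup.topEquiv (G := G))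
  infer_instance

theorem ne_top_of_isPGroup {p : ℕ} (hp : p.Prime) {X : Subgroup G} (hX : IsPGroup p X) :
    X ≠ ⊤ := by
  haveI : Fact p.Prime := ⟨hp⟩
  exact c.ne_top_of_isNilpotent hX.isNilpotent

theorem normalizer_ne_top {X : Subgroup G} (h1 : X ≠ ⊥) (h2 : X ≠ ⊤) :
    Subgroup.normalizer (X : Set G) ≠ ⊤ := by
  intro h
  exact h1 (c.eq_bot_of_normal (Subgroup.normalizer_eq_top_iff.1 h) h2)

theorem centralizer_ne_top {w : G} (hw : w ≠ 1) : Subgroup.centralizer ({w} : Set G) ≠ ⊤ := by
  intro h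
  have h1 : w ∈ Subgroup.center G := by
    rw [Subgroup.mem_center_iff]
    intro g
    have : g ∈ Subgroup.centralizer ({w} : Set G) := h ▸ Subgroup.mem_top g
    rw [mem_centralizer_singleton'] at this
    exact this.symm
  have h2 : Subgroup.center G ≠ ⊤ := by
    intro ht
    apply c.nonsolv
    exact Group.isSolvable_of_comm
      (fun a b => Subgroup.mem_center_iff.1 (ht ▸ Subgroup.mem_top b) a)
  have h3 := c.eq_bot_of_normal (inferInstance : (Subgroup.center G).Normal) h2
  rw [h3, Subgroup.mem_bot] at h1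
  exact hw h1

/-- `|A|` has a prime divisor different from any given number -/
theorem exists_prime_ne (h : KW A B) (q : ℕ) : ∃ s : ℕ, s.Prime ∧ s ∣ Nat.card A ∧ s ≠ q := by
  by_contra hcon
  push Not at hcon
  haveI := c.simple
  have hB1 : B ≠ ⊥ := by
    intro hb
    apply c.ne_top_of_isNilpotent h.nilA
    rw [eq_top_iff]
    intro g _
    obtain ⟨a, ha, b, hb', rfl⟩ := h.fact g
    rw [hb, Subgroup.mem_bot] at hb'
    rw [hb', mul_one]
    exact ha
  obtain ⟨z, hz, hz1, hzc⟩ : ∃ z ∈ B, z ≠ 1 ∧ ∀ b ∈ B, b * z = z * b := by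
    have hc1 : Nat.card B ≠ 1 := fun hc => hB1 (Subgroup.card_eq_one.1 hc)
    obtain ⟨s, hs, hsd⟩ := Nat.exists_prime_and_dvd hc1
    obtain ⟨z, hz, hz1, hzc⟩ := exists_central_mem_rpart h.nilB hs hsd
    exact ⟨z, rpart_le B s hz, hz1, hzc⟩
  have hle : B ≤ Subgroup.centralizer ({z} : Set G) := fun b hb => by
    rw [mem_centralizer_singleton']
    exact (hzc b hb).symm
  have hidx : (Subgroup.centralizer ({z} : Set G)).index ∣ Nat.card A := by
    rw [← h.index_right]
    exact Subgroup.index_dvd_of_le hle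
  have hprime : (Nat.card G).Prime := by
    by_cases hA1 : Nat.card A = 1
    · rw [hA1, Nat.dvd_one] at hidx
      exact Cfsg.Agent.S0143.result 2 0 Nat.prime_two z hz1 (by rw [hidx, pow_zero])
    · obtain ⟨s, hs, hsd⟩ := Nat.exists_prime_and_dvd hA1
      have hsq := hcon s hs hsd
      have hpow := Nat.eq_prime_pow_of_unique_prime_dvd (Nat.card_pos (α := A)).ne'
        (fun {d} hd hdd => (hcon d hd hdd).trans hsq.symm)
      rw [hpow] at hidx
      obtain ⟨j, -, hj⟩ := (Nat.dvd_prime_pow hs).1 hidx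
      exact Cfsg.Agent.S0143.result s j hs z hz1 hj
  apply c.nonsolv
  haveI : Fact (Nat.card G).Prime := ⟨hprime⟩
  have hp : IsPGroup (Nat.card G) G := IsPGroup.of_card (n := 1) (pow_one _).symm
  haveI := hp.isNilpotent
  infer_instance

/-- a Sylow subgroup of `A` and a Sylow subgroup of `B` generate `G` -/
theorem rpart_sup_eq_top (h : KW A B) {r s : ℕ} (hr : r.Prime) (hs : s.Prime)
    (hrA : r ∣ Nat.card A) (hsB : s ∣ Nat.card B) : rpart A r ⊔ rpart B s = ⊤ := by
  by_contra hD
  have hA1 := rpart_ne_bot hr hrA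
  have hB1 := rpart_ne_bot hs hsB
  have hDbot : rpart A r ⊔ rpart B s ≠ ⊥ := fun hb => hA1 (le_bot_iff.1 (hb ▸ le_sup_left))
  have hL := c.normalizer_ne_top hDbot hD
  have hFzL : Fz A B (Subgroup.normalizer ((rpart A r ⊔ rpart B s : Subgroup G) : Set G)) :=
    fz_normalizer_sup h.fact (rpart_le A r) (le_normalizer_rpart h.nilA hr) (rpart_le B s)
      (le_normalizer_rpart h.nilB hs)
  have hLs := c.solvable_of_fz h hL hFzL
  obtain ⟨Y, hYL, hY⟩ := exists_prod_subgroup_of_solvable hLs hFzL (rpart_le A r)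
    (le_sup_left.trans Subgroup.le_normalizer) (le_normalizer_rpart h.nilA hr) (rpart_le B s)
    (le_sup_right.trans Subgroup.le_normalizer) (le_normalizer_rpart h.nilB hs)
    (rpart_card_coprime_index h.nilA hr (h.not_dvd_index hr hrA))
    (rpart_card_coprime_index h.nilB hs (h.symm.not_dvd_index hs hsB))
  have hYtop : Y ≠ ⊤ := fun hY' => hL (top_le_iff.1 (hY' ▸ hYL))
  obtain ⟨N, hNn, hNt, hN⟩ := Cfsg.Agent.S0566.result (rpart A r) (rpart B s) hA1 hB1 (by
    intro x
    obtain ⟨a, ha, b, hb, rfl⟩ := h.fact x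
    refine ⟨MulAut.conj a • Y, ?_, ?_⟩
    · intro ht
      apply hYtop
      apply Subgroup.eq_top_of_card_eq
      rw [← Cfsg.Agent.Lib.helper12.card_conj_smul a Y, ht, Subgroup.card_top]
    · ext g
      rw [SetLike.mem_coe, Cfsg.Agent.Lib.helper12.mem_conj_smul_iff, hY, Set.mem_mul]
      constructor
      · rintro ⟨u, hu, v, hv, e⟩
        refine ⟨a * u * a⁻¹,
          conj_mem_of_mem_normalizer (le_normalizer_rpart h.nilA hr ha) hu, a * v * a⁻¹, ?_, ?_⟩
        · rw [SetLike.mem_coe, Cfsg.Agent.Lib.helper12.mem_conj_smul_iff]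
          have h1 := inv_conj_mem_of_mem_normalizer (le_normalizer_rpart h.nilB hs hb) hv
          have e2 : (a * b)⁻¹ * (a * v * a⁻¹) * (a * b) = b⁻¹ * v * b := by group
          rw [e2]
          exact h1
        · have e3 : (a * u * a⁻¹) * (a * v * a⁻¹) = a * (u * v) * a⁻¹ := by group
          rw [e3, ← e]
          group
      · rintro ⟨u', hu', w', hw', rfl⟩
        rw [SetLike.mem_coe, Cfsg.Agent.Lib.helper12.mem_conj_smul_iff] at hw'
        refine ⟨a⁻¹ * u' * a,
          inv_conj_mem_of_mem_normalizer (le_normalizer_rpart h.nilA hr ha) hu',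
          b * ((a * b)⁻¹ * w' * (a * b)) * b⁻¹,
          conj_mem_of_mem_normalizer (le_normalizer_rpart h.nilB hs hb) hw', ?_⟩
        group)
  have hNb := c.eq_bot_of_normal hNn hNt
  rcases hN with hN | hN
  · exact hA1 (le_bot_iff.1 (hNb ▸ hN))
  · exact hB1 (le_bot_iff.1 (hNb ▸ hN))

/-- a Sylow `r`-subgroup of `A` normalizes no nontrivial `q`-subgroup, `q` dividing `|B|` -/
theorem eq_bot_of_rpart_le_normalizer (h : KW A B) {r q : ℕ} (hr : r.Prime) (hq : q.Prime)
    (hrA : r ∣ Nat.card A) (hqB : q ∣ Nat.card B) {Y : Subgroup G} (hY : IsPGroup q Y)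
    (hn : rpart A r ≤ Subgroup.normalizer (Y : Set G)) : Y = ⊥ := by
  obtain ⟨y, hy⟩ := h.exists_conj_rpart_ge hq hqB hY
  have h' := h.conj_right y
  obtain ⟨s, hs, hsB, hsq⟩ := c.exists_prime_ne h'.symm q
  have htop := c.rpart_sup_eq_top h' hr hs hrA hsB
  have h2 : rpart (MulAut.conj y • B) s ≤ Subgroup.normalizer (Y : Set G) := by
    apply le_normalizer_of_conj_mem
    intro g hg x hx
    have := rpart_commute h'.nilB hs hq hsq hg (hy hx)
    rw [this, mul_inv_cancel_right]
    exact hx
  have h3 : Subgroup.normalizer (Y : Set G) = ⊤ := top_le_iff.1 (htop ▸ sup_le hn h2)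
  exact c.eq_bot_of_normal (Subgroup.normalizer_eq_top_iff.1 h3) (c.ne_top_of_isPGroup hq hY)

/-- every proper subgroup containing `A` normalizes `A` -/
theorem le_normalizer_of_le (h : KW A B) {H : Subgroup G} (hH : H ≠ ⊤) (hAH : A ≤ H) :
    H ≤ Subgroup.normalizer (A : Set G) := by
  have hHs := c.solvable_of_fz h hH (fz_of_le_left h.fact hAH)
  obtain ⟨F, hFH, hFn, hHF, hFc, hFmax⟩ := exists_fitting H hHs
  obtain ⟨r0, hr0, hr0A, -⟩ := c.exists_prime_ne h 0
  have hFcop : (Nat.card F).Coprime (Nat.card B) := by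
    apply Nat.Coprime.symm
    apply Nat.coprime_of_dvd
    intro q hq hqB
    apply not_dvd_card_of_rpart_eq_bot hq
    exact c.eq_bot_of_rpart_le_normalizer h hr0 hq hr0A hqB (rpart_isPGroup hFn hq)
      (((rpart_le A r0).trans hAH).trans (hHF.trans (normalizer_le_normalizer_rpart hFn hq)))
  have hFA : F ≤ A := le_of_le_normalizer_of_coprime (H := ⊤) le_top le_top (hAH.trans hHF)
    (by rw [Subgroup.relIndex_top_right, h.index_left]; exact hFcop)
  have key : ∀ p : ℕ, p.Prime → rpart A p ≤ F := by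
    intro p hp
    obtain ⟨r, hr, hrA, hrp⟩ := c.exists_prime_ne h p
    have hFrA : ∀ s : ℕ, s.Prime → rpart F s ≤ rpart A s := fun s hs x hx => by
      obtain ⟨hxF, k, hk⟩ := (mem_rpart_iff hFn hs).1 hx
      exact mem_rpart_of A s (hFA hxF) hk
    have hHFr : H ≤ Subgroup.normalizer (rpart F r : Set G) :=
      hHF.trans (normalizer_le_normalizer_rpart hFn hr)
    have hHK : H ≤ Subgroup.normalizer
        ((H ⊓ Subgroup.centralizer (rpart F r : Set G) : Subgroup G) : Set G) := by
      apply le_normalizer_of_conj_mem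
      intro g hg x hx
      obtain ⟨hxH, hxc⟩ := Subgroup.mem_inf.1 hx
      refine Subgroup.mem_inf.2 ⟨H.mul_mem (H.mul_mem hg hxH) (H.inv_mem hg), ?_⟩
      rw [Subgroup.mem_centralizer_iff]
      intro f hf
      have h1 := inv_conj_mem_of_mem_normalizer (hHFr hg) hf
      have h2 := Subgroup.mem_centralizer_iff.1 hxc _ h1
      calc f * (g * x * g⁻¹) = g * ((g⁻¹ * f * g) * x) * g⁻¹ := by group
        _ = g * (x * (g⁻¹ * f * g)) * g⁻¹ := by rw [h2]
        _ = g * x * g⁻¹ * f := by group
    have hApK : rpart A p ≤ H ⊓ Subgroup.centralizer (rpart F r : Set G) := by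
      intro x hx
      refine Subgroup.mem_inf.2 ⟨hAH (rpart_le A p hx), ?_⟩
      rw [Subgroup.mem_centralizer_iff]
      intro f hf
      exact (rpart_commute h.nilA hp hr hrp.symm hx (hFrA r hr hf)).symm
    have hZc : ∀ z ∈ (H ⊓ Subgroup.centralizer (rpart F r : Set G)) ⊓ rpart A r,
        ∀ k ∈ H ⊓ Subgroup.centralizer (rpart F r : Set G), z * k = k * z := by
      intro z hz k hk
      obtain ⟨hzK, hzr⟩ := Subgroup.mem_inf.1 hz
      obtain ⟨hzH, hzc⟩ := Subgroup.mem_inf.1 hzK
      have hzF : z ∈ F := by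
        apply hFc z hzH
        have hJ : F ≤ F ⊓ Subgroup.centralizer ({z} : Set G) := by
          apply le_of_forall_rpart_le hFn
          intro s hs x hx
          refine Subgroup.mem_inf.2 ⟨rpart_le F s hx, ?_⟩
          rw [mem_centralizer_singleton']
          by_cases hsr : s = r
          · rw [hsr] at hx
            exact (Subgroup.mem_centralizer_iff.1 hzc x hx).symm
          · exact rpart_commute h.nilA hr hs (Ne.symm hsr) hzr (hFrA s hs hx)
        intro f hf
        exact mem_centralizer_singleton'.1 (Subgroup.mem_inf.1 (hJ hf)).2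
      obtain ⟨-, kz, hkz⟩ := (mem_rpart_iff h.nilA hr).1 hzr
      have hzFr : z ∈ rpart F r := mem_rpart_of F r hzF hkz
      exact Subgroup.mem_centralizer_iff.1 (Subgroup.mem_inf.1 hk).2 z hzFr
    have hZi : ¬ r ∣ ((H ⊓ Subgroup.centralizer (rpart F r : Set G)) ⊓ rpart A r).relIndex
        (H ⊓ Subgroup.centralizer (rpart F r : Set G)) := by
      haveI : Fact r.Prime := ⟨hr⟩
      obtain ⟨P, hP⟩ := exists_sylow_eq_rpart h.nilA (r := r) (h.not_dvd_index hr hrA)
      have hPH : (P : Subgroup G) ≤ H := hP ▸ (rpart_le A r).trans hAH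
      haveI : ((H ⊓ Subgroup.centralizer (rpart F r : Set G)).subgroupOf H).Normal :=
        (Subgroup.normal_subgroupOf_iff_le_normalizer inf_le_left).2 hHK
      have h1 := Cfsg.Agent.Lib.helper12.not_dvd_relIndex_of_normal (P.subtype hPH)
        ((H ⊓ Subgroup.centralizer (rpart F r : Set G)).subgroupOf H)
      rw [Sylow.coe_subtype, Subgroup.relIndex_subgroupOf inf_le_left, hP] at h1
      rwa [Subgroup.inf_relIndex_left]
    have hKcop : (Nat.card (H ⊓ Subgroup.centralizer (rpart F r : Set G) : Subgroup G)).Coprime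
        (Nat.card B) := by
      apply Nat.Coprime.symm
      apply Nat.coprime_of_dvd
      intro q hq hqB
      obtain ⟨Y, -, hYq, hYn, hYb⟩ := exists_invariant_sylow hr hq (rpart_isPGroup h.nilA hr)
        (((rpart_le A r).trans hAH).trans hHK) _ hZc hZi
      exact hYb (c.eq_bot_of_rpart_le_normalizer h hr hq hrA hqB hYq hYn)
    have hKA : H ⊓ Subgroup.centralizer (rpart F r : Set G) ≤ A :=
      le_of_le_normalizer_of_coprime (H := ⊤) le_top le_top (hAH.trans hHK)
        (by rw [Subgroup.relIndex_top_right, h.index_left]; exact hKcop)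
    exact hApK.trans (hFmax _ inf_le_left (kw_isNilpotent_of_le h.nilA hKA) hHK)
  have hAF : A ≤ F := le_of_forall_rpart_le h.nilA key
  have hFeq : F = A := le_antisymm hFA hAF
  rw [← hFeq]
  exact hHF

theorem normalizer_rpart_le (h : KW A B) {r : ℕ} (hr : r.Prime) (hrA : r ∣ Nat.card A) :
    Subgroup.normalizer (rpart A r : Set G) ≤ Subgroup.normalizer (A : Set G) :=
  c.le_normalizer_of_le h (c.normalizer_ne_top (rpart_ne_bot hr hrA)
    (c.ne_top_of_isPGroup hr (rpart_isPGroup h.nilA hr))) (le_normalizer_rpart h.nilA hr)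

/-- if the centralizer of an element `u` of prime order of `A` normalizes `A`, then every conjugate
of `A` containing `u` is `A` -/
theorem mem_normalizer_of_core (h : KW A B) {u g : G} {p : ℕ} (hp : p.Prime) (hup : u ^ p = 1)
    (hC : Subgroup.centralizer ({u} : Set G) ≤ Subgroup.normalizer (A : Set G))
    (hg : g⁻¹ * u * g ∈ A) : g ∈ Subgroup.normalizer (A : Set G) := by
  obtain ⟨r, hr, hrA, hrp⟩ := c.exists_prime_ne h p
  have hA'n := kw_isNilpotent_conj h.nilA g
  have hu' : u ∈ rpart (MulAut.conj g • A) p :=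
    mem_rpart_of _ p (Cfsg.Agent.Lib.helper12.mem_conj_smul_iff.2 hg) (k := 1) (by rwa [pow_one])
  have claim : ∀ x ∈ rpart A r, g * x * g⁻¹ ∈ rpart A r := by
    intro x hx
    obtain ⟨-, k, hk⟩ := (mem_rpart_iff h.nilA hr).1 hx
    have hk' : (g * x * g⁻¹) ^ r ^ k = 1 := by rw [conj_pow, hk, mul_one, mul_inv_cancel]
    have h1 : g * x * g⁻¹ ∈ rpart (MulAut.conj g • A) r := conj_mem_rpart_smul h.nilA hr g hx
    have h2 : g * x * g⁻¹ ∈ Subgroup.centralizer ({u} : Set G) := by
      rw [mem_centralizer_singleton']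
      exact rpart_commute hA'n hp hr hrp.symm hu' h1
    have h4 : g * x * g⁻¹ ∈ A := h.mem_of_normalizer (hC h2)
      (coprime_orderOf_of_pow hr (h.not_dvd_right hr hrA) hk')
    exact mem_rpart_of A r h4 hk'
  exact c.normalizer_rpart_le h hr hrA (mem_normalizer_of_conj_mem claim)

/-- a conjugate of `A` containing a nontrivial central element of `A` is `A` -/
theorem mem_normalizer_of_central (h : KW A B) {z g : G} (hz1 : z ≠ 1)
    (hzc : ∀ a ∈ A, a * z = z * a) (hg : g⁻¹ * z * g ∈ A) :
    g ∈ Subgroup.normalizer (A : Set G) := by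
  obtain ⟨p, hp, n, hnp, hn1⟩ := exists_prime_pow_ne_one hz1
  have hC : Subgroup.centralizer ({z ^ n} : Set G) ≤ Subgroup.normalizer (A : Set G) := by
    apply c.le_normalizer_of_le h (c.centralizer_ne_top hn1)
    intro a ha
    rw [mem_centralizer_singleton']
    exact ((show Commute a z from hzc a ha).pow_right n).eq.symm
  apply c.mem_normalizer_of_core h hp hnp hC
  rw [← kw_inv_conj_pow]
  exact A.pow_mem hg n

/-- if the centralizer of `u` is factorized and contains a Sylow subgroup of `A`, it normalizes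
`A` -/
theorem centralizer_le_of_fz (h : KW A B) {u : G} (hu1 : u ≠ 1)
    (hfz : Fz A B (Subgroup.centralizer ({u} : Set G))) {r : ℕ} (hr : r.Prime)
    (hrA : r ∣ Nat.card A) (hRC : rpart A r ≤ Subgroup.centralizer ({u} : Set G)) :
    Subgroup.centralizer ({u} : Set G) ≤ Subgroup.normalizer (A : Set G) := by
  have hCt := c.centralizer_ne_top hu1
  have hCs := c.solvable_of_fz h hCt hfz
  obtain ⟨F, hFH, hFn, hHF, hFc, -⟩ := exists_fitting _ hCs
  have hFcop : (Nat.card F).Coprime (Nat.card B) := by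
    apply Nat.Coprime.symm
    apply Nat.coprime_of_dvd
    intro q hq hqB
    apply not_dvd_card_of_rpart_eq_bot hq
    exact c.eq_bot_of_rpart_le_normalizer h hr hq hrA hqB (rpart_isPGroup hFn hq)
      (hRC.trans (hHF.trans (normalizer_le_normalizer_rpart hFn hq)))
  have hFA : F ≤ A := hfz.le_left_of_coprime h hFH hHF hFcop
  obtain ⟨z, hzr, hz1, hzc⟩ := exists_central_mem_rpart h.nilA hr hrA
  have hzF : z ∈ F := hFc z (hRC hzr) (fun f hf => (hzc f (hFA hf)).symm)
  intro x hx
  have h1 : x * z * x⁻¹ ∈ A := hFA (conj_mem_of_mem_normalizer (hHF hx) hzF)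
  have h2 : x⁻¹ ∈ Subgroup.normalizer (A : Set G) := by
    apply c.mem_normalizer_of_central h hz1 hzc
    rwa [inv_inv]
  simpa using inv_mem h2

/-- an element `u` commuting with a `q`-element `w` of the normalizer of `A` (`q` dividing `|B|`)
normalizes a conjugate of `B` -/
theorem exists_conj_normalized (h : KW A B) {u w : G} {q : ℕ} (hq : q.Prime)
    (hqB : q ∣ Nat.card B) (hwu : u * w = w * u) (hwM : w ∈ Subgroup.normalizer (A : Set G))
    (hwq : w ^ q = 1) (hw1 : w ≠ 1) :
    ∃ y : G, u ∈ Subgroup.normalizer ((MulAut.conj y • B : Subgroup G) : Set G) := by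
  haveI : Fact q.Prime := ⟨hq⟩
  have hzp : IsPGroup q (Subgroup.zpowers w) :=
    IsPGroup.of_card (n := 1) (by rw [Nat.card_zpowers, orderOf_eq_prime hwq hw1, pow_one])
  obtain ⟨y, hy⟩ := h.exists_conj_rpart_ge hq hqB hzp
  refine ⟨y, ?_⟩
  have h' := h.conj_right y
  have hwB : w ∈ rpart (MulAut.conj y • B) q := hy (Subgroup.mem_zpowers w)
  have hXt := c.centralizer_ne_top hw1
  have hfz : Fz A (MulAut.conj y • B) (Subgroup.centralizer ({w} : Set G)) :=
    fz_centralizer h' hwM (Subgroup.le_normalizer (rpart_le _ q hwB))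
  have hXs := c.solvable_of_fz h' hXt hfz
  obtain ⟨F, hFH, hFn, hHF, hFc, -⟩ := exists_fitting _ hXs
  obtain ⟨s, hs, hsB, hsq⟩ := c.exists_prime_ne h'.symm q
  have hBsX : rpart (MulAut.conj y • B) s ≤ Subgroup.centralizer ({w} : Set G) := by
    intro v hv
    rw [mem_centralizer_singleton']
    exact rpart_commute h'.nilB hq hs hsq.symm hwB hv
  have hFcop : (Nat.card F).Coprime (Nat.card A) := by
    apply Nat.Coprime.symm
    apply Nat.coprime_of_dvd
    intro p' hp' hp'A
    apply not_dvd_card_of_rpart_eq_bot hp'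
    exact c.eq_bot_of_rpart_le_normalizer h'.symm hs hp' hsB hp'A (rpart_isPGroup hFn hp')
      (hBsX.trans (hHF.trans (normalizer_le_normalizer_rpart hFn hp')))
  have hFB : F ≤ MulAut.conj y • B := hfz.le_right_of_coprime h' hFH hHF hFcop
  obtain ⟨zs, hzs, hzs1, hzsc⟩ := exists_central_mem_rpart h'.nilB hs hsB
  have hzsF : zs ∈ F := hFc zs (hBsX hzs) (fun f hf => (hzsc f (hFB hf)).symm)
  have huX : u ∈ Subgroup.centralizer ({w} : Set G) := by
    rw [mem_centralizer_singleton']
    exact hwu.symm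
  have h1 : u * zs * u⁻¹ ∈ MulAut.conj y • B :=
    hFB (conj_mem_of_mem_normalizer (hHF huX) hzsF)
  have h2 : u⁻¹ ∈ Subgroup.normalizer ((MulAut.conj y • B : Subgroup G) : Set G) := by
    apply c.mem_normalizer_of_central h'.symm hzs1 hzsc
    rwa [inv_inv]
  simpa using inv_mem h2

/-- a subgroup `C` containing a Sylow `r`-subgroup of `A` with `C ∩ N(A) ≤ A` lies in `A`
(by the Hall–Wielandt transfer theorem and Wielandt's theorem on nilpotent Hall subgroups) -/
theorem le_of_rpart_le_of_inf_le (h : KW A B) {C : Subgroup G} {r : ℕ} (hr : r.Prime)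
    (hrA : r ∣ Nat.card A) (hRC : rpart A r ≤ C)
    (hcase : C ⊓ Subgroup.normalizer (A : Set G) ≤ A) : C ≤ A := by
  haveI : Fact r.Prime := ⟨hr⟩
  obtain ⟨P, hP⟩ := exists_sylow_eq_rpart h.nilA (r := r) (h.not_dvd_index hr hrA)
  have hPC : (P : Subgroup G) ≤ C := hP ▸ hRC
  obtain ⟨z, hzr, hz1, hzc⟩ := exists_central_mem_rpart h.nilA hr hrA
  obtain ⟨Q, hQdef⟩ : ∃ Q : Subgroup G, Q = rpart A r ⊓ Subgroup.centralizer (A : Set G) :=
    ⟨_, rfl⟩
  have hzQ : z ∈ Q := by
    rw [hQdef]
    exact Subgroup.mem_inf.2 ⟨hzr, by rw [Subgroup.mem_centralizer_iff]; exact hzc⟩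
  have hQr : Q ≤ rpart A r := hQdef ▸ inf_le_left
  have hQc : ∀ x ∈ Q, ∀ a ∈ A, a * x = x * a := fun x hx a ha => by
    rw [hQdef] at hx
    exact Subgroup.mem_centralizer_iff.1 (Subgroup.mem_inf.1 hx).2 a ha
  have hQn : Subgroup.normalizer (A : Set G) ≤ Subgroup.normalizer (Q : Set G) := by
    apply le_normalizer_of_conj_mem
    intro g hg x hx
    rw [hQdef]
    refine Subgroup.mem_inf.2
      ⟨conj_mem_of_mem_normalizer (normalizer_le_normalizer_rpart h.nilA hr hg) (hQr hx), ?_⟩
    rw [Subgroup.mem_centralizer_iff]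
    intro a ha
    have h1 := hQc x hx _ (inv_conj_mem_of_mem_normalizer hg ha)
    calc a * (g * x * g⁻¹) = g * ((g⁻¹ * a * g) * x) * g⁻¹ := by group
      _ = g * (x * (g⁻¹ * a * g)) * g⁻¹ := by rw [h1]
      _ = g * x * g⁻¹ * a := by group
  have hQ1 : Q ≠ ⊥ := fun hb => hz1 (by rw [hb, Subgroup.mem_bot] at hzQ; exact hzQ)
  have hQp : IsPGroup r Q := (rpart_isPGroup h.nilA hr).to_le hQr
  have hNQ : Subgroup.normalizer (Q : Set G) ≤ Subgroup.normalizer (A : Set G) :=
    c.le_normalizer_of_le h (c.normalizer_ne_top hQ1 (c.ne_top_of_isPGroup hr hQp))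
      (Subgroup.le_normalizer.trans hQn)
  have hQC : Q ≤ C := hQr.trans hRC
  -- `Q` is weakly closed in the Sylow subgroup with respect to `C`
  have hwc : Cfsg.IsWeaklyClosed (Q.subgroupOf C) ((P.subtype hPC : Sylow r C) : Subgroup C) := by
    refine ⟨?_, fun g hle => ?_⟩
    · intro x hx
      rw [Sylow.coe_subtype, Subgroup.mem_subgroupOf, hP]
      exact hQr (Subgroup.mem_subgroupOf.1 hx)
    · have hgN : (g : G) ∈ Subgroup.normalizer (Q : Set G) := by
        have h1 : MulAut.conj g ⟨z, hQC hzQ⟩ ∈ ((P.subtype hPC : Sylow r C) : Subgroup C) :=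
          hle (Subgroup.mem_map_of_mem _ (Subgroup.mem_subgroupOf.2 hzQ))
        rw [Sylow.coe_subtype, Subgroup.mem_subgroupOf, hP] at h1
        have h2 : (g : G) * z * (g : G)⁻¹ ∈ A := rpart_le A r h1
        have h3 : (g : G)⁻¹ ∈ Subgroup.normalizer (A : Set G) := by
          apply c.mem_normalizer_of_central h hz1 hzc
          rwa [inv_inv]
        exact hQn (by simpa using inv_mem h3)
      apply le_antisymm
      · rintro _ ⟨y, hy, rfl⟩
        exact Subgroup.mem_subgroupOf.2
          (conj_mem_of_mem_normalizer hgN (Subgroup.mem_subgroupOf.1 hy))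
      · intro x hx
        refine ⟨g⁻¹ * x * g, Subgroup.mem_subgroupOf.2
          (inv_conj_mem_of_mem_normalizer hgN (Subgroup.mem_subgroupOf.1 hx)), ?_⟩
        simp [MulAut.conj_apply, mul_assoc]
  have hE : ∀ u ∈ ((P.subtype hPC : Sylow r C) : Subgroup C), ∀ z ∈ Q.subgroupOf C,
      (fun y : C => y⁻¹ * z⁻¹ * y * z)^[r - 1] u = 1 := by
    intro u hu z hz
    rw [Sylow.coe_subtype, Subgroup.mem_subgroupOf, hP] at hu
    have hcomm : u * z = z * u :=
      Subtype.ext (hQc _ (Subgroup.mem_subgroupOf.1 hz) _ (rpart_le A r hu))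
    have hf1 : u⁻¹ * z⁻¹ * u * z = 1 := by
      rw [mul_assoc, hcomm]
      group
    have hfix : (fun y : C => y⁻¹ * z⁻¹ * y * z) 1 = 1 := by simp
    obtain ⟨m, hm⟩ : ∃ m, r - 1 = m + 1 := ⟨r - 2, by have := hr.two_le; omega⟩
    rw [hm, Function.iterate_succ_apply, hf1]
    exact Function.iterate_fixed hfix m
  have key := Cfsg.Agent.S4215.result (P.subtype hPC) (Q.subgroupOf C) hwc hE
  -- the normalizer of `Q` in `C` lies in `A`, hence is nilpotent
  have hTA : ∀ t : C, t ∈ Subgroup.normalizer ((Q.subgroupOf C : Subgroup C) : Set C) →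
      (t : G) ∈ A := by
    intro t ht
    apply hcase
    refine Subgroup.mem_inf.2 ⟨t.2, hNQ (mem_normalizer_of_conj_mem ?_)⟩
    intro x hx
    exact Subgroup.mem_subgroupOf.1 (conj_mem_of_mem_normalizer ht
      (Subgroup.mem_subgroupOf.2 (show ((⟨x, hQC hx⟩ : C) : G) ∈ Q from hx)))
  have hTnil : Group.IsNilpotent
      (Subgroup.normalizer ((Q.subgroupOf C : Subgroup C) : Set C)) := by
    have h1 : (Subgroup.normalizer ((Q.subgroupOf C : Subgroup C) : Set C)).map C.subtype ≤ A := by
      rintro _ ⟨t, ht, rfl⟩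
      exact hTA t ht
    have h2 := kw_isNilpotent_of_le h.nilA h1
    exact Group.nilpotent_of_mulEquiv
      ((Subgroup.normalizer ((Q.subgroupOf C : Subgroup C) : Set C)).equivMapOfInjective
        C.subtype C.subtype_injective).symm
  -- the Sylow subgroup meets the `r`-residual of `C` trivially
  have hPK : ∀ x : C, (x : G) ∈ rpart A r → x ∈ Cfsg.pResidual r C → x = 1 := by
    intro x hxr hxK
    have hxN : x ∈ Subgroup.normalizer ((Q.subgroupOf C : Subgroup C) : Set C) := by
      rw [Subgroup.mem_normalizer_iff]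
      intro y
      exact Subgroup.mem_normalizer_iff.1
        (Subgroup.le_normalizer.trans hQn (rpart_le A r hxr)) (y : G)
    have hx2 : x ∈ Cfsg.pResidualOf r
        (Subgroup.normalizer ((Q.subgroupOf C : Subgroup C) : Set C)) := by
      rw [key]
      exact Subgroup.mem_inf.2 ⟨hxK, hxN⟩
    obtain ⟨t, ht, rfl⟩ := hx2
    obtain ⟨-, k, hk⟩ := (mem_rpart_iff h.nilA hr).1 hxr
    haveI := hTnil
    have ht1 : t = 1 := eq_one_of_mem_pResidual_of_isNilpotent ht (k := k)
      (Subtype.ext (Subtype.ext (by simpa using hk)))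
    rw [ht1]
    rfl
  have hKn : (Cfsg.pResidual r C).Normal := Cfsg.Agent.Lib.helper40.pResidual_normal r C
  have hrK : ¬ r ∣ Nat.card (Cfsg.pResidual r C) := by
    intro hd
    obtain ⟨x, hx⟩ := exists_prime_orderOf_dvd_card' r hd
    have hzp : IsPGroup r (Subgroup.zpowers (x : C)) :=
      IsPGroup.of_card (n := 1) (by rw [Nat.card_zpowers, Subgroup.orderOf_coe, hx, pow_one])
    obtain ⟨S, hS⟩ := hzp.exists_le_sylow
    obtain ⟨g, hg⟩ := MulAction.exists_smul_eq C (P.subtype hPC) S
    have h1 : (x : C) ∈ ((g • P.subtype hPC : Sylow r C) : Subgroup C) :=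
      hg ▸ hS (Subgroup.mem_zpowers _)
    rw [Sylow.coe_subgroup_smul, Cfsg.Agent.Lib.helper12.mem_conj_smul_iff, Sylow.coe_subtype,
      Subgroup.mem_subgroupOf, hP] at h1
    have h2 : g⁻¹ * (x : C) * g ∈ Cfsg.pResidual r C := by
      have := hKn.conj_mem (x : C) x.2 g⁻¹
      simpa using this
    have h3 := hPK _ h1 h2
    have h4 : (x : C) = 1 := by
      have e : g * (g⁻¹ * (x : C) * g) * g⁻¹ = (x : C) := by group
      rw [← e, h3]
      group
    have h5 : x = 1 := Subtype.ext h4
    rw [h5, orderOf_one] at hx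
    exact hr.one_lt.ne hx
  -- no prime divisor of `|B|` divides `|C|`
  have hCq : ∀ q : ℕ, q.Prime → q ∣ Nat.card B → ¬ q ∣ Nat.card C := by
    intro q hq hqB hqC
    haveI : Fact q.Prime := ⟨hq⟩
    have hqr : q ≠ r := fun e => h.not_dvd_right hr hrA (e ▸ hqB)
    have hRK : rpart A r ≤ Subgroup.normalizer
        (((Cfsg.pResidual r C).map C.subtype : Subgroup G) : Set G) := by
      apply le_normalizer_of_conj_mem
      rintro g hg _ ⟨k, hk, rfl⟩
      exact ⟨_, hKn.conj_mem k hk ⟨g, hRC hg⟩, rfl⟩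
    have hZi : ¬ r ∣ (⊥ : Subgroup G).relIndex ((Cfsg.pResidual r C).map C.subtype) := by
      rw [Subgroup.relIndex_bot_left, Cfsg.Agent.Lib.helper27.card_map_subtype]
      exact hrK
    obtain ⟨Y, -, hYq, hYn, hYb⟩ := exists_invariant_sylow hr hq (rpart_isPGroup h.nilA hr) hRK ⊥
      (fun z hz k _ => by rw [Subgroup.mem_bot] at hz; rw [hz, one_mul, mul_one]) hZi
    have hYbot := c.eq_bot_of_rpart_le_normalizer h hr hq hrA hqB hYq hYn
    have h1 := hYb hYbot
    rw [Cfsg.Agent.Lib.helper27.card_map_subtype] at h1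
    obtain ⟨y, hy⟩ := exists_prime_orderOf_dvd_card' q hqC
    have hyK : y ∈ Cfsg.pResidual r C := Subgroup.subset_closure (by
      show Nat.Coprime (orderOf y) r
      rw [hy]
      exact (Nat.coprime_primes hq hr).2 hqr)
    apply h1
    have := orderOf_dvd_natCard (⟨y, hyK⟩ : Cfsg.pResidual r C)
    rwa [Subgroup.orderOf_mk, hy] at this
  have hCA : ∀ p : ℕ, p.Prime → p ∣ Nat.card C → p ∣ Nat.card A := by
    intro p hp hpC
    have h1 : p ∣ Nat.card A * Nat.card B := by
      rw [← h.card]
      exact hpC.trans (Subgroup.card_subgroup_dvd_card C)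
    rcases (Nat.Prime.dvd_mul hp).1 h1 with h2 | h2
    · exact h2
    · exact absurd hpC (hCq p hp h2)
  obtain ⟨x, hx⟩ := Cfsg.Agent.S0581.result A C h.nilA (by rw [h.index_left]; exact h.cop) hCA
  have hxn : x⁻¹ ∈ Subgroup.normalizer (rpart A r : Set G) := by
    apply mem_normalizer_of_conj_mem
    intro y hy
    obtain ⟨-, k, hk⟩ := (mem_rpart_iff h.nilA hr).1 hy
    have h1 := Cfsg.Agent.Lib.helper12.mem_conj_smul_iff.1 (hx (hRC hy))
    rw [inv_inv]
    exact mem_rpart_of A r h1 (k := k) (by rw [kw_inv_conj_pow, hk, mul_one, inv_mul_cancel])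
  have hxA : x ∈ Subgroup.normalizer (A : Set G) := by
    simpa using inv_mem (c.normalizer_rpart_le h hr hrA hxn)
  rw [Cfsg.Agent.Lib.helper12.mem_normalizer_iff_conj_smul_eq.1 hxA] at hx
  exact hx

/-- the centralizer of an element of prime order of `A` normalizes `A` -/
theorem centralizer_le_normalizer (h : KW A B) {u : G} {p : ℕ} (hp : p.Prime) (hu : u ∈ A)
    (hup : u ^ p = 1) (hu1 : u ≠ 1) :
    Subgroup.centralizer ({u} : Set G) ≤ Subgroup.normalizer (A : Set G) := by
  obtain ⟨r, hr, hrA, hrp⟩ := c.exists_prime_ne h p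
  have hup' : u ∈ rpart A p := mem_rpart_of A p hu (k := 1) (by rwa [pow_one])
  have hRC : rpart A r ≤ Subgroup.centralizer ({u} : Set G) := by
    intro x hx
    rw [mem_centralizer_singleton']
    exact rpart_commute h.nilA hp hr hrp.symm hup' hx
  by_cases hcase : Subgroup.centralizer ({u} : Set G) ⊓ Subgroup.normalizer (A : Set G) ≤ A
  · exact (c.le_of_rpart_le_of_inf_le h hr hrA hRC hcase).trans Subgroup.le_normalizer
  · obtain ⟨x, hx, hxA⟩ := SetLike.not_le_iff_exists.1 hcase
    obtain ⟨hxC, hxM⟩ := Subgroup.mem_inf.1 hx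
    have hnc : ¬ (orderOf x).Coprime (Nat.card B) := fun hc => hxA (h.mem_of_normalizer hxM hc)
    obtain ⟨q, hq, hqx, hqB⟩ := Nat.Prime.not_coprime_iff_dvd.1 hnc
    have ho : orderOf (x ^ (orderOf x / q)) = q :=
      orderOf_pow_orderOf_div (orderOf_pos x).ne' hqx
    have hwq : (x ^ (orderOf x / q)) ^ q = 1 := by
      have := pow_orderOf_eq_one (x ^ (orderOf x / q))
      rwa [ho] at this
    have hw1 : x ^ (orderOf x / q) ≠ 1 := by
      intro e
      rw [e, orderOf_one] at ho
      exact hq.one_lt.ne ho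
    have hwu : u * x ^ (orderOf x / q) = x ^ (orderOf x / q) * u :=
      mem_centralizer_singleton'.1
        ((Subgroup.centralizer ({u} : Set G)).pow_mem hxC (orderOf x / q))
    obtain ⟨y, hy⟩ := c.exists_conj_normalized h hq hqB hwu
      ((Subgroup.normalizer (A : Set G)).pow_mem hxM _) hwq hw1
    exact c.centralizer_le_of_fz (h.conj_right y) hu1
      (fz_centralizer (h.conj_right y) (Subgroup.le_normalizer hu) hy) hr hrA hRC

/-- `A` is a TI-subgroup: a conjugate of `A` meeting `A` nontrivially is `A` -/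
theorem mem_normalizer_of_inter (h : KW A B) {x g : G} (hx : x ∈ A) (hx1 : x ≠ 1)
    (hg : g⁻¹ * x * g ∈ A) : g ∈ Subgroup.normalizer (A : Set G) := by
  obtain ⟨p, hp, n, hnp, hn1⟩ := exists_prime_pow_ne_one hx1
  have hC := c.centralizer_le_normalizer h hp (A.pow_mem hx n) hnp hn1
  apply c.mem_normalizer_of_core h hp hnp hC
  rw [← kw_inv_conj_pow]
  exact A.pow_mem hg n

/-- counting conjugates of `A` -/
theorem card_lt (h : KW A B) : Nat.card A < Nat.card B := by
  obtain ⟨s, hs, hsA, -⟩ := c.exists_prime_ne h 0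
  have hA1 : A ≠ ⊥ := by
    rintro rfl
    rw [Subgroup.card_bot] at hsA
    exact hs.one_lt.ne' (Nat.dvd_one.1 hsA)
  have hM := c.normalizer_ne_top hA1 (c.ne_top_of_isNilpotent h.nilA)
  obtain ⟨g, hg⟩ : ∃ g : G, g ∉ Subgroup.normalizer (A : Set G) := by
    by_contra hcon
    push Not at hcon
    exact hM (eq_top_iff.2 fun x _ => hcon x)
  have hinj : Function.Injective
      (fun a : A => (((a : G) * g : G) : G ⧸ Subgroup.normalizer (A : Set G))) := by
    intro a a' e
    have e1 : ((a : G) * g)⁻¹ * ((a' : G) * g) ∈ Subgroup.normalizer (A : Set G) :=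
      QuotientGroup.eq.1 e
    have e2 : g⁻¹ * ((a : G)⁻¹ * (a' : G)) * g ∈ Subgroup.normalizer (A : Set G) := by
      have e3 : ((a : G) * g)⁻¹ * ((a' : G) * g) = g⁻¹ * ((a : G)⁻¹ * (a' : G)) * g := by group
      rwa [e3] at e1
    have hxA : (a : G)⁻¹ * (a' : G) ∈ A := A.mul_mem (A.inv_mem a.2) a'.2
    have hpow : (g⁻¹ * ((a : G)⁻¹ * (a' : G)) * g) ^ Nat.card A = 1 := by
      rw [kw_inv_conj_pow]
      have e4 : ((a : G)⁻¹ * (a' : G)) ^ Nat.card A = 1 := by
        have := pow_card_eq_one' (G := A) (x := ⟨_, hxA⟩)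
        exact congrArg Subtype.val this
      rw [e4, mul_one, inv_mul_cancel]
    have hyA : g⁻¹ * ((a : G)⁻¹ * (a' : G)) * g ∈ A :=
      h.mem_of_normalizer e2
        (Nat.Coprime.coprime_dvd_left (orderOf_dvd_of_pow_eq_one hpow) h.cop)
    by_contra hne
    have hx1 : (a : G)⁻¹ * (a' : G) ≠ 1 := fun e3 => hne (Subtype.ext (inv_mul_eq_one.1 e3))
    exact hg (c.mem_normalizer_of_inter h hxA hx1 hyA)
  have hnot : ((1 : G) : G ⧸ Subgroup.normalizer (A : Set G)) ∉ Set.range
      (fun a : A => (((a : G) * g : G) : G ⧸ Subgroup.normalizer (A : Set G))) := by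
    rintro ⟨a, ha⟩
    have e1 : ((a : G) * g)⁻¹ * 1 ∈ Subgroup.normalizer (A : Set G) := QuotientGroup.eq.1 ha
    rw [mul_one, inv_mem_iff] at e1
    have e2 := (Subgroup.normalizer (A : Set G)).mul_mem
      (inv_mem (Subgroup.le_normalizer a.2)) e1
    exact hg (by simpa using e2)
  have hlt : Nat.card A < Nat.card (G ⧸ Subgroup.normalizer (A : Set G)) := by
    classical
    letI := Fintype.ofFinite A
    letI := Fintype.ofFinite (G ⧸ Subgroup.normalizer (A : Set G))
    have := Fintype.card_lt_of_injective_of_notMem _ hinj hnot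
    rwa [← Nat.card_eq_fintype_card, ← Nat.card_eq_fintype_card] at this
  rw [← Subgroup.index_eq_card] at hlt
  have hle : (Subgroup.normalizer (A : Set G)).index ≤ Nat.card B := by
    rw [← h.index_left]
    exact Nat.le_of_dvd (Nat.pos_of_ne_zero Subgroup.index_ne_zero_of_finite)
      (Subgroup.index_dvd_of_le Subgroup.le_normalizer)
  exact lt_of_lt_of_le hlt hle

theorem false_of_kw (h : KW A B) : False :=
  lt_asymm (c.card_lt h) (c.card_lt h.symm)

end KWCtx

/-- **Wielandt's theorem**, by induction on the order -/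
theorem kw_solvable_aux : ∀ (n : ℕ) (G : Type u) [Group G] [Finite G], Nat.card G = n →
    ∀ A B : Subgroup G, KW A B → Group.IsSolvable G := by
  intro n
  induction n using Nat.strong_induction_on with
  | _ n IH =>
    intro G _ _ hn A B h
    by_contra hns
    have hsub : ∀ H X Y : Subgroup G, H ≠ ⊤ → X ≤ H → Y ≤ H → Group.IsNilpotent X →
        Group.IsNilpotent Y → (Nat.card X).Coprime (Nat.card Y) →
        (∀ h ∈ H, ∃ x ∈ X, ∃ y ∈ Y, h = x * y) → Group.IsSolvable H := by
      intro H X Y hH hX hY hXn hYn hc hf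
      have hlt : Nat.card H < n := by
        rw [← hn]
        exact lt_of_le_of_ne (Subgroup.card_le_card_group H)
          (fun e => hH (Subgroup.eq_top_of_card_eq H e))
      exact IH _ hlt H rfl _ _ (kw_subgroupOf hX hY hXn hYn hc hf)
    have hsimple : IsSimpleGroup G := by
      refine { exists_pair_ne := ?_, eq_bot_or_eq_top_of_normal := ?_ }
      · by_contra hcon
        push Not at hcon
        haveI : Subsingleton G := ⟨hcon⟩
        exact hns inferInstance
      · intro N hN
        by_contra hcon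
        push Not at hcon
        obtain ⟨hNb, hNt⟩ := hcon
        apply hns
        have hNs : Group.IsSolvable N :=
          hsub N (N ⊓ A) (N ⊓ B) hNt inf_le_left inf_le_left
            (kw_isNilpotent_of_le h.nilA inf_le_right) (kw_isNilpotent_of_le h.nilB inf_le_right)
            (Nat.Coprime.coprime_dvd_left (Subgroup.card_dvd_of_le inf_le_right)
              (Nat.Coprime.coprime_dvd_right (Subgroup.card_dvd_of_le inf_le_right) h.cop))
            (fz_of_normal h N)
        have hQs : Group.IsSolvable (G ⧸ N) := by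
          have hlt : Nat.card (G ⧸ N) < n := by
            rw [← hn, ← Subgroup.index_eq_card, ← Subgroup.card_mul_index N]
            have h1 : 1 < Nat.card N := (Subgroup.one_lt_card_iff_ne_bot N).2 hNb
            have h2 : 0 < N.index := Nat.pos_of_ne_zero Subgroup.index_ne_zero_of_finite
            nlinarith
          refine IH _ hlt (G ⧸ N) rfl (A.map (QuotientGroup.mk' N)) (B.map (QuotientGroup.mk' N))
            ⟨?_, ?_, ?_, ?_⟩
          · haveI := h.nilA
            exact Group.nilpotent_of_surjective _ ((QuotientGroup.mk' N).subgroupMap_surjective A)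
          · haveI := h.nilB
            exact Group.nilpotent_of_surjective _ ((QuotientGroup.mk' N).subgroupMap_surjective B)
          · exact Nat.Coprime.coprime_dvd_left (Subgroup.card_map_dvd _ _)
              (Nat.Coprime.coprime_dvd_right (Subgroup.card_map_dvd _ _) h.cop)
          · intro g
            obtain ⟨g, rfl⟩ := QuotientGroup.mk'_surjective N g
            obtain ⟨a, ha, b, hb, rfl⟩ := h.fact g
            exact ⟨_, Subgroup.mem_map_of_mem _ ha, _, Subgroup.mem_map_of_mem _ hb,
              map_mul _ _ _⟩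
        exact (Group.isSolvable_iff_subgroup_quotient N).2 ⟨hNs, hQs⟩
    exact KWCtx.false_of_kw ⟨hsimple, hns, hsub⟩ h

/-- **Wielandt's theorem**: a finite group which is the product of two nilpotent subgroups of
coprime orders is solvable -/
theorem kw_solvable {G : Type*} [Group G] [Finite G] {A B : Subgroup G} (h : KW A B) :
    Group.IsSolvable G :=
  kw_solvable_aux _ G rfl A B h

end Cfsg.Agent.Lib.helper57
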