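import Mathlib
import Cfsg.Agent.Lib.helper45.RUDefs

/-!
# S2279 piece C: `Om_wrap`

`x ∈ Om S l i`, `y ∈ Om S l i'`, `n ≤ i + i' + 1` give `x * y ∈ Om S l (i + i' + 1 - n)`.
-/

set_option autoImplicit false

namespace Cfsg.Agent.Lib.helper45.RU

open Matrix Cfsg.Agent.Lib.helper44

variable {n : ℕ} {F : Type*} [Field F] {S : Set (Matrix (Fin n) (Fin n) F)}

/-- Formula (C): the commutator of two rank one perturbations. -/
theorem h57_formulaC (a b φ ψ : Fin n → F) (h1 : ψ ⬝ᵥ a = 0) (h2 : ψ ⬝ᵥ b = 0) :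
    (1 + vecMulVec a φ) * (1 + vecMulVec b ψ) =
      (1 + vecMulVec a ((φ ⬝ᵥ b) • ψ)) * ((1 + vecMulVec b ψ) * (1 + vecMulVec a φ)) := by
  have e1 : (1 + vecMulVec b ψ) * (1 + vecMulVec a φ) = 1 + vecMulVec b ψ + vecMulVec a φ := by
    rw [mul_add, mul_one, add_mul, one_mul, Matrix.vecMulVec_mul_vecMulVec, h1, zero_smul,
      Matrix.vecMulVec_zero, add_zero]
  rw [e1]
  rw [mul_add, mul_one, add_mul, one_mul, Matrix.vecMulVec_mul_vecMulVec]
  rw [mul_add, mul_add, mul_one, add_mul, add_mul, one_mul, one_mul,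
    Matrix.vecMulVec_mul_vecMulVec, Matrix.vecMulVec_mul_vecMulVec]
  rw [smul_dotProduct, smul_dotProduct, h1, h2, smul_zero, zero_smul, zero_smul,
    Matrix.vecMulVec_zero]
  abel

theorem h57_jm_pow_mem (hS : MatGrp S) (hJ : jm F n ∈ S) (s : ℕ) : (jm F n) ^ s ∈ S := by
  induction s with
  | zero => rw [pow_zero]; exact MatGrp_one_mem hS hJ
  | succ s ih => rw [pow_succ]; exact hS.mul ih hJ

/-- C -/
theorem Om_wrap (hS : MatGrp S) (hJ : jm F n ∈ S) (l : Fin n) (hl : l.val + 1 = n)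
    (i i' : ℕ) (hi : i + 2 ≤ n) (hi' : i' + 2 ≤ n) (h : n ≤ i + i' + 1) {x y : F}
    (hx : x ∈ Om S l i) (hy : y ∈ Om S l i') : x * y ∈ Om S l (i + i' + 1 - n) := by
  obtain ⟨s, hs⟩ : ∃ s, s = n - 1 - i := ⟨_, rfl⟩
  obtain ⟨k, hk⟩ : ∃ k, k = i + i' + 1 - n := ⟨_, rfl⟩
  rw [← hk]
  have hks : k + s = i' := by omega
  have his : i + s + 1 = n := by omega
  have hk2 : k + 2 ≤ n := by omega
  have hJs : (jm F n) ^ s ∈ S := h57_jm_pow_mem hS hJ s
  -- the conjugate M'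
  have hrow : y • rowv F n i' = (y • rowv F n k) ᵥ* (jm F n) ^ s := by
    rw [Matrix.smul_vecMul, ← rowv_add, hks]
  have hM' : 1 + vecMulVec ((jm F n) ^ s *ᵥ Pi.single l 1) (y • rowv F n k) ∈ S := by
    refine hS.conj hJs hy ?_
    show _ = (jm F n) ^ s * (1 + vecMulVec (Pi.single l 1) (y • rowv F n i'))
    rw [hrow, conj_rankOne]
  have hx' : 1 + vecMulVec (Pi.single l 1) (x • rowv F n i) ∈ S := hx
  have h1 : (y • rowv F n k) ⬝ᵥ (Pi.single l 1 : Fin n → F) = 0 := by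
    rw [smul_dotProduct, rowv_dot_last k l hl hk2, smul_zero]
  have h2 : (y • rowv F n k) ⬝ᵥ ((jm F n) ^ s *ᵥ (Pi.single l 1 : Fin n → F)) = 0 := by
    rw [Matrix.dotProduct_mulVec, Matrix.smul_vecMul, ← rowv_add, hks, smul_dotProduct,
      rowv_dot_last i' l hl hi', smul_zero]
  have h3 : (x • rowv F n i) ⬝ᵥ ((jm F n) ^ s *ᵥ (Pi.single l 1 : Fin n → F)) = x := by
    rw [Matrix.dotProduct_mulVec, Matrix.smul_vecMul, ← rowv_add, smul_dotProduct,
      rowv_dot_last_top (i + s) l hl his, smul_eq_mul, mul_one]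
  have hC := h57_formulaC (Pi.single l 1 : Fin n → F) ((jm F n) ^ s *ᵥ Pi.single l 1)
    (x • rowv F n i) (y • rowv F n k) h1 h2
  rw [h3] at hC
  have := MatGrp_comm_mem hS hx' hM' hC
  show tau l k (x * y) ∈ S
  unfold tau
  rw [mul_smul]
  exact this

end Cfsg.Agent.Lib.helper45.RU
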