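import Mathlib
import Cfsg.Prelude.Def_CaseTheorems

/-!
# S1238 piece A0 (helper57): a Sylow 2-subgroup of a group of 2-rank at least 2 has a central
involution.
-/

set_option autoImplicit false

namespace Cfsg.Agent.Lib.helper57.S1238

open Cfsg

/-- PIECE A0. A Sylow 2-subgroup has a central involution. -/
theorem exists_central_involution {G : Type*} [Group G] [Finite G] (h1 : ¬ Cfsg.PRankLE 2 1 G)
    (S : Sylow 2 G) :
    ∃ z : G, z ∈ (S : Subgroup G) ∧ (∀ g ∈ (S : Subgroup G), g * z = z * g) ∧ orderOf z = 2 := by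
  have hF : Fact (Nat.Prime 2) := ⟨Nat.prime_two⟩
  have h2G : 2 ∣ Nat.card G := by
    by_contra hnd
    apply h1
    intro A hA hA2
    have hall : ∀ a ∈ A, a = 1 := by
      intro a ha
      have h1 : orderOf a ∣ 2 := orderOf_dvd_of_pow_eq_one (hA2 a ha)
      have h2 : orderOf a ∣ Nat.card G := orderOf_dvd_natCard a
      rcases (Nat.dvd_prime Nat.prime_two).mp h1 with h | h
      · exact orderOf_eq_one_iff.mp h
      · rw [h] at h2
        exact absurd h2 hnd
    have hA1 : A = ⊥ := (Subgroup.eq_bot_iff_forall A).mpr hall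
    rw [hA1, Subgroup.card_bot]
    norm_num
  have hS2 : 2 ∣ Nat.card (S : Subgroup G) := S.dvd_card_of_dvd_card h2G
  have hSnt : Nontrivial ↥(S : Subgroup G) := by
    rw [← Finite.one_lt_card_iff_nontrivial]
    have hpos : 0 < Nat.card (S : Subgroup G) := Nat.card_pos
    have := Nat.le_of_dvd hpos hS2
    omega
  have hZnt : Nontrivial (Subgroup.center ↥(S : Subgroup G)) := S.isPGroup'.center_nontrivial
  have hZp : IsPGroup 2 (Subgroup.center ↥(S : Subgroup G)) := S.isPGroup'.to_subgroup _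
  obtain ⟨k, hk⟩ := IsPGroup.iff_card.mp hZp
  have hk0 : k ≠ 0 := by
    rintro rfl
    rw [pow_zero] at hk
    have := Finite.one_lt_card_iff_nontrivial.mpr hZnt
    omega
  have h2Z : 2 ∣ Nat.card (Subgroup.center ↥(S : Subgroup G)) := by
    rw [hk]
    exact dvd_pow_self 2 hk0
  obtain ⟨z, hz⟩ := exists_prime_orderOf_dvd_card' 2 h2Z
  refine ⟨((z : ↥(S : Subgroup G)) : G), (z : ↥(S : Subgroup G)).2, ?_, ?_⟩
  · intro g hg
    have h3 := Subgroup.mem_center_iff.mp z.2 ⟨g, hg⟩
    exact congrArg Subtype.val h3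
  · rw [Subgroup.orderOf_coe, Subgroup.orderOf_coe]
    exact hz

end Cfsg.Agent.Lib.helper57.S1238
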