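import Mathlib
import Cfsg.Agent.Lib.helper44.ReeOutA
import Cfsg.Agent.Lib.helper22.ChevG2Cls

/-!
# S2343 piece E1 (helper57): conjugation of `U(0,u,0)` by `U(t,u',v')` in the Ree group

`U(t,u',v') * U(0,u,0) * U(t,u',v')⁻¹ = U(0,u,t*u)`.
-/

set_option autoImplicit false
set_option maxRecDepth 100000

namespace Cfsg.Agent.Lib.helper57.ReeLS

open Cfsg Cfsg.Lie Cfsg.Agent.Lib.helper41 Cfsg.Agent.Lib.helper22 Cfsg.Agent.Lib.helper23

/-- Table facts for the pairs `(6, 8)`, `(7, 10)`, `(7, 8)`, `(6, 10)` of roots of `G₂`. -/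
theorem e1_table : chevG2.commTerms 6 8 = [] ∧ chevG2.commTerms 7 10 = [] ∧
    (8 ≠ chevG2.neg 6) ∧ (10 ≠ chevG2.neg 7) ∧ (8 ≠ chevG2.neg 7) ∧ (10 ≠ chevG2.neg 6) ∧
    chevG2.nroots = 12 := by
  decide +kernel

section Tools

variable {K : Type*} [Field K]

/-- Moving `x_q(t)` to the right of `x_s(u)`. -/
theorem e1_swap {q s : ℕ} (hq : q < chevG2.nroots) (hs : s < chevG2.nroots) (hsq : s ≠ q)
    (hneg : s ≠ chevG2.neg q) (t u : K) :
    chevG2.x K q t * chevG2.x K s u =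
      chevG2.x K s u * chevG2.wordMat K (chevG2.commWord K q s (-t) u) * chevG2.x K q t := by
  have h1 := conj_x_eq stringData_G2 (commFormula_G2 K) hq hs hsq hneg t u
  rw [← h1, mul_assoc, x_neg_mul stringData_G2, mul_one]

/-- `x_b` and `x_{a+b}` commute. -/
theorem e1_comm_6_8 (t u : K) :
    chevG2.x K 6 t * chevG2.x K 8 u = chevG2.x K 8 u * chevG2.x K 6 t := by
  obtain ⟨h68, -, n68, -, -, -, hn⟩ := e1_table
  have h := e1_swap (K := K) (q := 6) (s := 8) (by rw [hn]; decide) (by rw [hn]; decide)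
    (by decide) n68 t u
  rw [h]
  unfold ChevalleyDatum.commWord
  rw [h68, List.map_nil, wordMat_nil, mul_one]

/-- `x_a` and `x_{3a+b}` commute. -/
theorem e1_comm_7_10 (t u : K) :
    chevG2.x K 7 t * chevG2.x K 10 u = chevG2.x K 10 u * chevG2.x K 7 t := by
  obtain ⟨-, h710, -, n710, -, -, hn⟩ := e1_table
  have h := e1_swap (K := K) (q := 7) (s := 10) (by rw [hn]; decide) (by rw [hn]; decide)
    (by decide) n710 t u
  rw [h]
  unfold ChevalleyDatum.commWord
  rw [h710, List.map_nil, wordMat_nil, mul_one]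

/-- `x_a(s) x_{a+b}(r) = x_{a+b}(r) x_{2a+b}(s r) x_a(s)` in characteristic `3`. -/
theorem e1_swap_7_8 [CharP K 3] (s r : K) :
    chevG2.x K 7 s * chevG2.x K 8 r = chevG2.x K 8 r * chevG2.x K 9 (s * r) * chevG2.x K 7 s := by
  obtain ⟨-, -, -, -, n78, -, hn⟩ := e1_table
  have h := e1_swap (K := K) (q := 7) (s := 8) (by rw [hn]; decide) (by rw [hn]; decide)
    (by decide) n78 s r
  rw [h]
  unfold ChevalleyDatum.commWord
  rw [g2_terms_7_8]
  simp only [List.map_cons, List.map_nil, wordMat_cons, wordMat_nil, mul_one]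
  have h3 : ((3 : ℤ) : K) = 0 := (CharP.intCast_eq_zero_iff K 3 3).mpr (by norm_num)
  have h3' : ((-3 : ℤ) : K) = 0 := (CharP.intCast_eq_zero_iff K 3 (-3)).mpr (by norm_num)
  have h2 : ((-2 : ℤ) : K) = 1 := by
    have : ((-2 : ℤ) : K) = ((-3 : ℤ) : K) + 1 := by push_cast; ring
    rw [this, h3', zero_add]
  rw [h3, h3', h2]
  simp only [zero_mul, one_mul, neg_neg, pow_one, x_zero_G2, mul_one]

/-- `x_b(s) x_{3a+b}(r) = x_{3a+b}(r) x_{3a+2b}(s r) x_b(s)`. -/
theorem e1_swap_6_10 (s r : K) :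
    chevG2.x K 6 s * chevG2.x K 10 r =
      chevG2.x K 10 r * chevG2.x K 11 (s * r) * chevG2.x K 6 s := by
  obtain ⟨-, -, -, -, -, n610, hn⟩ := e1_table
  have h := e1_swap (K := K) (q := 6) (s := 10) (by rw [hn]; decide) (by rw [hn]; decide)
    (by decide) n610 s r
  rw [h]
  unfold ChevalleyDatum.commWord
  rw [g2_terms_6_10]
  simp only [List.map_cons, List.map_nil, wordMat_cons, wordMat_nil, mul_one, Int.cast_one, one_mul,
    neg_neg, pow_one]

end Tools

/-- The matrix identity behind E1. -/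
theorem e1_key {K : Type*} [Field K] {e : ℕ} (R : ReeData K e) (t u' v' u : K) :
    chevG2.wordMat K (reeWordU e t u' v') * chevG2.wordMat K (reeWordU e 0 u 0) =
      chevG2.wordMat K (reeWordU e 0 u (t * u)) * chevG2.wordMat K (reeWordU e t u' v') := by
  have hchar := R.char3
  have he := R.e_ne_zero
  have hW : chevG2.wordMat K (reeWordU e 0 u (t * u)) =
      chevG2.x K 8 (u ^ e) * chevG2.x K 10 u * (chevG2.x K 9 ((t * u) ^ e) * chevG2.x K 11 (t * u)) := by
    rw [R.reeU_split u (t * u), wordMat_reeU_mid he, R.wordMat_reeU_top]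
  have ha : chevG2.wordMat K (reeWordU e 0 u 0) = chevG2.x K 8 (u ^ e) * chevG2.x K 10 u :=
    wordMat_reeU_mid he u
  have hy : chevG2.wordMat K (reeWordU e t u' v') =
      chevG2.x K 7 (t ^ e) * chevG2.x K 6 t * (chevG2.x K 8 (t ^ (e + 1) + u' ^ e) *
        chevG2.x K 9 (t ^ (2 * e + 1) + v' ^ e) * (chevG2.x K 10 u' * chevG2.x K 11 v')) := by
    unfold reeWordU
    rw [wordMat_six]
    rfl
  rw [hy, hW, ha, mul_pow]
  obtain ⟨A, hA⟩ : ∃ m, m = chevG2.x K 7 (t ^ e) := ⟨_, rfl⟩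
  obtain ⟨B, hB⟩ : ∃ m, m = chevG2.x K 6 t := ⟨_, rfl⟩
  obtain ⟨T, hT⟩ : ∃ m, m = chevG2.x K 8 (t ^ (e + 1) + u' ^ e) *
        chevG2.x K 9 (t ^ (2 * e + 1) + v' ^ e) * (chevG2.x K 10 u' * chevG2.x K 11 v') := ⟨_, rfl⟩
  obtain ⟨C, hC⟩ : ∃ m, m = chevG2.x K 8 (u ^ e) := ⟨_, rfl⟩
  obtain ⟨E, hE⟩ : ∃ m, m = chevG2.x K 10 u := ⟨_, rfl⟩
  obtain ⟨N, hN⟩ : ∃ m, m = chevG2.x K 9 (t ^ e * u ^ e) := ⟨_, rfl⟩
  obtain ⟨F, hF⟩ : ∃ m, m = chevG2.x K 11 (t * u) := ⟨_, rfl⟩
  have hTC : T * C = C * T := by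
    rw [hT, hC]
    exact (((Cfsg.Agent.Lib.helper44.comm_x_self 8 _ _).mul_left (comm_x3 8 9 (by decide) _ _).symm).mul_left
      ((comm_x3 10 8 (by decide) _ _).mul_left (comm_x3 8 11 (by decide) _ _).symm)).eq
  have hTE : T * E = E * T := by
    rw [hT, hE]
    exact (((comm_x3 8 10 (by decide) _ _).mul_left (comm_x3 9 10 (by decide) _ _)).mul_left
      ((Cfsg.Agent.Lib.helper44.comm_x_self 10 _ _).mul_left (comm_x3 10 11 (by decide) _ _).symm)).eq
  have hBC : B * C = C * B := by rw [hB, hC]; exact e1_comm_6_8 _ _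
  have hBE : B * E = E * F * B := by rw [hB, hE, hF]; exact e1_swap_6_10 _ _
  have hAC : A * C = C * N * A := by rw [hA, hC, hN]; exact e1_swap_7_8 _ _
  have hAE : A * E = E * A := by rw [hA, hE]; exact e1_comm_7_10 _ _
  have hAF : A * F = F * A := by
    rw [hA, hF]
    exact (Cfsg.Agent.Lib.helper44.comm_x3b 11 7 (by decide) _ _).symm.eq
  have hNE : N * E = E * N := by
    rw [hN, hE]
    exact (comm_x3 9 10 (by decide) _ _).eq
  rw [← hA, ← hB, ← hT, ← hC, ← hE, ← hN, ← hF]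
  calc A * B * T * (C * E) = A * B * (T * C) * E := by simp only [mul_assoc]
    _ = A * B * (C * T) * E := by rw [hTC]
    _ = A * B * C * (T * E) := by simp only [mul_assoc]
    _ = A * B * C * (E * T) := by rw [hTE]
    _ = A * (B * C) * E * T := by simp only [mul_assoc]
    _ = A * (C * B) * E * T := by rw [hBC]
    _ = A * C * (B * E) * T := by simp only [mul_assoc]
    _ = A * C * (E * F * B) * T := by rw [hBE]
    _ = (A * C) * E * F * B * T := by simp only [mul_assoc]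
    _ = (C * N * A) * E * F * B * T := by rw [hAC]
    _ = C * N * (A * E) * F * B * T := by simp only [mul_assoc]
    _ = C * N * (E * A) * F * B * T := by rw [hAE]
    _ = C * N * E * (A * F) * B * T := by simp only [mul_assoc]
    _ = C * N * E * (F * A) * B * T := by rw [hAF]
    _ = C * (N * E) * F * A * B * T := by simp only [mul_assoc]
    _ = C * (E * N) * F * A * B * T := by rw [hNE]
    _ = C * E * (N * F) * (A * B * T) := by simp only [mul_assoc]

/-- PIECE E1 of the S2343 split. -/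
theorem ree_conj_mid {K : Type*} [Field K] {e : ℕ} (R : ReeData K e) :
    ∃ c : K, c ≠ 0 ∧ ∀ (t u' v' u : K) (y a : GL chevG2.Idx K),
      (y : Matrix chevG2.Idx chevG2.Idx K) = chevG2.wordMat K (reeWordU e t u' v') →
      (a : Matrix chevG2.Idx chevG2.Idx K) = chevG2.wordMat K (reeWordU e 0 u 0) →
      ((y * a * y⁻¹ : GL chevG2.Idx K) : Matrix chevG2.Idx chevG2.Idx K) =
        chevG2.wordMat K (reeWordU e 0 u (c * (t * u))) := by
  refine ⟨1, one_ne_zero, ?_⟩
  intro t u' v' u y a hy ha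
  rw [one_mul]
  have key := e1_key R t u' v' u
  rw [← hy, ← ha] at key
  rw [Units.val_mul, Units.val_mul, key, mul_assoc, ← Units.val_mul, mul_inv_cancel, Units.val_one,
    mul_one]

end Cfsg.Agent.Lib.helper57.ReeLS
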