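import Cfsg.Agent.Lib.helper57.S2687FCORDa
import Cfsg.Agent.Lib.helper39.S2687FCCNT

/-!
# S2687, piece FC-ORD: an element of order `p` among the `σ`-fixed points of `PSU_n`
-/

set_option autoImplicit false

namespace Cfsg.Agent.Lib.helper57.S2687

open Matrix Cfsg
open Cfsg.Agent.Lib.helper50
open Cfsg.Agent.Lib.helper48.LB
open Cfsg.Agent.Lib.helper48.AbsBal (fixG)
open Cfsg.Agent.Lib.helper99 (suMat)

universe u v

variable {n q : ℕ} {F : Type u} [Field F] [Fintype F]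

/-- **Piece FC-ORD of S2687.** -/
theorem exists_fixed_order (hF : Fintype.card F = q ^ 2) (hn : 3 ≤ n) {q₀ p : ℕ} [Fact p.Prime]
    (hp2 : p ≠ 2) (hq₀ : q = q₀ ^ p) (σ : F ≃+* F) (hσ : orderOf σ = p)
    (hdvd : p ∣ Nat.card (fixG (fieldPSU σ : MulAut (PSU n F q)))) :
    ∃ t : ↥(SU n F q), fieldSU σ t = t ∧ orderOf (QuotientGroup.mk t : PSU n F q) = p :=
  exists_fixed_order_of hF hn hp2 hq₀ σ hσ
    (Cfsg.Agent.Lib.helper39.S2687.card_fix_dvd hF hn Fact.out hp2 hq₀ σ hσ) hdvd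

end Cfsg.Agent.Lib.helper57.S2687
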