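import Mathlib
import Cfsg.Agent.Lib.helper44.CubeDefs

set_option autoImplicit false

namespace Cfsg.Agent.Lib.helper57.Cube

open Cfsg.Agent.Lib.helper44.Cube

/-- The diagonal matrix `diag(u, u⁻¹)`. -/
def dgMat {K : Type*} [Field K] (u : Kˣ) : Matrix (Fin 2) (Fin 2) K :=
  !![(u : K), 0; 0, ((u⁻¹ : Kˣ) : K)]

theorem dgMat_det {K : Type*} [Field K] (u : Kˣ) : (dgMat u).det = 1 := by
  simp [dgMat, Matrix.det_fin_two]

theorem dgMat_one {K : Type*} [Field K] : dgMat (1 : Kˣ) = (1 : Matrix (Fin 2) (Fin 2) K) := by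
  ext i j
  fin_cases i <;> fin_cases j <;> simp [dgMat]

theorem dgMat_mul {K : Type*} [Field K] (u v : Kˣ) : dgMat (u * v) = dgMat u * dgMat v := by
  ext i j
  fin_cases i <;> fin_cases j <;>
    simp [dgMat, Matrix.mul_apply, Fin.sum_univ_two, mul_comm]

/-- The diagonal matrices `diag(u, u⁻¹)` of `SL₂(K)`. -/
def dgHom (K : Type*) [Field K] : Kˣ →* Matrix.SpecialLinearGroup (Fin 2) K where
  toFun u := ⟨dgMat u, dgMat_det u⟩
  map_one' := Subtype.ext dgMat_one
  map_mul' u v := Subtype.ext (dgMat_mul u v)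

theorem dgHom_coe {K : Type*} [Field K] (u : Kˣ) :
    ((dgHom K u : Matrix.SpecialLinearGroup (Fin 2) K) : Matrix (Fin 2) (Fin 2) K) =
      !![(u : K), 0; 0, ((u⁻¹ : Kˣ) : K)] := rfl

theorem frobSL_dg_inv_coe {K : Type*} [Field K] [ExpChar K 3] (a : Kˣ) :
    (((frobSL K (dgHom K a))⁻¹ : Matrix.SpecialLinearGroup (Fin 2) K) :
      Matrix (Fin 2) (Fin 2) K) = !![((a⁻¹ : Kˣ) : K) ^ 3, 0; 0, (a : K) ^ 3] := by
  rw [Matrix.SpecialLinearGroup.coe_inv]
  have h : ((frobSL K (dgHom K a) : Matrix.SpecialLinearGroup (Fin 2) K) :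
      Matrix (Fin 2) (Fin 2) K) = !![(a : K) ^ 3, 0; 0, ((a⁻¹ : Kˣ) : K) ^ 3] := by
    ext i j
    have h1 : ((frobSL K (dgHom K a) : Matrix.SpecialLinearGroup (Fin 2) K) :
        Matrix (Fin 2) (Fin 2) K) i j =
        frobenius K 3 (((dgHom K a : Matrix.SpecialLinearGroup (Fin 2) K) :
          Matrix (Fin 2) (Fin 2) K) i j) := rfl
    rw [h1, dgHom_coe]
    fin_cases i <;> fin_cases j <;> simp [frobenius_def]
  rw [h, Matrix.adjugate_fin_two_of]
  simp

theorem twL_dg_E11 {K : Type*} [Field K] [ExpChar K 3] (ε : K) (a : Kˣ) :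
    twL ε (dgHom K a) !![1, 0; 0, 0] 0 0 = ε * ((a : K) * ((a⁻¹ : Kˣ) : K) ^ 3) := by
  rw [twL_def, frobSL_dg_inv_coe, dgHom_coe]
  simp

theorem twL_dg_E12 {K : Type*} [Field K] [ExpChar K 3] (ε : K) (a : Kˣ) :
    twL ε (dgHom K a) !![0, 1; 0, 0] 0 1 = ε * ((a : K) * (a : K) ^ 3) := by
  rw [twL_def, frobSL_dg_inv_coe, dgHom_coe]
  simp

/-- Powers of a linear `affPerm`. -/
theorem affPerm_zero_pow {K : Type*} [Field K] [ExpChar K 3] {k : ℕ}
    (g : Matrix.SpecialLinearGroup (Fin 2) K) (j : ℕ)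
    (X : Fin k → Matrix (Fin 2) (Fin 2) K) (i : Fin k) :
    ((affPerm (-1 : K) (Or.inr rfl) g (0 : Fin k → Matrix (Fin 2) (Fin 2) K)) ^ j) X i =
      twL ((-1) ^ j) (g ^ j) (X i) := by
  induction j generalizing X with
  | zero => simp [twL_one]
  | succ j ih =>
    rw [pow_succ, Equiv.Perm.mul_apply, ih, affPerm_apply, Pi.zero_apply, add_zero, twL_twL,
      pow_succ, pow_succ]

/-- PIECE C7 of the S3626 split: an element of order `q - 1`. -/
theorem exists_order_sub_one {K : Type*} [Field K] [Fintype K] [ExpChar K 3] (h3 : (3 : K) = 0)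
    (t : ℕ) (hK : Fintype.card K = 8 * t + 3) (k : ℕ) (hk : 0 < k) :
    ∃ f ∈ affGrp K k, orderOf f = 8 * t + 2 := by
  classical
  obtain ⟨c, hc⟩ := IsCyclic.exists_generator (α := Kˣ)
  have hcord : orderOf c = 8 * t + 2 := by
    rw [orderOf_eq_card_of_forall_mem_zpowers hc, Nat.card_eq_fintype_card, Fintype.card_units, hK]
    rfl
  have h2ne : (2 : K) ≠ 0 := by
    intro h2
    have : (1 : K) = 0 := by linear_combination h3 - h2
    exact one_ne_zero this
  refine ⟨affPerm (-1 : K) (Or.inr rfl) (dgHom K c) 0, affPerm_mem _ _ _ _, ?_⟩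
  apply Nat.dvd_antisymm
  · apply orderOf_dvd_of_pow_eq_one
    apply Equiv.ext
    intro X
    funext i
    rw [affPerm_zero_pow, ← map_pow, ← hcord, pow_orderOf_eq_one, map_one, hcord]
    have : ((-1 : K)) ^ (8 * t + 2) = 1 := by
      rw [show 8 * t + 2 = 2 * (4 * t + 1) by ring, pow_mul]
      simp
    rw [this, twL_one]
    rfl
  · obtain ⟨j, hj⟩ : ∃ j, j = orderOf (affPerm (-1 : K) (Or.inr rfl) (dgHom K c)
        (0 : Fin k → Matrix (Fin 2) (Fin 2) K)) := ⟨_, rfl⟩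
    rw [← hj]
    have hpow : (affPerm (-1 : K) (Or.inr rfl) (dgHom K c)
        (0 : Fin k → Matrix (Fin 2) (Fin 2) K)) ^ j = 1 := by
      rw [hj]
      exact pow_orderOf_eq_one _
    have hM : ∀ M : Matrix (Fin 2) (Fin 2) K, twL ((-1) ^ j) (dgHom K (c ^ j)) M = M := by
      intro M
      have h1 := congrFun (congrArg (fun F => F (fun _ => M)) hpow) ⟨0, hk⟩
      simp only [Equiv.Perm.one_apply] at h1
      rw [affPerm_zero_pow, ← map_pow] at h1
      exact h1
    have e1 := congrFun (congrFun (hM !![1, 0; 0, 0]) 0) 0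
    have e2 := congrFun (congrFun (hM !![0, 1; 0, 0]) 0) 1
    rw [twL_dg_E11] at e1
    rw [twL_dg_E12] at e2
    simp only [Matrix.of_apply, Matrix.cons_val', Matrix.cons_val_zero, Matrix.cons_val_one,
      Matrix.cons_val_fin_one] at e1 e2
    obtain ⟨a, ha⟩ : ∃ a : Kˣ, a = c ^ j := ⟨_, rfl⟩
    rw [← ha] at e1 e2
    obtain ⟨ε, hεdef⟩ : ∃ ε : K, ε = (-1) ^ j := ⟨_, rfl⟩
    rw [← hεdef] at e1 e2
    have hεε : ε * ε = 1 := by
      rw [hεdef, ← mul_pow]
      simp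
    have hainv : (a : K) * ((a⁻¹ : Kˣ) : K) = 1 := by
      rw [← Units.val_mul, mul_inv_cancel]
      rfl
    -- `ε = a ^ 2`
    have hεa : ε = (a : K) ^ 2 := by
      have : ε * ((a : K) * ((a⁻¹ : Kˣ) : K)) ^ 3 = (a : K) ^ 2 * (ε * ((a : K) * ((a⁻¹ : Kˣ) : K) ^ 3)) := by
        ring
      rw [hainv, e1] at this
      linear_combination this
    have ha4 : (a : K) ^ 4 = 1 := by
      calc (a : K) ^ 4 = ((a : K) ^ 2) * ((a : K) ^ 2) := by ring
        _ = ε * ε := by rw [← hεa]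
        _ = 1 := hεε
    have hε1 : ε = 1 := by
      have : ε * (a : K) ^ 4 = 1 := by linear_combination e2
      rw [ha4, mul_one] at this
      exact this
    have ha2 : a ^ 2 = 1 := by
      apply Units.ext
      rw [Units.val_pow_eq_pow_val, ← hεa, hε1]
      rfl
    have hjeven : Even j := by
      by_contra hodd
      rw [Nat.not_even_iff_odd] at hodd
      rw [hεdef, hodd.neg_one_pow] at hε1
      apply h2ne
      linear_combination -hε1
    have hdvd : (8 * t + 2) ∣ 2 * j := by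
      rw [← hcord]
      apply orderOf_dvd_of_pow_eq_one
      rw [mul_comm, pow_mul, ← ha, ha2]
    obtain ⟨j', rfl⟩ := hjeven
    obtain ⟨d, hd⟩ := hdvd
    -- `(4t+1) d = 2 j'`, so `d` is even
    have hdeven : Even d := by
      have h4 : (4 * t + 1) * d = 2 * j' := by nlinarith
      have h5 : Even ((4 * t + 1) * d) := ⟨j', by omega⟩
      rcases Nat.even_mul.mp h5 with h6 | h6
      · exfalso
        obtain ⟨e, he⟩ := h6
        omega
      · exact h6
    obtain ⟨d', rfl⟩ := hdeven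
    exact ⟨d', by nlinarith⟩

end Cfsg.Agent.Lib.helper57.Cube
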