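import Mathlib
import Cfsg.Agent.Lib.helper81.S4484Defs
import Cfsg.Agent.Lib.helper79.CycloNorm

/-!
# S4484 piece ALG (helper57): traces of the `ℤ[ζ]`-algebra generated by a representation
lie in `ℤ[ζ]`.
-/

set_option autoImplicit false

namespace Cfsg.Agent.Lib.helper57.S4484

open Cfsg Cfsg.Agent.Lib.helper83 Cfsg.Agent.Lib.helper79 Cfsg.Agent.Lib.helper81
  Cfsg.Agent.Lib.helper81.S4484
open scoped Matrix

universe u

/-- Every element of the monoid generated by the matrices `repMat ρ g` and `ζ • 1` is of the form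
`ζ ^ t • repMat ρ g`. -/
theorem alg_closure_form {G : Type u} [Group G] {n : ℕ}
    (ρ : Representation ℂ G (Fin n → ℂ)) (ζ : ℂ) (Y : Matrix (Fin n) (Fin n) ℂ)
    (hY : Y ∈ Submonoid.closure
      (Set.range (repMat ρ) ∪ {ζ • (1 : Matrix (Fin n) (Fin n) ℂ)})) :
    ∃ (t : ℕ) (g : G), Y = ζ ^ t • repMat ρ g := by
  induction hY using Submonoid.closure_induction with
  | mem x hx =>
    rcases hx with ⟨g, rfl⟩ | hx
    · exact ⟨0, g, by rw [pow_zero, one_smul]⟩
    · rw [Set.mem_singleton_iff] at hx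
      exact ⟨1, 1, by rw [hx, pow_one, repMat_one]⟩
  | one => exact ⟨0, 1, by rw [pow_zero, one_smul, repMat_one]⟩
  | mul x y _ _ hx hy =>
    obtain ⟨t, g, rfl⟩ := hx
    obtain ⟨s, h, rfl⟩ := hy
    refine ⟨t + s, g * h, ?_⟩
    rw [Matrix.smul_mul, Matrix.mul_smul, smul_smul, repMat_mul, pow_add]

/-- ALG (traces of the `ℤ[ζ]`-algebra generated by a representation lie in `ℤ[ζ]`) -/
theorem trace_mem_adjoin {G : Type u} [Group G] [Finite G] {n : ℕ}
    (ρ : Representation ℂ G (Fin n → ℂ)) (ζ : ℂ) (hζ : IsPrimitiveRoot ζ (Nat.card G))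
    (Y : Matrix (Fin n) (Fin n) ℂ)
    (hY : Y ∈ Algebra.adjoin ℤ
      (Set.range (repMat ρ) ∪ {ζ • (1 : Matrix (Fin n) (Fin n) ℂ)})) :
    ∃ F : Polynomial ℤ, Y.trace = Polynomial.aeval ζ F := by
  have hY' : Y ∈ Submodule.span ℤ (Submonoid.closure
      (Set.range (repMat ρ) ∪ {ζ • (1 : Matrix (Fin n) (Fin n) ℂ)}) :
        Set (Matrix (Fin n) (Fin n) ℂ)) := by
    rw [← Algebra.adjoin_eq_span]
    exact hY
  clear hY
  induction hY' using Submodule.span_induction with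
  | mem x hx =>
    obtain ⟨t, g, rfl⟩ := alg_closure_form ρ ζ x hx
    obtain ⟨F, hF⟩ := character_pow_eq_aeval ρ g (Nat.card G) Nat.card_pos
      (pow_card_eq_one') ζ hζ
    have h1 := hF 1
    rw [pow_one, pow_one, character_eq_trace] at h1
    refine ⟨Polynomial.X ^ t * F, ?_⟩
    rw [Matrix.trace_smul, h1, map_mul, map_pow, Polynomial.aeval_X, smul_eq_mul]
  | zero => exact ⟨0, by simp⟩
  | add x y _ _ hx hy =>
    obtain ⟨F, hF⟩ := hx
    obtain ⟨F', hF'⟩ := hy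
    exact ⟨F + F', by rw [Matrix.trace_add, hF, hF', map_add]⟩
  | smul a x _ hx =>
    obtain ⟨F, hF⟩ := hx
    refine ⟨a • F, ?_⟩
    rw [Matrix.trace_smul, hF, map_zsmul]

end Cfsg.Agent.Lib.helper57.S4484
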