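import Mathlib

/-!
# S6000, sub-lemma of AELT2 (requested by helper62): a double count of commuting pairs
-/

set_option autoImplicit false

namespace Cfsg.Agent.Lib.helper89.S60

/-- A subgroup whose complement is non-empty and "closed under quotients into the subgroup" has
index two. -/
theorem h57_index_two_card {H : Type*} [Group H] [Finite H] (K : Subgroup H) (g0 : H)
    (hg0 : g0 ∉ K) (hK : ∀ a b : H, a ∉ K → b ∉ K → a⁻¹ * b ∈ K) :
    Nat.card H = 2 * Nat.card K := by
  have hidx : K.index = 2 := by
    rw [Subgroup.index_eq_two_iff]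
    refine ⟨g0⁻¹, fun b => ?_⟩
    by_cases hb : b ∈ K
    · refine Or.inr ⟨hb, fun h => hg0 ?_⟩
      have h1 : g0⁻¹ ∈ K := by
        have h3 := K.mul_mem (K.inv_mem hb) h
        rwa [inv_mul_cancel_left] at h3
      have h4 := K.inv_mem h1
      rwa [inv_inv] at h4
    · refine Or.inl ⟨?_, hb⟩
      have hb' : b⁻¹ ∉ K := fun h => hb (by
        have h4 := K.inv_mem h
        rwa [inv_inv] at h4)
      have hg' : g0⁻¹ ∉ K := fun h => hg0 (by
        have h4 := K.inv_mem h
        rwa [inv_inv] at h4)
      have h5 := hK b⁻¹ g0⁻¹ hb' hg'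
      rwa [inv_inv] at h5
  rw [← Subgroup.index_mul_card K, hidx]

theorem h57_mem_centralizer_singleton {G : Type*} [Group G] (t g : G) :
    g ∈ Subgroup.centralizer ({t} : Set G) ↔ Commute t g := by
  rw [Subgroup.mem_centralizer_iff]
  constructor
  · intro h
    exact h t (Set.mem_singleton t)
  · intro h x hx
    rw [Set.mem_singleton_iff.1 hx]
    exact h.eq

theorem h57_sum_ite_card {α : Type*} [Fintype α] (p : α → Prop) [DecidablePred p] (c : ℕ) :
    ∑ a : α, (if p a then c else 0) = c * Nat.card {a // p a} := by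
  rw [← Finset.sum_filter, Finset.sum_const, smul_eq_mul, mul_comm, Nat.card_eq_fintype_card,
    Fintype.card_subtype]

/-- The double count requested by helper62 (`hNN_comm_count`). -/
theorem h57_comm_count {G : Type*} [Group G] [Finite G] (T : Subgroup G) (hZ : Subgroup.center G ≤ T)
    (H1 : ∀ t ∈ T, ∀ g h : G, ¬ Commute t g → ¬ Commute t h → Commute t (g⁻¹ * h))
    (H2 : ∀ g : G, ∀ s ∈ T, ∀ t ∈ T, ¬ Commute s g → ¬ Commute t g → Commute (s⁻¹ * t) g) :
    Nat.card (Subgroup.center G) * Nat.card G = Nat.card (Subgroup.centralizer (T : Set G)) * Nat.card T := by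
  classical
  let _ : Fintype G := Fintype.ofFinite G
  let _ : Fintype T := Fintype.ofFinite T
  -- row counts
  have hrow : ∀ t : T, 2 * Nat.card {g : G // Commute (t : G) g}
      = Nat.card G + (if (t : G) ∈ Subgroup.center G then Nat.card G else 0) := by
    intro t
    have hcard : Nat.card {g : G // Commute (t : G) g}
        = Nat.card (Subgroup.centralizer ({(t : G)} : Set G)) :=
      Nat.card_congr (Equiv.subtypeEquivRight
        (fun g => (h57_mem_centralizer_singleton (t : G) g).symm))
    by_cases hc : (t : G) ∈ Subgroup.center G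
    · rw [if_pos hc]
      have hall : ∀ g : G, Commute (t : G) g := fun g => ((Subgroup.mem_center_iff.1 hc) g).symm
      have h3 : Nat.card {g : G // Commute (t : G) g} = Nat.card G :=
        Nat.card_congr (Equiv.subtypeUnivEquiv hall)
      rw [h3]
      ring
    · rw [if_neg hc, add_zero]
      obtain ⟨g0, hg0⟩ : ∃ g0 : G, ¬ Commute (t : G) g0 := by
        by_contra hcon
        push Not at hcon
        exact hc (Subgroup.mem_center_iff.2 (fun g => (hcon g).eq.symm))
      have h3 := h57_index_two_card (Subgroup.centralizer ({(t : G)} : Set G)) g0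
        (fun h => hg0 ((h57_mem_centralizer_singleton _ _).1 h))
        (fun a b ha hb => (h57_mem_centralizer_singleton _ _).2
          (H1 (t : G) t.2 a b (fun h => ha ((h57_mem_centralizer_singleton _ _).2 h))
            (fun h => hb ((h57_mem_centralizer_singleton _ _).2 h))))
      rw [hcard, h3]
  -- column counts
  have hcol : ∀ g : G, 2 * Nat.card {t : T // Commute (t : G) g}
      = Nat.card T + (if g ∈ Subgroup.centralizer (T : Set G) then Nat.card T else 0) := by
    intro g
    have hmem : ∀ t : T, t ∈ (Subgroup.centralizer ({g} : Set G)).subgroupOf T ↔ Commute (t : G) g := by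
      intro t
      rw [Subgroup.mem_subgroupOf, h57_mem_centralizer_singleton]
      exact ⟨fun h => h.symm, fun h => h.symm⟩
    have hcard : Nat.card {t : T // Commute (t : G) g}
        = Nat.card ((Subgroup.centralizer ({g} : Set G)).subgroupOf T) :=
      Nat.card_congr (Equiv.subtypeEquivRight (fun t => (hmem t).symm))
    by_cases hc : g ∈ Subgroup.centralizer (T : Set G)
    · rw [if_pos hc]
      have hall : ∀ t : T, Commute (t : G) g :=
        fun t => (Subgroup.mem_centralizer_iff.1 hc) (t : G) t.2
      have h3 : Nat.card {t : T // Commute (t : G) g} = Nat.card T :=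
        Nat.card_congr (Equiv.subtypeUnivEquiv hall)
      rw [h3]
      ring
    · rw [if_neg hc, add_zero]
      obtain ⟨t0, ht0⟩ : ∃ t0 : T, ¬ Commute (t0 : G) g := by
        by_contra hcon
        push Not at hcon
        exact hc (Subgroup.mem_centralizer_iff.2 (fun h hh => (hcon ⟨h, hh⟩).eq))
      have h3 := h57_index_two_card ((Subgroup.centralizer ({g} : Set G)).subgroupOf T) t0
        (fun h => ht0 ((hmem t0).1 h))
        (fun a b ha hb => (hmem (a⁻¹ * b)).2
          (H2 g (a : G) a.2 (b : G) b.2 (fun h => ha ((hmem a).2 h))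
            (fun h => hb ((hmem b).2 h))))
      rw [hcard, h3]
  -- the double count
  have hsum : ∑ t : T, Nat.card {g : G // Commute (t : G) g}
      = ∑ g : G, Nat.card {t : T // Commute (t : G) g} := by
    rw [← Nat.card_sigma, ← Nat.card_sigma]
    exact Nat.card_congr ⟨fun x => ⟨x.2.1, ⟨x.1, x.2.2⟩⟩, fun y => ⟨y.2.1, ⟨y.1, y.2.2⟩⟩,
      fun _ => rfl, fun _ => rfl⟩
  have hZc : Nat.card {t : T // (t : G) ∈ Subgroup.center G} = Nat.card (Subgroup.center G) :=
    Nat.card_congr ⟨fun x => ⟨x.1.1, x.2⟩, fun z => ⟨⟨z.1, hZ z.2⟩, z.2⟩, fun _ => rfl, fun _ => rfl⟩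
  have e1 : ∑ t : T, 2 * Nat.card {g : G // Commute (t : G) g}
      = Nat.card T * Nat.card G + Nat.card G * Nat.card (Subgroup.center G) := by
    simp_rw [hrow]
    rw [Finset.sum_add_distrib, Finset.sum_const, Finset.card_univ, smul_eq_mul,
      h57_sum_ite_card, hZc, Nat.card_eq_fintype_card (α := T)]
  have e2 : ∑ g : G, 2 * Nat.card {t : T // Commute (t : G) g}
      = Nat.card G * Nat.card T + Nat.card T * Nat.card (Subgroup.centralizer (T : Set G)) := by
    simp_rw [hcol]
    rw [Finset.sum_add_distrib, Finset.sum_const, Finset.card_univ, smul_eq_mul,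
      h57_sum_ite_card, Nat.card_eq_fintype_card (α := G)]
  rw [← Finset.mul_sum, hsum, Finset.mul_sum, e2] at e1
  nlinarith [e1]

end Cfsg.Agent.Lib.helper89.S60
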