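import Mathlib
import Cfsg.Agent.Lib.helper89.S60Defs

/-!
# S6000, piece EX3 (racing copy): elements of order 3 of `N(R)` with traces `1` and `-2`

For `Y ∈ R` with matrix `y`, `y * y = -1`, the unit `1 + y` normalizes `R` directly.  With
`y1 = t0 t1`, `y2 = t1 t2`, `y3 = t0 t1 t2`, `y4 = w • t3` put `G1 = (1 + y1)(1 + y2)`,
`G2 = (1 + y3)(1 + y4)`; then `G * G = 2 G - 4`, `G ^ 3 = -8`, `G1`, `G2` commute,
`hB = (-1/2) G1`, `hA = (1/4) G1 G2`.
-/

set_option autoImplicit false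

namespace Cfsg.Agent.Lib.helper89.S60

open Matrix Cfsg Cfsg.Geo

section ring

variable {A : Type*} [Ring A]

theorem h57_n_mul (y : A) (hy : y * y = -1) : (1 + y) * (1 - y) = 2 := by
  have h : (1 + y) * (1 - y) = 1 - y * y := by noncomm_ring
  rw [h, hy]
  norm_num

theorem h57_n_mul' (y : A) (hy : y * y = -1) : (1 - y) * (1 + y) = 2 := by
  have h : (1 - y) * (1 + y) = 1 - y * y := by noncomm_ring
  rw [h, hy]
  norm_num

theorem h57_hur_sq (y y' : A) (hy : y * y = -1) (hy' : y' * y' = -1) (h : y' * y = -(y * y')) :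
    ((1 + y) * (1 + y')) * ((1 + y) * (1 + y')) =
      (1 + y) * (1 + y') + (1 + y) * (1 + y') - (1 + 1 + 1 + 1) := by
  have hyl : ∀ x : A, y * (y * x) = -x := fun x => by rw [← mul_assoc, hy, neg_one_mul]
  have hy'l : ∀ x : A, y' * (y' * x) = -x := fun x => by rw [← mul_assoc, hy', neg_one_mul]
  have hl : ∀ x : A, y' * (y * x) = -(y * (y' * x)) := fun x => by
    rw [← mul_assoc, h, neg_mul, mul_assoc]
  simp only [add_mul, mul_add, mul_one, one_mul, mul_assoc, mul_neg, neg_neg, hy, hy', h,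
    hyl, hl]
  abel

theorem h57_hur_cube (G : A) (h : G * G = G + G - (1 + 1 + 1 + 1)) :
    G ^ 3 = -(1 + 1 + 1 + 1 + 1 + 1 + 1 + 1) := by
  rw [pow_succ, pow_two, h]
  simp only [sub_mul, add_mul, one_mul, h]
  abel

theorem h57_anti_prod (g p q : A) (hg : q * g = g * q) (h : q * p = -(p * q)) :
    q * (g * p) = -((g * p) * q) := by
  rw [← mul_assoc, hg, mul_assoc, h, mul_neg, mul_assoc]

end ring

theorem h57_two_smul {F : Type*} [Field F] :
    (2 : Matrix (Fin 4) (Fin 4) F) = (2 : F) • (1 : Matrix (Fin 4) (Fin 4) F) := by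
  rw [show (2 : F) = 1 + 1 by norm_num, add_smul, one_smul]
  norm_num

theorem h57_ones4 {F : Type*} [Field F] :
    (1 + 1 + 1 + 1 : Matrix (Fin 4) (Fin 4) F) = (4 : F) • (1 : Matrix (Fin 4) (Fin 4) F) := by
  rw [show (4 : F) = 1 + 1 + 1 + 1 by norm_num]
  simp only [add_smul, one_smul]

theorem h57_ones8 {F : Type*} [Field F] :
    (1 + 1 + 1 + 1 + 1 + 1 + 1 + 1 : Matrix (Fin 4) (Fin 4) F)
      = (8 : F) • (1 : Matrix (Fin 4) (Fin 4) F) := by
  rw [show (8 : F) = 1 + 1 + 1 + 1 + 1 + 1 + 1 + 1 by norm_num]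
  simp only [add_smul, one_smul]

/-- A matrix anticommuting with a square root of `-1` has trace zero. -/
theorem h57_trace_zero_of_anti {F : Type*} [Field F] (h2 : (2 : F) ≠ 0)
    (x y : Matrix (Fin 4) (Fin 4) F) (hy : y * y = -1) (h : y * x = -(x * y)) :
    Matrix.trace x = 0 := by
  have e1 : Matrix.trace (y * (x * y)) = -Matrix.trace x := by
    rw [Matrix.trace_mul_comm, mul_assoc, hy, mul_neg, mul_one, Matrix.trace_neg]
  have e2 : Matrix.trace (y * (x * y)) = Matrix.trace x := by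
    rw [← mul_assoc, h, neg_mul, mul_assoc, hy, mul_neg, mul_one, neg_neg]
  have h3 : (2 : F) * Matrix.trace x = 0 := by linear_combination e1 - e2
  exact (mul_eq_zero.1 h3).resolve_left h2

/-- The unit `1 + y` for `y * y = -1`. -/
theorem h57_exists_n {F : Type*} [Field F] (h2 : (2 : F) ≠ 0) (y : Matrix (Fin 4) (Fin 4) F)
    (hy : y * y = -1) :
    ∃ n : GL (Fin 4) F, (n : Matrix (Fin 4) (Fin 4) F) = 1 + y ∧
      ((n⁻¹ : GL (Fin 4) F) : Matrix (Fin 4) (Fin 4) F) = (2 : F)⁻¹ • (1 - y) :=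
  ⟨⟨1 + y, (2 : F)⁻¹ • (1 - y),
    by rw [mul_smul_comm, h57_n_mul y hy, h57_two_smul, smul_smul, inv_mul_cancel₀ h2, one_smul],
    by rw [smul_mul_assoc, h57_n_mul' y hy, h57_two_smul, smul_smul, inv_mul_cancel₀ h2, one_smul]⟩,
    rfl, rfl⟩

/-- A scalar unit. -/
theorem h57_exists_sc {F : Type*} [Field F] (c : F) (hc : c ≠ 0) :
    ∃ g : GL (Fin 4) F, (g : Matrix (Fin 4) (Fin 4) F) = c • (1 : Matrix (Fin 4) (Fin 4) F) :=
  ⟨⟨c • 1, c⁻¹ • 1,
    by rw [smul_mul_smul_comm, mul_one, mul_inv_cancel₀ hc, one_smul],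
    by rw [smul_mul_smul_comm, mul_one, inv_mul_cancel₀ hc, one_smul]⟩, rfl⟩

theorem h57_mem_normalizer_of_conj {F : Type*} [Field F] (R : Subgroup (GL (Fin 4) F)) [Finite R]
    (g : GL (Fin 4) F) (hconjR : ∀ s ∈ R, g * s * g⁻¹ ∈ R) : g ∈ subgroupNormalizer R := by
  show g ∈ Subgroup.normalizer (R : Set (GL (Fin 4) F))
  rw [Subgroup.mem_normalizer_iff]
  intro x
  constructor
  · exact hconjR x
  · intro hx
    have hinj : Function.Injective
        (fun s : R => (⟨g * (s : GL (Fin 4) F) * g⁻¹, hconjR s s.2⟩ : R)) := by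
      intro s s' hss
      have h1 : g * (s : GL (Fin 4) F) * g⁻¹ = g * (s' : GL (Fin 4) F) * g⁻¹ :=
        congrArg Subtype.val hss
      apply Subtype.ext
      exact mul_left_cancel (mul_right_cancel h1)
    obtain ⟨s, hs⟩ := (Finite.injective_iff_surjective.1 hinj) ⟨g * x * g⁻¹, hx⟩
    have h1 : g * (s : GL (Fin 4) F) * g⁻¹ = g * x * g⁻¹ := congrArg Subtype.val hs
    have h3 : (s : GL (Fin 4) F) = x := mul_left_cancel (mul_right_cancel h1)
    rw [← h3]
    exact s.2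

theorem h57_sc_normalizes {F : Type*} [Field F] (R : Subgroup (GL (Fin 4) F)) [Finite R]
    (g : GL (Fin 4) F) (c : F) (hg : (g : Matrix (Fin 4) (Fin 4) F) = c • (1 : Matrix (Fin 4) (Fin 4) F)) :
    g ∈ subgroupNormalizer R := by
  apply h57_mem_normalizer_of_conj
  intro s hs
  have h1 : g * s = s * g := by
    apply Units.ext
    rw [Units.val_mul, Units.val_mul, hg, Matrix.smul_mul, Matrix.one_mul, Matrix.mul_smul,
      Matrix.mul_one]
  rw [h1, mul_inv_cancel_right]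
  exact hs

/-- `1 + y` normalizes `R` for `Y ∈ R` with `y * y = -1`. -/
theorem h57_n_normalizes {F : Type*} [Field F] (h2 : (2 : F) ≠ 0) (R : Subgroup (GL (Fin 4) F))
    [Finite R]
    (hcomm : ∀ s ∈ R, ∀ t ∈ R, (s : Matrix (Fin 4) (Fin 4) F) * (t : Matrix (Fin 4) (Fin 4) F) = (t : Matrix (Fin 4) (Fin 4) F) * (s : Matrix (Fin 4) (Fin 4) F) ∨
      (s : Matrix (Fin 4) (Fin 4) F) * (t : Matrix (Fin 4) (Fin 4) F) = -((t : Matrix (Fin 4) (Fin 4) F) * (s : Matrix (Fin 4) (Fin 4) F)))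
    (z : GL (Fin 4) F) (hzR : z ∈ R) (hz : (z : Matrix (Fin 4) (Fin 4) F) = -1)
    (Y : GL (Fin 4) F) (hY : Y ∈ R)
    (hy : (Y : Matrix (Fin 4) (Fin 4) F) * (Y : Matrix (Fin 4) (Fin 4) F) = -1)
    (n : GL (Fin 4) F) (hn : (n : Matrix (Fin 4) (Fin 4) F) = 1 + (Y : Matrix (Fin 4) (Fin 4) F))
    (hn' : ((n⁻¹ : GL (Fin 4) F) : Matrix (Fin 4) (Fin 4) F)
      = (2 : F)⁻¹ • (1 - (Y : Matrix (Fin 4) (Fin 4) F))) :
    n ∈ subgroupNormalizer R := by
  apply h57_mem_normalizer_of_conj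
  intro s hs
  rcases hcomm s hs Y hY with hc | ha
  · have h1 : n * s = s * n := by
      apply Units.ext
      rw [Units.val_mul, Units.val_mul, hn, add_mul, mul_add, one_mul, mul_one, hc]
    rw [h1, mul_inv_cancel_right]
    exact hs
  · have h1 : n * s * n⁻¹ = z * s * Y := by
      apply Units.ext
      rw [Units.val_mul, Units.val_mul, Units.val_mul, Units.val_mul, hn, hn', hz]
      obtain ⟨y, hydef⟩ : ∃ y : Matrix (Fin 4) (Fin 4) F, y = (Y : Matrix (Fin 4) (Fin 4) F) :=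
        ⟨_, rfl⟩
      obtain ⟨m, hmdef⟩ : ∃ m : Matrix (Fin 4) (Fin 4) F, m = (s : Matrix (Fin 4) (Fin 4) F) :=
        ⟨_, rfl⟩
      rw [← hydef, ← hmdef] at ha ⊢
      rw [← hydef] at hy
      have ha' : y * m = -(m * y) := by rw [ha, neg_neg]
      have e1 : (1 + y) * m = m * (1 - y) := by
        rw [add_mul, one_mul, mul_sub, mul_one, ha']
        abel
      have e2 : (1 - y) * (1 - y) = -(y + y) := by
        have h3 : (1 - y) * (1 - y) = 1 - y - y + y * y := by noncomm_ring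
        rw [h3, hy]
        abel
      rw [mul_smul_comm, e1, mul_assoc, e2, mul_neg, mul_add, ← two_smul F (m * y), smul_neg,
        smul_smul, inv_mul_cancel₀ h2, one_smul, neg_one_mul, neg_mul]
    rw [h1]
    exact R.mul_mem (R.mul_mem hzR hs) hY

/-- EX3 (racing copy of `s60_exists_three`). -/
theorem h57_s60_exists_three {F : Type*} [Field F] [Fintype F] (h2 : (2 : F) ≠ 0) (R : Subgroup (GL (Fin 4) F)) (w : F) (hG : Good R w) :
    ∃ hA hB : GL (Fin 4) F, hA ∈ subgroupNormalizer R ∧ hB ∈ subgroupNormalizer R ∧ hA ^ 3 = 1 ∧ hB ^ 3 = 1 ∧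
      Matrix.trace (hA : Matrix (Fin 4) (Fin 4) F) = 1 ∧ Matrix.trace (hB : Matrix (Fin 4) (Fin 4) F) = -2 := by
  classical
  obtain ⟨t, htR, htsq, htanti, -⟩ := hG.frame
  obtain ⟨zw, hzwR, hzw⟩ := hG.wmem
  obtain ⟨z, hzdef⟩ : ∃ z : GL (Fin 4) F, z = zw * zw := ⟨_, rfl⟩
  have hzR : z ∈ R := by
    rw [hzdef]
    exact R.mul_mem hzwR hzwR
  have hz : (z : Matrix (Fin 4) (Fin 4) F) = -1 := by
    rw [hzdef, Units.val_mul, hzw, smul_mul_smul_comm, mul_one, hG.wsq, neg_smul, one_smul]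
  have hfin : Finite R := Nat.finite_of_card_ne_zero (by rw [hG.card]; norm_num)
  have h4ne : (4 : F) ≠ 0 := by
    have h44 : (4 : F) = 2 * 2 := by norm_num
    rw [h44]; exact mul_ne_zero h2 h2
  obtain ⟨a, ha⟩ : ∃ a : Matrix (Fin 4) (Fin 4) F, a = (t 0 : Matrix (Fin 4) (Fin 4) F) := ⟨_, rfl⟩
  obtain ⟨b, hb⟩ : ∃ b : Matrix (Fin 4) (Fin 4) F, b = (t 1 : Matrix (Fin 4) (Fin 4) F) := ⟨_, rfl⟩
  obtain ⟨c, hc⟩ : ∃ c : Matrix (Fin 4) (Fin 4) F, c = (t 2 : Matrix (Fin 4) (Fin 4) F) := ⟨_, rfl⟩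
  obtain ⟨d, hd⟩ : ∃ d : Matrix (Fin 4) (Fin 4) F, d = (t 3 : Matrix (Fin 4) (Fin 4) F) := ⟨_, rfl⟩
  have haa : a * a = 1 := by rw [ha]; exact htsq 0
  have hbb : b * b = 1 := by rw [hb]; exact htsq 1
  have hcc : c * c = 1 := by rw [hc]; exact htsq 2
  have hdd : d * d = 1 := by rw [hd]; exact htsq 3
  have hba : b * a = -(a * b) := by rw [ha, hb]; exact htanti 1 0 (by decide)
  have hca : c * a = -(a * c) := by rw [ha, hc]; exact htanti 2 0 (by decide)
  have hda : d * a = -(a * d) := by rw [ha, hd]; exact htanti 3 0 (by decide)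
  have hcb : c * b = -(b * c) := by rw [hb, hc]; exact htanti 2 1 (by decide)
  have hdb : d * b = -(b * d) := by rw [hb, hd]; exact htanti 3 1 (by decide)
  have hdc : d * c = -(c * d) := by rw [hc, hd]; exact htanti 3 2 (by decide)
  have haa' : ∀ x : Matrix (Fin 4) (Fin 4) F, a * (a * x) = x := fun x => by
    rw [← mul_assoc, haa, one_mul]
  have hbb' : ∀ x : Matrix (Fin 4) (Fin 4) F, b * (b * x) = x := fun x => by
    rw [← mul_assoc, hbb, one_mul]
  have hcc' : ∀ x : Matrix (Fin 4) (Fin 4) F, c * (c * x) = x := fun x => by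
    rw [← mul_assoc, hcc, one_mul]
  have hdd' : ∀ x : Matrix (Fin 4) (Fin 4) F, d * (d * x) = x := fun x => by
    rw [← mul_assoc, hdd, one_mul]
  have hba' : ∀ x : Matrix (Fin 4) (Fin 4) F, b * (a * x) = -(a * (b * x)) := fun x => by
    rw [← mul_assoc, hba, neg_mul, mul_assoc]
  have hca' : ∀ x : Matrix (Fin 4) (Fin 4) F, c * (a * x) = -(a * (c * x)) := fun x => by
    rw [← mul_assoc, hca, neg_mul, mul_assoc]
  have hda' : ∀ x : Matrix (Fin 4) (Fin 4) F, d * (a * x) = -(a * (d * x)) := fun x => by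
    rw [← mul_assoc, hda, neg_mul, mul_assoc]
  have hcb' : ∀ x : Matrix (Fin 4) (Fin 4) F, c * (b * x) = -(b * (c * x)) := fun x => by
    rw [← mul_assoc, hcb, neg_mul, mul_assoc]
  have hdb' : ∀ x : Matrix (Fin 4) (Fin 4) F, d * (b * x) = -(b * (d * x)) := fun x => by
    rw [← mul_assoc, hdb, neg_mul, mul_assoc]
  have hdc' : ∀ x : Matrix (Fin 4) (Fin 4) F, d * (c * x) = -(c * (d * x)) := fun x => by
    rw [← mul_assoc, hdc, neg_mul, mul_assoc]
  -- the four square roots of -1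
  have q1 : (a * b) * (a * b) = -1 := by
    simp only [mul_assoc, neg_mul, mul_neg, neg_neg, mul_one, haa, hbb, hcc, hdd, haa', hbb', hcc',
      hdd', hba, hca, hda, hcb, hdb, hdc, hba', hca', hda', hcb', hdb', hdc']
  have q2 : (b * c) * (b * c) = -1 := by
    simp only [mul_assoc, neg_mul, mul_neg, neg_neg, mul_one, haa, hbb, hcc, hdd, haa', hbb', hcc',
      hdd', hba, hca, hda, hcb, hdb, hdc, hba', hca', hda', hcb', hdb', hdc']
  have q3 : (a * b * c) * (a * b * c) = -1 := by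
    simp only [mul_assoc, neg_mul, mul_neg, neg_neg, mul_one, haa, hbb, hcc, hdd, haa', hbb', hcc',
      hdd', hba, hca, hda, hcb, hdb, hdc, hba', hca', hda', hcb', hdb', hdc']
  have q4 : (w • d) * (w • d) = -1 := by
    rw [smul_mul_smul_comm, hG.wsq, hdd, neg_smul, one_smul]
  have a12 : (b * c) * (a * b) = -((a * b) * (b * c)) := by
    simp only [mul_assoc, neg_mul, mul_neg, neg_neg, mul_one, haa, hbb, hcc, hdd, haa', hbb', hcc',
      hdd', hba, hca, hda, hcb, hdb, hdc, hba', hca', hda', hcb', hdb', hdc']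
  have a34 : (w • d) * (a * b * c) = -((a * b * c) * (w • d)) := by
    rw [smul_mul_assoc, mul_smul_comm, ← smul_neg]
    congr 1
    simp only [mul_assoc, neg_mul, mul_neg, neg_neg, mul_one, haa, hbb, hcc, hdd, haa', hbb', hcc',
      hdd', hba, hca, hda, hcb, hdb, hdc, hba', hca', hda', hcb', hdb', hdc']
  have c13 : Commute (a * b) (a * b * c) := by
    show (a * b) * (a * b * c) = (a * b * c) * (a * b)
    simp only [mul_assoc, neg_mul, mul_neg, neg_neg, mul_one, haa, hbb, hcc, hdd, haa', hbb', hcc',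
      hdd', hba, hca, hda, hcb, hdb, hdc, hba', hca', hda', hcb', hdb', hdc']
  have c23 : Commute (b * c) (a * b * c) := by
    show (b * c) * (a * b * c) = (a * b * c) * (b * c)
    simp only [mul_assoc, neg_mul, mul_neg, neg_neg, mul_one, haa, hbb, hcc, hdd, haa', hbb', hcc',
      hdd', hba, hca, hda, hcb, hdb, hdc, hba', hca', hda', hcb', hdb', hdc']
  have c14 : Commute (a * b) (w • d) := by
    show (a * b) * (w • d) = (w • d) * (a * b)
    rw [mul_smul_comm, smul_mul_assoc]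
    congr 1
    simp only [mul_assoc, neg_mul, mul_neg, neg_neg, mul_one, haa, hbb, hcc, hdd, haa', hbb', hcc',
      hdd', hba, hca, hda, hcb, hdb, hdc, hba', hca', hda', hcb', hdb', hdc']
  have c24 : Commute (b * c) (w • d) := by
    show (b * c) * (w • d) = (w • d) * (b * c)
    rw [mul_smul_comm, smul_mul_assoc]
    congr 1
    simp only [mul_assoc, neg_mul, mul_neg, neg_neg, mul_one, haa, hbb, hcc, hdd, haa', hbb', hcc',
      hdd', hba, hca, hda, hcb, hdb, hdc, hba', hca', hda', hcb', hdb', hdc']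
  -- names
  obtain ⟨y3, hy3⟩ : ∃ y3 : Matrix (Fin 4) (Fin 4) F, y3 = a * b * c := ⟨_, rfl⟩
  rw [← hy3] at q3 a34 c13 c23
  obtain ⟨y1, hy1⟩ : ∃ y1 : Matrix (Fin 4) (Fin 4) F, y1 = a * b := ⟨_, rfl⟩
  obtain ⟨y2, hy2⟩ : ∃ y2 : Matrix (Fin 4) (Fin 4) F, y2 = b * c := ⟨_, rfl⟩
  obtain ⟨y4, hy4⟩ : ∃ y4 : Matrix (Fin 4) (Fin 4) F, y4 = w • d := ⟨_, rfl⟩
  rw [← hy1] at q1 a12 c13 c14
  rw [← hy2] at q2 a12 c23 c24
  rw [← hy4] at q4 a34 c14 c24
  -- group elements
  have hY1 : ((t 0 * t 1 : GL (Fin 4) F) : Matrix (Fin 4) (Fin 4) F) = y1 := by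
    rw [Units.val_mul, hy1, ha, hb]
  have hY2 : ((t 1 * t 2 : GL (Fin 4) F) : Matrix (Fin 4) (Fin 4) F) = y2 := by
    rw [Units.val_mul, hy2, hb, hc]
  have hY3 : ((t 0 * t 1 * t 2 : GL (Fin 4) F) : Matrix (Fin 4) (Fin 4) F) = y3 := by
    rw [Units.val_mul, Units.val_mul, hy3, ha, hb, hc]
  have hY4 : ((zw * t 3 : GL (Fin 4) F) : Matrix (Fin 4) (Fin 4) F) = y4 := by
    rw [Units.val_mul, hzw, hy4, hd, Matrix.smul_mul, Matrix.one_mul]
  have hY1R : t 0 * t 1 ∈ R := R.mul_mem (htR 0) (htR 1)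
  have hY2R : t 1 * t 2 ∈ R := R.mul_mem (htR 1) (htR 2)
  have hY3R : t 0 * t 1 * t 2 ∈ R := R.mul_mem (R.mul_mem (htR 0) (htR 1)) (htR 2)
  have hY4R : zw * t 3 ∈ R := R.mul_mem hzwR (htR 3)
  obtain ⟨n1, hn1, hn1'⟩ := h57_exists_n h2 y1 q1
  obtain ⟨n2, hn2, hn2'⟩ := h57_exists_n h2 y2 q2
  obtain ⟨n3, hn3, hn3'⟩ := h57_exists_n h2 y3 q3
  obtain ⟨n4, hn4, hn4'⟩ := h57_exists_n h2 y4 q4
  have hN1 : n1 ∈ subgroupNormalizer R :=
    h57_n_normalizes h2 R hG.comm z hzR hz (t 0 * t 1) hY1R (by rw [hY1]; exact q1) n1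
      (by rw [hY1]; exact hn1) (by rw [hY1]; exact hn1')
  have hN2 : n2 ∈ subgroupNormalizer R :=
    h57_n_normalizes h2 R hG.comm z hzR hz (t 1 * t 2) hY2R (by rw [hY2]; exact q2) n2
      (by rw [hY2]; exact hn2) (by rw [hY2]; exact hn2')
  have hN3 : n3 ∈ subgroupNormalizer R :=
    h57_n_normalizes h2 R hG.comm z hzR hz (t 0 * t 1 * t 2) hY3R (by rw [hY3]; exact q3) n3
      (by rw [hY3]; exact hn3) (by rw [hY3]; exact hn3')
  have hN4 : n4 ∈ subgroupNormalizer R :=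
    h57_n_normalizes h2 R hG.comm z hzR hz (zw * t 3) hY4R (by rw [hY4]; exact q4) n4
      (by rw [hY4]; exact hn4) (by rw [hY4]; exact hn4')
  obtain ⟨sB, hsB⟩ := h57_exists_sc (-(2 : F)⁻¹) (neg_ne_zero.2 (inv_ne_zero h2))
  obtain ⟨sA, hsA⟩ := h57_exists_sc ((4 : F)⁻¹) (inv_ne_zero h4ne)
  have hsBN : sB ∈ subgroupNormalizer R := h57_sc_normalizes R sB _ hsB
  have hsAN : sA ∈ subgroupNormalizer R := h57_sc_normalizes R sA _ hsA
  -- the two Hurwitz elements
  obtain ⟨G1, hG1⟩ : ∃ G1 : Matrix (Fin 4) (Fin 4) F, G1 = (1 + y1) * (1 + y2) := ⟨_, rfl⟩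
  obtain ⟨G2, hG2⟩ : ∃ G2 : Matrix (Fin 4) (Fin 4) F, G2 = (1 + y3) * (1 + y4) := ⟨_, rfl⟩
  have cube1 : G1 ^ 3 = -((8 : F) • (1 : Matrix (Fin 4) (Fin 4) F)) := by
    rw [← h57_ones8, hG1]
    exact h57_hur_cube _ (h57_hur_sq y1 y2 q1 q2 a12)
  have cube2 : G2 ^ 3 = -((8 : F) • (1 : Matrix (Fin 4) (Fin 4) F)) := by
    rw [← h57_ones8, hG2]
    exact h57_hur_cube _ (h57_hur_sq y3 y4 q3 q4 a34)
  have C13 : Commute (1 + y1) (1 + y3) :=
    (Commute.one_left _).add_left ((Commute.one_right _).add_right c13)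
  have C14 : Commute (1 + y1) (1 + y4) :=
    (Commute.one_left _).add_left ((Commute.one_right _).add_right c14)
  have C23 : Commute (1 + y2) (1 + y3) :=
    (Commute.one_left _).add_left ((Commute.one_right _).add_right c23)
  have C24 : Commute (1 + y2) (1 + y4) :=
    (Commute.one_left _).add_left ((Commute.one_right _).add_right c24)
  have C12 : Commute G1 G2 := by
    rw [hG1, hG2]
    exact (C13.mul_right C14).mul_left (C23.mul_right C24)
  -- traces
  have tr1 : Matrix.trace (1 : Matrix (Fin 4) (Fin 4) F) = 4 := by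
    rw [Matrix.trace_one, Fintype.card_fin]
    norm_num
  have ty1 : Matrix.trace y1 = 0 := h57_trace_zero_of_anti h2 y1 y2 q2 a12
  have ty2 : Matrix.trace y2 = 0 :=
    h57_trace_zero_of_anti h2 y2 y1 q1 (by rw [a12, neg_neg])
  have ty12 : Matrix.trace (y1 * y2) = 0 :=
    h57_trace_zero_of_anti h2 (y1 * y2) y2 q2 (by rw [← mul_assoc, a12, neg_mul])
  have tG1 : Matrix.trace G1 = 4 := by
    rw [hG1, add_mul, mul_add, mul_add, one_mul, one_mul, mul_one, Matrix.trace_add,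
      Matrix.trace_add, Matrix.trace_add, tr1, ty1, ty2, ty12]
    ring
  have g3 : y3 * G1 = G1 * y3 := by
    rw [hG1]
    have h1 : Commute ((1 + y1) * (1 + y2)) y3 :=
      ((Commute.one_left _).add_left c13).mul_left ((Commute.one_left _).add_left c23)
    exact h1.eq.symm
  have g4 : y4 * G1 = G1 * y4 := by
    rw [hG1]
    have h1 : Commute ((1 + y1) * (1 + y2)) y4 :=
      ((Commute.one_left _).add_left c14).mul_left ((Commute.one_left _).add_left c24)
    exact h1.eq.symm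
  have a43 : y3 * y4 = -(y4 * y3) := by rw [a34, neg_neg]
  have tg3 : Matrix.trace (G1 * y3) = 0 :=
    h57_trace_zero_of_anti h2 (G1 * y3) y4 q4 (h57_anti_prod G1 y3 y4 g4 a34)
  have tg4 : Matrix.trace (G1 * y4) = 0 :=
    h57_trace_zero_of_anti h2 (G1 * y4) y3 q3 (h57_anti_prod G1 y4 y3 g3 a43)
  have tg34 : Matrix.trace (G1 * (y3 * y4)) = 0 :=
    h57_trace_zero_of_anti h2 (G1 * (y3 * y4)) y3 q3
      (h57_anti_prod G1 (y3 * y4) y3 g3 (by rw [mul_assoc, a34, mul_neg, neg_neg]))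
  have tG12 : Matrix.trace (G1 * G2) = 4 := by
    have e : G1 * G2 = G1 + G1 * y3 + G1 * y4 + G1 * (y3 * y4) := by
      rw [hG2]
      simp only [mul_add, add_mul, mul_one, one_mul]
      abel
    rw [e, Matrix.trace_add, Matrix.trace_add, Matrix.trace_add, tG1, tg3, tg4, tg34]
    ring
  -- the elements
  have hBval : ((sB * n1 * n2 : GL (Fin 4) F) : Matrix (Fin 4) (Fin 4) F) = (-(2 : F)⁻¹) • G1 := by
    rw [Units.val_mul, Units.val_mul, hsB, hn1, hn2, hG1, Matrix.smul_mul, Matrix.one_mul,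
      Matrix.smul_mul]
  have hAval : ((sA * (n1 * n2) * (n3 * n4) : GL (Fin 4) F) : Matrix (Fin 4) (Fin 4) F)
      = ((4 : F)⁻¹) • (G1 * G2) := by
    rw [Units.val_mul, Units.val_mul, Units.val_mul, Units.val_mul, hsA, hn1, hn2, hn3, hn4, hG1,
      hG2, Matrix.smul_mul, Matrix.one_mul, Matrix.smul_mul]
  refine ⟨sA * (n1 * n2) * (n3 * n4), sB * n1 * n2, ?_, ?_, ?_, ?_, ?_, ?_⟩
  · exact (subgroupNormalizer R).mul_mem ((subgroupNormalizer R).mul_mem hsAN
      ((subgroupNormalizer R).mul_mem hN1 hN2)) ((subgroupNormalizer R).mul_mem hN3 hN4)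
  · exact (subgroupNormalizer R).mul_mem ((subgroupNormalizer R).mul_mem hsBN hN1) hN2
  · apply Units.ext
    rw [Units.val_pow_eq_pow_val, hAval, smul_pow, C12.mul_pow, cube1, cube2, neg_mul_neg,
      smul_mul_smul_comm, mul_one, smul_smul]
    have h5 : ((4 : F)⁻¹) ^ 3 * (8 * 8) = 1 := by
      field_simp
      norm_num
    rw [h5, one_smul]
    rfl
  · apply Units.ext
    rw [Units.val_pow_eq_pow_val, hBval, smul_pow, cube1, smul_neg, smul_smul]
    have h5 : (-(2 : F)⁻¹) ^ 3 * 8 = -1 := by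
      field_simp
      norm_num
    rw [h5, neg_smul, one_smul, neg_neg]
    rfl
  · rw [hAval, Matrix.trace_smul, tG12, smul_eq_mul]
    field_simp
  · rw [hBval, Matrix.trace_smul, tG1, smul_eq_mul]
    field_simp
    norm_num

end Cfsg.Agent.Lib.helper89.S60
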