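import Mathlib
import Cfsg.Agent.Lib.helper24.S6eDefs

/-!
# S6002, piece B5C (core): no `Z5 × Z5` among matrices without eigenvalue 1

`h57_s6_five_comm_core` is the statement of `s6_five_comm` with the statement of B5F
(`s6_five_no_fix`, specialised to the field) as a hypothesis.
-/

set_option autoImplicit false

namespace Cfsg.Agent.Lib.helper24

open Matrix Cfsg Cfsg.Geo

/-- If `c ^ 5 = 1` and `c - 1` is invertible then `1 + c + c² + c³ + c⁴ = 0`. -/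
theorem h57_s6_norm_zero {F : Type*} [Field F] (c : Matrix S6I S6I F) (hc : c ^ 5 = 1)
    (hdet : (c - 1).det ≠ 0) : 1 + c + c ^ 2 + c ^ 3 + c ^ 4 = 0 := by
  have hu : IsUnit (c - 1) := (Matrix.isUnit_iff_isUnit_det _).2 (isUnit_iff_ne_zero.2 hdet)
  have h : (c - 1) * (1 + c + c ^ 2 + c ^ 3 + c ^ 4) = 0 := by
    have h1 : (c - 1) * (1 + c + c ^ 2 + c ^ 3 + c ^ 4) = c ^ 5 - 1 := by noncomm_ring
    rw [h1, hc, sub_self]
  exact (hu.mul_right_eq_zero).1 h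

/-- `5 ≠ 0` in a finite field whose order has order 4 modulo 5. -/
theorem h57_s6_five_ne_zero {F : Type*} [Field F] [Fintype F]
    (h4 : orderOf ((Fintype.card F : ℕ) : ZMod 5) = 4) : (5 : F) ≠ 0 := by
  intro h50
  have h1 : addOrderOf (1 : F) ∣ 5 := addOrderOf_dvd_of_nsmul_eq_zero (by simpa using h50)
  have h2 : addOrderOf (1 : F) = 1 ∨ addOrderOf (1 : F) = 5 := (Nat.dvd_prime Nat.prime_five).1 h1
  rcases h2 with h2 | h2
  · rw [AddMonoid.addOrderOf_eq_one_iff] at h2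
    exact one_ne_zero h2
  · have h3 : 5 ∣ Fintype.card F := h2 ▸ addOrderOf_dvd_card
    have h6 : ((Fintype.card F : ℕ) : ZMod 5) = 0 := (ZMod.natCast_eq_zero_iff _ _).2 h3
    rw [h6] at h4
    have h7 := pow_orderOf_eq_one (0 : ZMod 5)
    rw [h4] at h7
    exact absurd h7 (by decide)

/-- B5C with the statement of B5F as a hypothesis. -/
theorem h57_s6_five_comm_core {F : Type*} [Field F] [Fintype F]
    (h4 : orderOf ((Fintype.card F : ℕ) : ZMod 5) = 4)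
    (hB5F : ∀ c : Matrix S6I S6I F, c ^ 5 = 1 → c ≠ 1 → (c - 1).det ≠ 0)
    (a b : Matrix S6I S6I F) (ha : a ^ 5 = 1)
    (hb : b ^ 5 = 1) (ha1 : a ≠ 1) (hab : a * b = b * a) : ∃ k : ℕ, b = a ^ k := by
  by_contra hcon
  push Not at hcon
  have hN : ∀ c : Matrix S6I S6I F, c ^ 5 = 1 → c ≠ 1 → 1 + c + c ^ 2 + c ^ 3 + c ^ 4 = 0 :=
    fun c hc hc1 => h57_s6_norm_zero c hc (hB5F c hc hc1)
  have hcm : Commute a b := hab
  have hm : ∀ m : ℕ, m ≤ 5 → (a ^ m * b) ^ 5 = 1 ∧ a ^ m * b ≠ 1 := by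
    intro m hm
    constructor
    · rw [(hcm.pow_left m).mul_pow, ← pow_mul, mul_comm m 5, pow_mul, ha, one_pow, hb, one_mul]
    · intro h1
      apply hcon (5 - m)
      have h2 : a ^ (5 - m) * (a ^ m * b) = a ^ (5 - m) := by rw [h1, mul_one]
      rw [← mul_assoc, ← pow_add, Nat.sub_add_cancel hm, ha, one_mul] at h2
      exact h2
  have hE : ∀ m : ℕ, m ≤ 5 →
      1 + a ^ m * b + a ^ (2 * m) * b ^ 2 + a ^ (3 * m) * b ^ 3 + a ^ (4 * m) * b ^ 4 = 0 := by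
    intro m hm5
    have h := hN (a ^ m * b) (hm m hm5).1 (hm m hm5).2
    rw [(hcm.pow_left m).mul_pow 2, (hcm.pow_left m).mul_pow 3, (hcm.pow_left m).mul_pow 4,
      ← pow_mul, ← pow_mul, ← pow_mul, mul_comm m 2, mul_comm m 3, mul_comm m 4] at h
    exact h
  have h6 : a ^ 6 = a := by
    have h : a ^ 6 = a ^ 5 * a := by rw [← pow_succ]
    rw [h, ha, one_mul]
  have h8 : a ^ 8 = a ^ 3 := by
    have h : a ^ 8 = a ^ 5 * a ^ 3 := by rw [← pow_add]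
    rw [h, ha, one_mul]
  have h9 : a ^ 9 = a ^ 4 := by
    have h : a ^ 9 = a ^ 5 * a ^ 4 := by rw [← pow_add]
    rw [h, ha, one_mul]
  have h12 : a ^ 12 = a ^ 2 := by
    have h : a ^ 12 = a ^ 5 * (a ^ 5 * a ^ 2) := by rw [← pow_add, ← pow_add]
    rw [h, ha, one_mul, one_mul]
  have h16 : a ^ 16 = a := by
    have h : a ^ 16 = a ^ 5 * (a ^ 5 * (a ^ 5 * a)) := by rw [← pow_succ, ← pow_add, ← pow_add]
    rw [h, ha, one_mul, one_mul, one_mul]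
  have eN : 1 + a + a ^ 2 + a ^ 3 + a ^ 4 = 0 := hN a ha ha1
  have e0 : 1 + b + b ^ 2 + b ^ 3 + b ^ 4 = 0 := by
    have h := hE 0 (by norm_num)
    simpa using h
  have e1 : 1 + a * b + a ^ 2 * b ^ 2 + a ^ 3 * b ^ 3 + a ^ 4 * b ^ 4 = 0 := by
    have h := hE 1 (by norm_num)
    simpa using h
  have e2 : 1 + a ^ 2 * b + a ^ 4 * b ^ 2 + a * b ^ 3 + a ^ 3 * b ^ 4 = 0 := by
    have h := hE 2 (by norm_num)
    norm_num at h
    rw [h6, h8] at h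
    exact h
  have e3 : 1 + a ^ 3 * b + a * b ^ 2 + a ^ 4 * b ^ 3 + a ^ 2 * b ^ 4 = 0 := by
    have h := hE 3 (by norm_num)
    norm_num at h
    rw [h6, h9, h12] at h
    exact h
  have e4 : 1 + a ^ 4 * b + a ^ 3 * b ^ 2 + a ^ 2 * b ^ 3 + a * b ^ 4 = 0 := by
    have h := hE 4 (by norm_num)
    norm_num at h
    rw [h8, h12, h16] at h
    exact h
  have hA : (1 + b + b ^ 2 + b ^ 3 + b ^ 4) + (1 + a * b + a ^ 2 * b ^ 2 + a ^ 3 * b ^ 3 + a ^ 4 * b ^ 4)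
      + (1 + a ^ 2 * b + a ^ 4 * b ^ 2 + a * b ^ 3 + a ^ 3 * b ^ 4)
      + (1 + a ^ 3 * b + a * b ^ 2 + a ^ 4 * b ^ 3 + a ^ 2 * b ^ 4)
      + (1 + a ^ 4 * b + a ^ 3 * b ^ 2 + a ^ 2 * b ^ 3 + a * b ^ 4)
      = (1 + 1 + 1 + 1 + 1) + (1 + a + a ^ 2 + a ^ 3 + a ^ 4) * b
        + (1 + a + a ^ 2 + a ^ 3 + a ^ 4) * b ^ 2 + (1 + a + a ^ 2 + a ^ 3 + a ^ 4) * b ^ 3
        + (1 + a + a ^ 2 + a ^ 3 + a ^ 4) * b ^ 4 := by
    simp only [add_mul, one_mul]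
    abel
  rw [e0, e1, e2, e3, e4, eN] at hA
  simp only [zero_mul, add_zero] at hA
  have h5 := congrFun (congrFun hA (Sum.inl 0)) (Sum.inl 0)
  simp only [Matrix.zero_apply, Matrix.add_apply, Matrix.one_apply_eq] at h5
  apply h57_s6_five_ne_zero h4
  rw [h5]
  norm_num

end Cfsg.Agent.Lib.helper24
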