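import Mathlib
import Cfsg.Agent.Lib.helper24.S6eDefs
import Cfsg.Agent.Lib.helper1.S6eB5F
import Cfsg.Agent.Lib.helper57.S6eB5Ccore

/-!
# S6002, piece B5C: `s6_five_comm` (verbatim Skel statement)
-/

set_option autoImplicit false

namespace Cfsg.Agent.Lib.helper24

open Matrix Cfsg Cfsg.Geo

/-- B5C (M; uses B5F). No Z5 × Z5. -/
theorem s6_five_comm {F : Type*} [Field F] [Fintype F]
    (h4 : orderOf ((Fintype.card F : ℕ) : ZMod 5) = 4) (a b : Matrix S6I S6I F) (ha : a ^ 5 = 1)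
    (hb : b ^ 5 = 1) (ha1 : a ≠ 1) (hab : a * b = b * a) : ∃ k : ℕ, b = a ^ k :=
  h57_s6_five_comm_core h4 (fun c hc hc1 => s6_five_no_fix h4 c hc hc1) a b ha hb ha1 hab

end Cfsg.Agent.Lib.helper24
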