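import Mathlib
import Cfsg.Agent.Lib.helper44.SL3Defs
import Cfsg.Agent.Lib.helper90.SL3C1d
import Cfsg.Agent.Lib.helper76.SL3C1ef
import Cfsg.Agent.Lib.helper83.SL3T2
import Cfsg.Agent.Lib.helper84.SL3C2

/-!
# S2287 piece A2G, core form: `IsA2Conf` from the base configuration

The outputs of T1 (`tor1_of_base`) and C1c (`core1_central`) enter as hypotheses; C1d, C1e, C1f,
T2, C2 are the landed pieces.
-/

set_option autoImplicit false

namespace Cfsg.Agent.Lib.helper44.SL3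

open Polynomial

theorem h57_a2conf_core {G : Type*} [Group G] {F : Type*} [Field F] [Fintype F] {p : ℕ}
    [Fact p.Prime] [Algebra (ZMod p) F] (x : F → G) (h c : G) (ω : F) (hB : IsBase x h c ω)
    (hκ : Algebra.adjoin (ZMod p) {ω ^ 3} = ⊤)
    (r10 : cm (ZZ x c 1) (WW x c 1) = x 1)
    (hT : IsTor1 x (yy x c) h (h * (c * h * c⁻¹)⁻¹)
      ((c * c * h * (c * c)⁻¹) * (c * h * c⁻¹)⁻¹) ω (ω ^ 3))
    (hcen : ∀ a b a', Commute (x a') (cm (x a) (yy x c b)) ∧
      Commute (yy x c a') (cm (x a) (yy x c b))) :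
    IsA2Conf x c := by
  have hω : Algebra.adjoin (ZMod p) {ω} = ⊤ := by
    apply top_le_iff.mp
    rw [← hκ]
    apply Algebra.adjoin_le
    intro y hy
    rw [Set.mem_singleton_iff] at hy
    rw [hy]
    exact pow_mem (Algebra.subset_adjoin (Set.mem_singleton ω)) 3
  have hω0 : ω ≠ 0 := hB.ω0
  have hκ0 : ω ^ 3 ≠ 0 := pow_ne_zero 3 hω0
  obtain ⟨hadd1, -⟩ := core1_biadd x (yy x c) hT.x_add hT.y_add hcen
  have hstep := core1_dfix x (yy x c) h _ _ ω (ω ^ 3) hT hκ hω hω0 hκ0 hcen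
  have hbal := core1_balance x (yy x c) (ω ^ 3) hT.x_add hT.y_add hcen hκ hstep
  have hbp : ∀ a b, zz x c a b = ZZ x c (a * b) := fun a b => hbal a b
  have hrow : ∀ a b, Commute (x a) (ZZ x c b) := fun a b => (hcen b 1 a).1
  have hcol : ∀ a b, Commute (yy x c a) (ZZ x c b) := fun a b => (hcen b 1 a).2
  have hZadd : ∀ a b, ZZ x c (a + b) = ZZ x c a * ZZ x c b := fun a b => hadd1 a b 1
  have hWadd : ∀ a b, WW x c (a + b) = WW x c a * WW x c b := by
    intro a b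
    unfold WW
    rw [hZadd]; group
  have hcc : ∀ a, c * c * yy x c a * (c * c)⁻¹ = x a := by
    intro a
    unfold yy
    have e : c * c * (c * x a * c⁻¹) * (c * c)⁻¹ = (c * c * c) * x a * (c * c * c)⁻¹ := by
      group
    rw [e, hB.c3, one_mul, inv_one, mul_one]
  have hxW : ∀ a b, Commute (x a) (WW x c b) := by
    intro a b
    rw [← hcc a]
    unfold WW
    exact (Commute.conj_iff (c * c)).mpr (hcol a b)
  obtain ⟨gZ, gW, gx, eZ, eW, ex, -, -⟩ := tor2_of_base x h c ω hB hbp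
  have hbm := core2 x (ZZ x c) (WW x c) (h * (c * h * c⁻¹)⁻¹) h⁻¹ (ω ^ 3) ω (ω⁻¹ * ω⁻¹)
    hB.x_add hZadd hWadd hrow hxW r10 gZ gW gx eZ eW ex hκ hω
    (mul_ne_zero (inv_ne_zero hω0) (inv_ne_zero hω0))
  exact ⟨hB.x_add, hB.c3, hrow, hcol, hbp, hbm⟩

end Cfsg.Agent.Lib.helper44.SL3
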