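import Mathlib
import Cfsg.Agent.Lib.helper69.SNDefs

/-!
# S4073 piece E1-A (`sn_sylow2_fusion_center`): no fusion in the centre of a non-abelian Sylow
2-subgroup of an `SN`-group (Burnside's fusion lemma + self-normalization)
-/

set_option autoImplicit false

namespace Cfsg.Agent.Lib.helper57.SNG

open Cfsg.Agent.Lib.helper69.SNG

universe u v

/-- **[E1-A]** -/
theorem sn_sylow2_fusion_center {G : Type u} [Group G] [Finite G] (h : SN G) (S : Sylow 2 G)
    (hS : ¬ IsMulCommutative S) (z : G) (hzS : z ∈ S)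
    (hz : z ∈ Subgroup.centralizer ((S : Subgroup G) : Set G)) (g : G)
    (hgS : g * z * g⁻¹ ∈ S)
    (hg : g * z * g⁻¹ ∈ Subgroup.centralizer ((S : Subgroup G) : Set G)) :
    g * z * g⁻¹ = z := by
  have hp2 : Fact (Nat.Prime 2) := ⟨Nat.prime_two⟩
  have hy : (g⁻¹)⁻¹ * z * g⁻¹ ∈ Subgroup.centralizer ((S : Subgroup G) : Set G) := by
    rw [inv_inv]
    exact hg
  obtain ⟨n, hn, hnz⟩ := Sylow.conj_eq_normalizer_conj_of_mem_centralizer S z g⁻¹ hz hy
  rw [inv_inv] at hnz
  rw [hnz]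
  have hN := h (S : Subgroup G) hS
  have hn' : n ∈ Subgroup.normalizer ((S : Subgroup G) : Set G) := hn
  rw [hN] at hn'
  have hcomm : n * z = z * n := Subgroup.mem_centralizer_iff.mp hz n hn'
  calc n⁻¹ * z * n = n⁻¹ * (z * n) := by group
    _ = n⁻¹ * (n * z) := by rw [hcomm]
    _ = z := by group

end Cfsg.Agent.Lib.helper57.SNG
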