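import Mathlib
import Cfsg.Prelude.Def_Classical
import Cfsg.Prelude.Def_GeometricClasses
import Cfsg.Agent.Lib.helper49.WittIso

/-!
# S5977 / S5978 block [A], piece EIGB: an involutory isometry has an orthogonal eigenbasis
-/

set_option autoImplicit false

namespace Cfsg.Agent.Lib.helper59.Sfk

open Matrix Cfsg.Geo
open Cfsg.Agent.Lib.helper49 (detHom spinorSign)

/-- EIGB (L): an involutory isometry has an orthogonal basis of eigenvectors. -/
theorem sfk_eig_basis {F : Type*} [Field F] {ι : Type} [Fintype ι] [DecidableEq ι]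
    (h2 : (2 : F) ≠ 0) (Q : QuadraticForm F (ι → F))
    (hQ : (QuadraticMap.polarBilin Q).Nondegenerate)
    (x : GL ι F) (hx : x ∈ Cfsg.isometryGroup F (⇑Q))
    (hxx : (x : Matrix ι ι F) * (x : Matrix ι ι F) = 1) :
    ∃ (e : Fin (Fintype.card ι) → (ι → F)) (ε : Fin (Fintype.card ι) → F),
      LinearIndependent F e ∧
      (∀ i j, i ≠ j → QuadraticMap.polar (⇑Q) (e i) (e j) = 0) ∧ (∀ i, Q (e i) ≠ 0) ∧
      (∀ i, ε i = 1 ∨ ε i = -1) ∧ ∀ i, (x : Matrix ι ι F) *ᵥ e i = ε i • e i := by
  classical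
  let _ : Invertible (2 : F) := invertibleOfNonzero h2
  have hiso : ∀ u : ι → F, Q ((x : Matrix ι ι F) *ᵥ u) = Q u := fun u => hx u u
  have hpol : ∀ u v : ι → F, QuadraticMap.polar (⇑Q) ((x : Matrix ι ι F) *ᵥ u)
      ((x : Matrix ι ι F) *ᵥ v) = QuadraticMap.polar (⇑Q) u v := by
    intro u v
    simp only [QuadraticMap.polar, ← Matrix.mulVec_add, hiso]
  have hxxv : ∀ v : ι → F, (x : Matrix ι ι F) *ᵥ ((x : Matrix ι ι F) *ᵥ v) = v := by
    intro v
    rw [Matrix.mulVec_mulVec, hxx, Matrix.one_mulVec]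
  let X : (ι → F) →ₗ[F] (ι → F) := Matrix.mulVecLin (x : Matrix ι ι F)
  let Wp : Submodule F (ι → F) := LinearMap.ker (X - LinearMap.id)
  let Wm : Submodule F (ι → F) := LinearMap.ker (X + LinearMap.id)
  have hWp : ∀ v, v ∈ Wp ↔ (x : Matrix ι ι F) *ᵥ v = v := by
    intro v
    simp only [Wp, X, LinearMap.mem_ker, LinearMap.sub_apply, Matrix.mulVecLin_apply,
      LinearMap.id_coe, id_eq, sub_eq_zero]
  have hWm : ∀ v, v ∈ Wm ↔ (x : Matrix ι ι F) *ᵥ v = -v := by
    intro v
    simp only [Wm, X, LinearMap.mem_ker, LinearMap.add_apply, Matrix.mulVecLin_apply,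
      LinearMap.id_coe, id_eq, add_eq_zero_iff_eq_neg]
  have hcompl : IsCompl Wp Wm := by
    constructor
    · rw [Submodule.disjoint_def]
      intro v hp hm
      rw [hWp] at hp
      rw [hWm] at hm
      have h : v = -v := hp.symm.trans hm
      have h' : (2 : F) • v = 0 := by
        rw [two_smul]
        nth_rewrite 1 [h]
        exact neg_add_cancel v
      exact (smul_eq_zero.1 h').resolve_left h2
    · rw [codisjoint_iff, eq_top_iff]
      intro v _
      have hv : v = (2 : F)⁻¹ • (v + (x : Matrix ι ι F) *ᵥ v)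
          + (2 : F)⁻¹ • (v - (x : Matrix ι ι F) *ᵥ v) := by
        rw [← smul_add]
        have h3 : v + (x : Matrix ι ι F) *ᵥ v + (v - (x : Matrix ι ι F) *ᵥ v) = (2 : F) • v := by
          rw [two_smul]
          abel
        rw [h3, smul_smul, inv_mul_cancel₀ h2, one_smul]
      rw [hv]
      apply Submodule.add_mem_sup
      · apply Submodule.smul_mem
        rw [hWp, Matrix.mulVec_add, hxxv, add_comm]
      · apply Submodule.smul_mem
        rw [hWm, Matrix.mulVec_sub, hxxv, neg_sub]
  have hperp : ∀ u ∈ Wp, ∀ v ∈ Wm, QuadraticMap.polar (⇑Q) u v = 0 := by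
    intro u hu v hv
    rw [hWp] at hu
    rw [hWm] at hv
    have h := hpol u v
    rw [hu, hv, QuadraticMap.polar_neg_right] at h
    have h' : (2 : F) * QuadraticMap.polar (⇑Q) u v = 0 := by
      rw [two_mul]
      nth_rewrite 1 [← h]
      exact neg_add_cancel _
    exact (mul_eq_zero.1 h').resolve_left h2
  let B : LinearMap.BilinForm F (ι → F) := QuadraticMap.polarBilin Q
  have hBapp : ∀ u v : ι → F, B u v = QuadraticMap.polar (⇑Q) u v := fun u v => rfl
  have hBsp : (B.restrict Wp).IsSymm := ⟨fun u v => QuadraticMap.polar_comm _ _ _⟩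
  have hBsm : (B.restrict Wm).IsSymm := ⟨fun u v => QuadraticMap.polar_comm _ _ _⟩
  obtain ⟨bp, hbp⟩ := LinearMap.BilinForm.exists_orthogonal_basis (B := B.restrict Wp)
    (LinearMap.BilinForm.isSymm_iff.1 hBsp)
  obtain ⟨bm, hbm⟩ := LinearMap.BilinForm.exists_orthogonal_basis (B := B.restrict Wm)
    (LinearMap.BilinForm.isSymm_iff.1 hBsm)
  let bs : Module.Basis (Fin (Module.finrank F Wp) ⊕ Fin (Module.finrank F Wm)) F (ι → F) :=
    (bp.prod bm).map (Submodule.prodEquivOfIsCompl Wp Wm hcompl)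
  have hcard : Fintype.card (Fin (Module.finrank F Wp) ⊕ Fin (Module.finrank F Wm))
      = Fintype.card ι := by
    rw [← Module.finrank_eq_card_basis bs, Module.finrank_fintype_fun_eq_card]
  let σ : (Fin (Module.finrank F Wp) ⊕ Fin (Module.finrank F Wm)) ≃ Fin (Fintype.card ι) :=
    Fintype.equivFinOfCardEq hcard
  have hbs_inl : ∀ a, bs (Sum.inl a) = (bp a : ι → F) := by
    intro a
    simp [bs, Submodule.coe_prodEquivOfIsCompl']
  have hbs_inr : ∀ a, bs (Sum.inr a) = (bm a : ι → F) := by
    intro a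
    simp [bs, Submodule.coe_prodEquivOfIsCompl']
  -- orthogonality of the combined basis
  have hortho : ∀ s t, s ≠ t → QuadraticMap.polar (⇑Q) (bs s) (bs t) = 0 := by
    intro s t hst
    rcases s with a | a <;> rcases t with b | b
    · rw [hbs_inl, hbs_inl]
      have hab : a ≠ b := fun h => hst (by rw [h])
      exact LinearMap.BilinForm.iIsOrtho_def.1 hbp a b hab
    · rw [hbs_inl, hbs_inr]
      exact hperp _ (bp a).2 _ (bm b).2
    · rw [hbs_inr, hbs_inl, QuadraticMap.polar_comm]
      exact hperp _ (bp b).2 _ (bm a).2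
    · rw [hbs_inr, hbs_inr]
      have hab : a ≠ b := fun h => hst (by rw [h])
      exact LinearMap.BilinForm.iIsOrtho_def.1 hbm a b hab
  have hQne : ∀ s, Q (bs s) ≠ 0 := by
    intro s hs0
    have hself : QuadraticMap.polar (⇑Q) (bs s) (bs s) = 0 := by
      rw [QuadraticMap.polar_self, hs0, smul_zero]
    have hzero : B (bs s) = 0 := by
      apply bs.ext
      intro t
      rw [LinearMap.zero_apply, hBapp]
      by_cases hst : s = t
      · rw [← hst]
        exact hself
      · exact hortho s t hst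
    have h0 : bs s = 0 := by
      apply hQ.1
      intro y
      have h3 : B (bs s) y = 0 := by rw [hzero, LinearMap.zero_apply]
      exact h3
    exact bs.ne_zero s h0
  have heig : ∀ s, (x : Matrix ι ι F) *ᵥ bs s
      = (Sum.elim (fun _ => (1 : F)) (fun _ => (-1 : F)) s) • bs s := by
    intro s
    rcases s with a | a
    · rw [hbs_inl, Sum.elim_inl, one_smul]
      exact (hWp _).1 (bp a).2
    · rw [hbs_inr, Sum.elim_inr, neg_one_smul]
      exact (hWm _).1 (bm a).2
  refine ⟨fun i => bs (σ.symm i),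
    fun i => Sum.elim (fun _ => (1 : F)) (fun _ => (-1 : F)) (σ.symm i), ?_, ?_, ?_, ?_, ?_⟩
  · exact bs.linearIndependent.comp σ.symm σ.symm.injective
  · intro i j hij
    exact hortho _ _ (fun h => hij (σ.symm.injective h))
  · intro i
    exact hQne _
  · intro i
    rcases h : σ.symm i with a | a
    · left
      simp only [h, Sum.elim_inl]
    · right
      simp only [h, Sum.elim_inr]
  · intro i
    exact heig _

end Cfsg.Agent.Lib.helper59.Sfk
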