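import Mathlib
import Cfsg.Agent.Lib.helper24.SfuDefs
import Cfsg.Agent.Lib.helper82.SfuNORMFIB

/-!
# S5982 piece CNTSTD: the number of norm one vectors of the standard unitary form

`#{v ∈ F^m : Σ v_k^(q₀+1) = 1} = q₀^(m-1) (q₀^m - (-1)^m)` for `|F| = q₀²`.
-/

set_option autoImplicit false

namespace Cfsg.Agent.Lib.helper24

open Finset

/-- The weighted count `#{v : Σ v_k^(q₀+1) = c}` as an integer sum. -/
noncomputable def h57_cnt (F : Type*) [Field F] [Fintype F] [DecidableEq F] (q₀ m : ℕ) (c : F) :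
    ℤ :=
  ∑ v : Fin m → F, if ∑ k, v k ^ (q₀ + 1) = c then 1 else 0

theorem h57_cnt_succ {F : Type*} [Field F] [Fintype F] [DecidableEq F] (q₀ m : ℕ) (c : F) :
    h57_cnt F q₀ (m + 1) c = ∑ x : F, h57_cnt F q₀ m (c - x ^ (q₀ + 1)) := by
  unfold h57_cnt
  rw [← Fintype.sum_equiv (Fin.consEquiv (fun _ : Fin (m + 1) => F))
    (fun p : F × (Fin m → F) =>
      if ∑ k, (Fin.cons p.1 p.2 : Fin (m + 1) → F) k ^ (q₀ + 1) = c then (1 : ℤ) else 0)
    (fun v : Fin (m + 1) → F => if ∑ k, v k ^ (q₀ + 1) = c then (1 : ℤ) else 0)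
    (fun p => rfl)]
  rw [Fintype.sum_prod_type]
  refine Finset.sum_congr rfl (fun x _ => ?_)
  refine Finset.sum_congr rfl (fun w _ => ?_)
  rw [Fin.sum_univ_succ]
  simp only [Fin.cons_zero, Fin.cons_succ]
  by_cases h : ∑ k, w k ^ (q₀ + 1) = c - x ^ (q₀ + 1)
  · rw [if_pos h, if_pos (by rw [h]; ring)]
  · rw [if_neg h, if_neg (fun h' => h (by rw [← h']; ring))]

theorem h57_sum_ite {ι : Type*} [Fintype ι] (p : ι → Prop) [DecidablePred p] (a b : ℤ) :
    ∑ x : ι, (if p x then a else b) =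
      (Fintype.card ι : ℤ) * b + ((Finset.univ.filter p).card : ℤ) * (a - b) := by
  have h1 : ∀ x : ι, (if p x then a else b) = b + (a - b) * (if p x then 1 else 0) := by
    intro x
    split_ifs <;> ring
  rw [Finset.sum_congr rfl (fun x _ => h1 x), Finset.sum_add_distrib, ← Finset.mul_sum,
    Finset.sum_const, Finset.card_univ, Finset.sum_boole]
  simp only [nsmul_eq_mul]
  ring

/-- Core of CNTSTD: NORMFIB enters as the hypothesis `hfib`. -/
theorem h57_sfu_count_std_core {F : Type*} [Field F] [Fintype F] [DecidableEq F] (q₀ : ℕ)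
    (hcard : Fintype.card F = q₀ ^ 2)
    (hfib : ∀ c : F, c ≠ 0 → c ^ q₀ = c →
      (Finset.univ.filter (fun x : F => x ^ (q₀ + 1) = c)).card = q₀ + 1) (m : ℕ) :
    ((Finset.univ.filter (fun v : Fin m → F => ∑ k, v k ^ (q₀ + 1) = 1)).card : ℤ) =
      (q₀ : ℤ) ^ (m - 1) * ((q₀ : ℤ) ^ m - (-1) ^ m) := by
  have hq0 : 0 < q₀ := by
    rcases Nat.eq_zero_or_pos q₀ with h | h
    · have := Fintype.card_pos (α := F)
      rw [hcard, h] at this
      simp at this
    · exact h
  -- Frobenius facts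
  have hfrob : ∀ x : F, x ^ (q₀ ^ 2) = x := by
    intro x
    rw [← hcard]; exact FiniteField.pow_card x
  have hN : ∀ x : F, (x ^ (q₀ + 1)) ^ q₀ = x ^ (q₀ + 1) := by
    intro x
    rw [← pow_mul]
    have : (q₀ + 1) * q₀ = q₀ ^ 2 + q₀ := by ring
    rw [this, pow_add, hfrob, pow_succ, mul_comm]
  -- `q₀` is a power of the characteristic
  obtain ⟨p, hp⟩ := CharP.exists F
  have hpp : p.Prime := by
    rcases CharP.char_is_prime_or_zero F p with h | h
    · exact h
    · exfalso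
      subst h
      have : CharZero F := CharP.charP_to_charZero F
      exact not_finite F
  have : Fact p.Prime := ⟨hpp⟩
  obtain ⟨⟨k, hk0⟩, -, hk⟩ := FiniteField.card F p
  have hk' : q₀ ^ 2 = p ^ k := by rw [← hcard]; exact hk
  obtain ⟨j, -, hj⟩ := (Nat.dvd_prime_pow hpp).1 (hk' ▸ Dvd.intro_left q₀ (by ring) : q₀ ∣ p ^ k)
  have hsub : ∀ a b : F, (a - b) ^ q₀ = a ^ q₀ - b ^ q₀ := by
    intro a b
    rw [hj]; exact sub_pow_char_pow a b j
  have hneg : ∀ a : F, a ^ q₀ = a → (-a) ^ q₀ = -a := by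
    intro a ha
    have := hsub 0 a
    rw [zero_sub, zero_pow (by omega), zero_sub, ha] at this
    exact this
  have hNz : ∀ x : F, x ^ (q₀ + 1) = 0 ↔ x = 0 := by
    intro x
    constructor
    · intro h; exact pow_eq_zero_iff (by omega) |>.mp h
    · intro h; rw [h, zero_pow (by omega)]
  -- the induction
  have key : ∀ m : ℕ, ∀ c : F, c ^ q₀ = c →
      (q₀ : ℤ) * h57_cnt F q₀ m c =
        if c = 0 then (q₀ : ℤ) ^ m * ((q₀ : ℤ) ^ m + (-1) ^ m * ((q₀ : ℤ) - 1))
        else (q₀ : ℤ) ^ m * ((q₀ : ℤ) ^ m - (-1) ^ m) := by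
    intro m
    induction m with
    | zero =>
      intro c _
      unfold h57_cnt
      by_cases hc : c = 0
      · subst hc
        simp
      · rw [if_neg hc]
        simp [Ne.symm hc]
    | succ m ih =>
      intro c hc
      rw [h57_cnt_succ, Finset.mul_sum]
      by_cases hc0 : c = 0
      · subst hc0
        rw [if_pos rfl]
        have hterm : ∀ x : F, (q₀ : ℤ) * h57_cnt F q₀ m (0 - x ^ (q₀ + 1)) =
            if x = 0 then (q₀ : ℤ) ^ m * ((q₀ : ℤ) ^ m + (-1) ^ m * ((q₀ : ℤ) - 1))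
            else (q₀ : ℤ) ^ m * ((q₀ : ℤ) ^ m - (-1) ^ m) := by
          intro x
          rw [zero_sub, ih _ (hneg _ (hN x))]
          by_cases hx : x = 0
          · rw [if_pos hx, if_pos (by rw [neg_eq_zero]; exact (hNz x).2 hx)]
          · rw [if_neg hx, if_neg (by rw [neg_eq_zero]; exact fun h => hx ((hNz x).1 h))]
        rw [Finset.sum_congr rfl (fun x _ => hterm x), h57_sum_ite]
        have h1 : ((Finset.univ.filter (fun x : F => x = 0)).card : ℤ) = 1 := by
          rw [Finset.filter_eq' Finset.univ (0 : F), if_pos (Finset.mem_univ _),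
            Finset.card_singleton, Nat.cast_one]
        rw [h1, hcard]
        push_cast
        ring
      · rw [if_neg hc0]
        have hterm : ∀ x : F, (q₀ : ℤ) * h57_cnt F q₀ m (c - x ^ (q₀ + 1)) =
            if x ^ (q₀ + 1) = c then
              (q₀ : ℤ) ^ m * ((q₀ : ℤ) ^ m + (-1) ^ m * ((q₀ : ℤ) - 1))
            else (q₀ : ℤ) ^ m * ((q₀ : ℤ) ^ m - (-1) ^ m) := by
          intro x
          have hcx : (c - x ^ (q₀ + 1)) ^ q₀ = c - x ^ (q₀ + 1) := by
            rw [hsub, hc, hN]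
          rw [ih _ hcx]
          by_cases hx : x ^ (q₀ + 1) = c
          · rw [if_pos hx, if_pos (by rw [hx, sub_self])]
          · rw [if_neg hx, if_neg (fun h => hx (sub_eq_zero.mp h).symm)]
        rw [Finset.sum_congr rfl (fun x _ => hterm x), h57_sum_ite, hfib c hc0 hc, hcard]
        push_cast
        ring
  -- conclusion
  have hone : ((1 : F)) ^ q₀ = 1 := one_pow _
  have h1 := key m 1 hone
  rw [if_neg one_ne_zero] at h1
  have hcnt : ((Finset.univ.filter (fun v : Fin m → F => ∑ k, v k ^ (q₀ + 1) = 1)).card : ℤ) =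
      h57_cnt F q₀ m 1 := by
    unfold h57_cnt
    rw [Finset.natCast_card_filter]
  rw [hcnt]
  have hq0' : (q₀ : ℤ) ≠ 0 := by exact_mod_cast hq0.ne'
  rcases Nat.eq_zero_or_pos m with hm | hm
  · subst hm
    simp only [pow_zero, sub_self, mul_zero] at h1 ⊢
    rcases mul_eq_zero.mp h1 with h | h
    · exact absurd h hq0'
    · exact h
  · obtain ⟨k, rfl⟩ : ∃ k, m = k + 1 := ⟨m - 1, by omega⟩
    rw [Nat.add_sub_cancel]
    apply mul_left_cancel₀ hq0'
    rw [h1]
    ring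

/-- CNTSTD -/
theorem sfu_count_std {F : Type*} [Field F] [Fintype F] [DecidableEq F] (q₀ : ℕ)
    (hcard : Fintype.card F = q₀ ^ 2) (m : ℕ) :
    ((Finset.univ.filter (fun v : Fin m → F => ∑ k, v k ^ (q₀ + 1) = 1)).card : ℤ) =
      (q₀ : ℤ) ^ (m - 1) * ((q₀ : ℤ) ^ m - (-1) ^ m) :=
  h57_sfu_count_std_core q₀ hcard (fun c hc hc₀ => h82_sfu_norm_fiber q₀ hcard c hc hc₀) m

end Cfsg.Agent.Lib.helper24
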