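import Mathlib

set_option autoImplicit false

namespace Cfsg.Agent.Lib.helper57.T97

/-- PIECE AR of the S3797 split: `2 ^ r - 1` does not divide `φ(n)` for a divisor `n` of
`2 ^ r + 1` when `2 ≤ r`. -/
theorem arith_final (r n : ℕ) (hr : 2 ≤ r) (hn : n ∣ 2 ^ r + 1)
    (h : (2 ^ r - 1) ∣ Nat.totient n) : False := by
  have hnpos : 0 < n := Nat.pos_of_dvd_of_pos hn (by positivity)
  have h4 : 4 ≤ 2 ^ r := by
    calc 4 = 2 ^ 2 := by norm_num
      _ ≤ 2 ^ r := Nat.pow_le_pow_right (by norm_num) hr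
  have hnle : n ≤ 2 ^ r + 1 := Nat.le_of_dvd (by positivity) hn
  have hφpos : 0 < Nat.totient n := Nat.totient_pos.mpr hnpos
  have hle : 2 ^ r - 1 ≤ Nat.totient n := Nat.le_of_dvd hφpos h
  have hφle : Nat.totient n ≤ n := Nat.totient_le n
  have hn3 : 2 < n := by omega
  have hlt : Nat.totient n < n := Nat.totient_lt n (by omega)
  have heven : Even (Nat.totient n) := Nat.totient_even hn3
  obtain ⟨k, hk⟩ := h
  have hk1 : k = 1 := by
    rcases k with _ | _ | k
    · simp at hk; omega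
    · rfl
    · exfalso
      have h2 : 2 * (2 ^ r - 1) ≤ Nat.totient n := by
        rw [hk]
        calc 2 * (2 ^ r - 1) = (2 ^ r - 1) * 2 := by ring
          _ ≤ (2 ^ r - 1) * (k + 1 + 1) := Nat.mul_le_mul_left _ (by omega)
      omega
  subst hk1
  rw [mul_one] at hk
  rw [hk] at heven
  have hodd : Odd (2 ^ r - 1) := by
    have : Even (2 ^ r) := (Nat.even_pow.mpr ⟨even_two, by omega⟩)
    obtain ⟨m, hm⟩ := this
    exact ⟨m - 1, by omega⟩
  exact (Nat.not_even_iff_odd.mpr hodd) heven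

end Cfsg.Agent.Lib.helper57.T97
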