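import Mathlib

set_option autoImplicit false

namespace Cfsg.Agent.Lib.helper57.T97

/-- PIECE AUT of the S3797 split: a cyclic self-centralizing normal subgroup has index
dividing `φ(|F|)`. -/
theorem index_dvd_totient {H : Type*} [Group H] [Finite H] (F : Subgroup H) [F.Normal]
    (hcyc : IsCyclic F) (hC : Subgroup.centralizer (F : Set H) ≤ F) :
    F.index ∣ Nat.totient (Nat.card F) := by
  let φ : H →* MulAut F := MulAut.conjNormal
  have hcomm : ∀ a b : F, a * b = b * a := by
    intro a b
    obtain ⟨g, hg⟩ := hcyc.exists_generator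
    obtain ⟨i, rfl⟩ := Subgroup.mem_zpowers_iff.mp (hg a)
    obtain ⟨j, rfl⟩ := Subgroup.mem_zpowers_iff.mp (hg b)
    exact (Commute.zpow_zpow_self g i j).eq
  have hker : φ.ker = F := by
    ext h
    rw [MonoidHom.mem_ker]
    constructor
    · intro hh
      apply hC
      rw [Subgroup.mem_centralizer_iff]
      intro x hx
      have h1 : ((φ h) ⟨x, hx⟩ : H) = x := by rw [hh]; rfl
      have h2 : ((φ h) ⟨x, hx⟩ : H) = h * x * h⁻¹ := MulAut.conjNormal_apply h ⟨x, hx⟩
      rw [h2] at h1
      calc x * h = (h * x * h⁻¹) * h := by rw [h1]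
        _ = h * x := by group
    · intro hh
      ext x
      have h2 : ((φ h) x : H) = h * x * h⁻¹ := MulAut.conjNormal_apply h x
      rw [h2]
      have h3 := congrArg (Subtype.val) (hcomm ⟨h, hh⟩ x)
      simp only [Subgroup.coe_mul] at h3
      rw [h3]
      simp
  have hidx : F.index = Nat.card φ.range := by
    have h1 : φ.ker.index = Nat.card φ.range := Subgroup.index_ker φ
    rw [← h1]
    exact congrArg Subgroup.index hker.symm
  rw [hidx]
  have hdvd : Nat.card φ.range ∣ Nat.card (MulAut F) := Subgroup.card_subgroup_dvd_card _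
  rwa [IsCyclic.card_mulAut] at hdvd

end Cfsg.Agent.Lib.helper57.T97
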