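import Mathlib
import Cfsg.Agent.Lib.helper50.T97GS
import Cfsg.Agent.Lib.helper32.T97CHAR
import Cfsg.Agent.Lib.helper57.T97FIX
import Cfsg.Agent.Lib.helper57.T97SQ1

set_option autoImplicit false

namespace Cfsg.Agent.Lib.helper57.T97

theorem exp_two_comm {W : Type*} [Group W] (h2 : ∀ v : W, v * v = 1) (a b : W) :
    a * b = b * a := by
  have hinv : ∀ a : W, a⁻¹ = a := fun a => inv_eq_of_mul_eq_one_left (h2 a)
  calc a * b = (a * b)⁻¹ := (hinv _).symm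
    _ = b⁻¹ * a⁻¹ := mul_inv_rev a b
    _ = b * a := by rw [hinv, hinv]

/-- For a group of exponent `2`: a character with value `-1` at a prescribed `v ≠ 1`. -/
theorem exists_char_neg {W : Type*} [Group W] [Finite W] (h2 : ∀ v : W, v * v = 1) (v : W)
    (hv : v ≠ 1) : ∃ χ : W →* ℤˣ, χ v = -1 := by
  let instC : CommGroup W :=
    { (inferInstance : Group W) with mul_comm := exp_two_comm h2 }
  obtain ⟨χ, hχ⟩ := @Cfsg.Agent.Lib.helper32.T97.char_exists W instC _ h2 v hv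
  exact ⟨χ, hχ⟩

/-- For a group of exponent `2`: the number of characters. -/
theorem card_char {W : Type*} [Group W] [Finite W] (h2 : ∀ v : W, v * v = 1) :
    Nat.card (W →* ℤˣ) = Nat.card W := by
  let instC : CommGroup W :=
    { (inferInstance : Group W) with mul_comm := exp_two_comm h2 }
  exact @Cfsg.Agent.Lib.helper32.T97.char_card W instC _ h2

/-- Second orthogonality for a group of exponent `2`: the values at `v ≠ 1` of all the
characters sum to `0`. -/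
theorem dual_sum_zero {W : Type*} [Group W] [Finite W] (h2 : ∀ v : W, v * v = 1)
    [Fintype (W →* ℤˣ)] (v : W) (hv : v ≠ 1) :
    ∑ χ : W →* ℤˣ, ((χ v : ℤˣ) : ℤ) = 0 := by
  obtain ⟨χ₀, hχ₀⟩ := exists_char_neg h2 v hv
  have h1 : ∑ χ : W →* ℤˣ, ((χ v : ℤˣ) : ℤ) = ∑ χ : W →* ℤˣ, (((χ₀ * χ) v : ℤˣ) : ℤ) :=
    (Fintype.sum_equiv (Equiv.mulLeft χ₀) _ _ (fun χ => rfl)).symm
  have h3 : ∑ χ : W →* ℤˣ, (((χ₀ * χ) v : ℤˣ) : ℤ) = - ∑ χ : W →* ℤˣ, ((χ v : ℤˣ) : ℤ) := by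
    rw [← Finset.sum_neg_distrib]
    refine Finset.sum_congr rfl fun χ _ => ?_
    rw [MonoidHom.mul_apply, hχ₀]
    simp
  linarith

/-- PIECE SQ2 of the S3797 split. -/
theorem sq_fixed {R : Type*} [Group R] [Finite R] (hR : IsPGroup 2 R) (V : Subgroup R)
    (hVc : V ≤ Subgroup.center R) (hsq : ∀ a : R, a * a ∈ V) (hV : ∀ a : R, a * a = 1 → a ∈ V)
    (hV2 : ∀ v ∈ V, v * v = 1) (hR3 : Nat.card R = Nat.card V ^ 3)
    (hrad : ∀ χ : V →* ℤˣ, χ ≠ 1 → ∀ c : R,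
        (∀ a : R, ∀ h : c⁻¹ * a⁻¹ * c * a ∈ V, χ ⟨c⁻¹ * a⁻¹ * c * a, h⟩ = 1) → c ∈ V)
    (σ : MulAut R) (p : ℕ) (hp : p.Prime) (hp2 : p ≠ 2) (hσ : σ ^ p = 1)
    (hσV : ∀ v ∈ V, σ v = v) :
    σ = 1 ∨ ∀ a : R, σ a = a → a ∈ V := by
  classical
  by_cases hUV : ∀ a : R, σ a = a → a ∈ V
  · exact Or.inr hUV
  left
  push Not at hUV
  obtain ⟨a₀, ha₀σ, ha₀V⟩ := hUV
  have hfinR : Fintype R := Fintype.ofFinite R
  have hfinV : Fintype V := Fintype.ofFinite V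
  have hcomm : ∀ v ∈ V, ∀ a : R, v * a = a * v := fun v hv a =>
    (Subgroup.mem_center_iff.mp (hVc hv) a).symm
  have hκV : ∀ c a : R, c⁻¹ * a⁻¹ * c * a ∈ V := by
    intro c a
    have h1 := hcomm (a⁻¹ * a⁻¹) (hsq a⁻¹) c
    have h2 : c⁻¹ * a⁻¹ * c * a = (c⁻¹ * c⁻¹) * (a⁻¹ * a⁻¹) * ((c * a) * (c * a)) := by
      calc c⁻¹ * a⁻¹ * c * a = c⁻¹ * c⁻¹ * (c * (a⁻¹ * a⁻¹)) * a * c * a := by group
        _ = c⁻¹ * c⁻¹ * ((a⁻¹ * a⁻¹) * c) * a * c * a := by rw [← h1]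
        _ = (c⁻¹ * c⁻¹) * (a⁻¹ * a⁻¹) * ((c * a) * (c * a)) := by group
    rw [h2]
    exact V.mul_mem (V.mul_mem (hsq c⁻¹) (hsq a⁻¹)) (hsq (c * a))
  have hκmul2 : ∀ c a₁ a₂ : R, c⁻¹ * (a₁ * a₂)⁻¹ * c * (a₁ * a₂) =
      (c⁻¹ * a₁⁻¹ * c * a₁) * (c⁻¹ * a₂⁻¹ * c * a₂) := by
    intro c a₁ a₂
    calc c⁻¹ * (a₁ * a₂)⁻¹ * c * (a₁ * a₂)
        = c⁻¹ * a₂⁻¹ * c * ((c⁻¹ * a₁⁻¹ * c * a₁) * a₂) := by group
      _ = c⁻¹ * a₂⁻¹ * c * (a₂ * (c⁻¹ * a₁⁻¹ * c * a₁)) := by rw [hcomm _ (hκV c a₁) a₂]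
      _ = (c⁻¹ * a₂⁻¹ * c * a₂) * (c⁻¹ * a₁⁻¹ * c * a₁) := by group
      _ = (c⁻¹ * a₁⁻¹ * c * a₁) * (c⁻¹ * a₂⁻¹ * c * a₂) := (hcomm _ (hκV c a₁) _).symm
  -- the fixed subgroup
  let U : Subgroup R :=
    { carrier := {a | σ a = a}
      one_mem' := map_one σ
      mul_mem' := by
        intro a b ha hb
        have ha' : σ a = a := ha
        have hb' : σ b = b := hb
        show σ (a * b) = a * b
        rw [map_mul, ha', hb']
      inv_mem' := by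
        intro a ha
        have ha' : σ a = a := ha
        show σ a⁻¹ = a⁻¹
        rw [map_inv, ha'] }
  have hVU : V ≤ U := fun v hv => hσV v hv
  have hfinU : Fintype U := Fintype.ofFinite U
  obtain ⟨q, hqdef⟩ : ∃ q, q = Nat.card V := ⟨_, rfl⟩
  obtain ⟨r, hr⟩ := (IsPGroup.iff_card (p := 2) (G := V)).mp (hR.to_subgroup V)
  obtain ⟨u, hu⟩ := (IsPGroup.iff_card (p := 2) (G := U)).mp (hR.to_subgroup U)
  rw [← hqdef] at hr hR3
  have hr1 : 1 ≤ r := by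
    by_contra hcon
    have hr0 : r = 0 := by omega
    rw [hr0, pow_zero] at hr
    rw [hr, one_pow] at hR3
    have hsub : Subsingleton R := (Nat.card_eq_one_iff_unique.mp hR3).1
    exact ha₀V (by rw [Subsingleton.elim a₀ 1]; exact V.one_mem)
  have hq2 : 2 ≤ q := by
    rw [hr]
    calc 2 = 2 ^ 1 := by norm_num
      _ ≤ 2 ^ r := Nat.pow_le_pow_right (by norm_num) hr1
  have hV2' : ∀ v : V, v * v = 1 := fun v => Subtype.ext (hV2 v.1 v.2)
  have hfinX : Fintype (V →* ℤˣ) := Fintype.ofFinite _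
  have hcardX : Fintype.card (V →* ℤˣ) = q := by
    rw [← Nat.card_eq_fintype_card, card_char hV2', hqdef]
  have hcardVU : (Finset.univ.filter fun a : U => (a : R) ∈ V).card = q := by
    have h4 : Fintype.card (V.subgroupOf U) = q := by
      rw [← Nat.card_eq_fintype_card, hqdef]
      exact Nat.card_congr (Subgroup.subgroupOfEquivOfLe hVU).toEquiv
    rw [← h4, Fintype.card_subtype]
    rfl
  obtain ⟨T, hTdef⟩ : ∃ T : (V →* ℤˣ) → ℤ,
      T = fun χ => ∑ a : U, ((χ ⟨(a : R) * (a : R), hsq _⟩ : ℤˣ) : ℤ) := ⟨_, rfl⟩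
  have hT1 : T 1 = (Fintype.card U : ℤ) := by
    rw [hTdef]
    simp
  have hTsum : ∑ χ : V →* ℤˣ, T χ = (q : ℤ) * (q : ℤ) := by
    rw [hTdef]
    show ∑ χ : V →* ℤˣ, ∑ a : U, ((χ ⟨(a : R) * (a : R), hsq _⟩ : ℤˣ) : ℤ) = _
    rw [Finset.sum_comm]
    have h1 : ∀ a : U, ∑ χ : V →* ℤˣ, ((χ ⟨(a : R) * (a : R), hsq _⟩ : ℤˣ) : ℤ) =
        if (a : R) ∈ V then (q : ℤ) else 0 := by
      intro a
      by_cases ha : (a : R) ∈ V
      · rw [if_pos ha]
        have h2 : (⟨(a : R) * (a : R), hsq _⟩ : V) = 1 := Subtype.ext (hV2 _ ha)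
        rw [h2]
        simp [hcardX]
      · rw [if_neg ha]
        apply dual_sum_zero hV2'
        intro h
        exact ha (hV _ (congrArg Subtype.val h))
    rw [Finset.sum_congr rfl (fun a _ => h1 a), Finset.sum_ite, Finset.sum_const_zero, add_zero,
      Finset.sum_const, nsmul_eq_mul, hcardVU]
  -- the Gauss sum identity on `U`
  have hgauss : ∀ χ : V →* ℤˣ, χ ≠ 1 → (T χ) ^ 2 = (Fintype.card U : ℤ) * (q : ℤ) := by
    intro χ hχ
    obtain ⟨f, hfdef⟩ : ∃ f : R → ℤ, f = fun x => if h : x ∈ V then ((χ ⟨x, h⟩ : ℤˣ) : ℤ) else 0 :=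
      ⟨_, rfl⟩
    have hf_mem : ∀ (x : R) (h : x ∈ V), f x = ((χ ⟨x, h⟩ : ℤˣ) : ℤ) := by
      intro x h
      rw [hfdef]
      exact dif_pos h
    have hf1 : f 1 = 1 := by
      rw [hf_mem 1 V.one_mem]
      have : (⟨1, V.one_mem⟩ : V) = 1 := rfl
      rw [this, map_one]
      rfl
    have hfm : ∀ v ∈ V, ∀ w ∈ V, f (v * w) = f v * f w := by
      intro v hv w hw
      rw [hf_mem _ (V.mul_mem hv hw), hf_mem v hv, hf_mem w hw]
      have : (⟨v * w, V.mul_mem hv hw⟩ : V) = ⟨v, hv⟩ * ⟨w, hw⟩ := rfl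
      rw [this, map_mul]
      rfl
    have hG := Cfsg.Agent.Lib.helper50.T97.gauss_sq V hVc hsq hV2 f hf1 hfm U
    have hS1 : ∑ a : U, f ((a : R) * (a : R)) = T χ := by
      rw [hTdef]
      exact Finset.sum_congr rfl (fun a _ => hf_mem _ (hsq _))
    have hcond : ∀ c : U, (∀ a : U, f ((c : R)⁻¹ * (a : R)⁻¹ * (c : R) * (a : R)) = 1) ↔
        (c : R) ∈ V := by
      intro c
      constructor
      · intro hall
        by_contra hcV
        have hex : ∃ a : R, χ ⟨(c : R)⁻¹ * a⁻¹ * (c : R) * a, hκV _ _⟩ ≠ 1 := by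
          by_contra hno
          push Not at hno
          exact hcV (hrad χ hχ (c : R) (fun a h => hno a))
        obtain ⟨a₁, ha₁⟩ := hex
        let g : R →* ℤˣ := MonoidHom.mk'
          (fun a => χ ⟨(c : R)⁻¹ * a⁻¹ * (c : R) * a, hκV _ _⟩) (by
            intro b₁ b₂
            have h2 : (⟨(c : R)⁻¹ * (b₁ * b₂)⁻¹ * (c : R) * (b₁ * b₂), hκV _ _⟩ : V) =
                ⟨(c : R)⁻¹ * b₁⁻¹ * (c : R) * b₁, hκV _ _⟩ *
                  ⟨(c : R)⁻¹ * b₂⁻¹ * (c : R) * b₂, hκV _ _⟩ :=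
              Subtype.ext (hκmul2 _ b₁ b₂)
            show χ ⟨(c : R)⁻¹ * (b₁ * b₂)⁻¹ * (c : R) * (b₁ * b₂), hκV _ _⟩ = _
            rw [h2, map_mul])
        have hg : ∀ a, g (σ a) = g a := by
          intro a
          show χ ⟨(c : R)⁻¹ * (σ a)⁻¹ * (c : R) * (σ a), hκV _ _⟩ =
            χ ⟨(c : R)⁻¹ * a⁻¹ * (c : R) * a, hκV _ _⟩
          congr 1
          apply Subtype.ext
          show (c : R)⁻¹ * (σ a)⁻¹ * (c : R) * (σ a) = (c : R)⁻¹ * a⁻¹ * (c : R) * a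
          have hc : σ (c : R) = c := c.2
          have h3 := hσV _ (hκV (c : R) a)
          rw [map_mul, map_mul, map_mul, map_inv, map_inv, hc] at h3
          exact h3
        have hgne : ∃ a, g a = -1 := ⟨a₁, (Int.units_eq_one_or _).resolve_left ha₁⟩
        obtain ⟨a₂, ha₂σ, ha₂⟩ := exists_fixed_neg hR σ p hp hp2 hσ g hg hgne
        have h4 := hall ⟨a₂, ha₂σ⟩
        rw [hf_mem _ (hκV _ _)] at h4
        have h5 : g a₂ = 1 := Units.ext h4
        rw [ha₂] at h5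
        exact absurd h5 (by decide)
      · intro hcV a
        have h1 := hcomm (c : R) hcV (a : R)⁻¹
        have h2 : (c : R)⁻¹ * (a : R)⁻¹ * (c : R) * (a : R) = 1 := by
          calc (c : R)⁻¹ * (a : R)⁻¹ * (c : R) * (a : R)
              = (c : R)⁻¹ * ((a : R)⁻¹ * (c : R)) * (a : R) := by group
            _ = (c : R)⁻¹ * ((c : R) * (a : R)⁻¹) * (a : R) := by rw [h1]
            _ = 1 := by group
        rw [h2]
        exact hf1
    have hS2 : (∑ c : U, (if ∀ a : U, f ((c : R)⁻¹ * (a : R)⁻¹ * (c : R) * (a : R)) = 1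
        then f ((c : R) * (c : R)) else 0)) = (q : ℤ) := by
      have h1 : ∀ c : U, (if ∀ a : U, f ((c : R)⁻¹ * (a : R)⁻¹ * (c : R) * (a : R)) = 1
          then f ((c : R) * (c : R)) else 0) = if (c : R) ∈ V then (1 : ℤ) else 0 := by
        intro c
        by_cases hc : (c : R) ∈ V
        · rw [if_pos ((hcond c).mpr hc), if_pos hc, hV2 _ hc, hf1]
        · rw [if_neg (fun h => hc ((hcond c).mp h)), if_neg hc]
      rw [Finset.sum_congr rfl (fun c _ => h1 c), Finset.sum_boole, hcardVU]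
    rw [hS1, hS2] at hG
    exact hG
  -- arithmetic
  obtain ⟨χ₀, hχ₀⟩ := exists_char_ne_one (V := V) (hR.to_subgroup V) (by rw [← hqdef]; exact hq2)
  have hU : Fintype.card U = 2 ^ u := by
    rw [← Nat.card_eq_fintype_card]
    exact hu
  have hT0 := hgauss χ₀ hχ₀
  rw [hU, hr] at hT0
  push_cast at hT0
  obtain ⟨m, hm⟩ : ∃ m, (T χ₀).natAbs = 2 ^ m := by
    have hdvd : (T χ₀).natAbs ∣ 2 ^ (u + r) := by
      have h3 : (T χ₀) ∣ ((2 ^ (u + r) : ℕ) : ℤ) := by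
        refine ⟨T χ₀, ?_⟩
        push_cast
        rw [pow_add, ← hT0]
        ring
      exact Int.natAbs_dvd_natAbs.mpr h3 |>.trans (by simp)
    obtain ⟨m, -, hm⟩ := (Nat.dvd_prime_pow Nat.prime_two).mp hdvd
    exact ⟨m, hm⟩
  have h2m : 2 * m = u + r := by
    have h4 : (T χ₀) ^ 2 = (((T χ₀).natAbs : ℕ) : ℤ) ^ 2 := by
      rw [Int.natAbs_sq]
    rw [hm] at h4
    rw [h4] at hT0
    have h5 : (2 : ℤ) ^ (2 * m) = 2 ^ (u + r) := by
      rw [pow_add, ← hT0]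
      push_cast
      ring
    have h6 : (2 : ℕ) ^ (2 * m) = 2 ^ (u + r) := by exact_mod_cast h5
    exact Nat.pow_right_injective (le_refl 2) h6
  have hTval : ∀ χ : V →* ℤˣ, χ ≠ 1 → T χ = 2 ^ m ∨ T χ = -(2 ^ m) := by
    intro χ hχ
    have h1 := hgauss χ hχ
    rw [hU, hr] at h1
    push_cast at h1
    have h2 : (T χ) ^ 2 = ((2 : ℤ) ^ m) ^ 2 := by
      rw [h1, ← pow_mul, mul_comm m 2, h2m, pow_add]
    exact sq_eq_sq_iff_eq_or_eq_neg.mp h2
  have hdiv : ∀ χ : V →* ℤˣ, χ ≠ 1 → (2 : ℤ) ^ (m + 1) ∣ T χ - 2 ^ m := by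
    intro χ hχ
    rcases hTval χ hχ with h | h
    · rw [h, sub_self]
      exact dvd_zero _
    · rw [h]
      exact ⟨-1, by ring⟩
  have hsumdiv : (2 : ℤ) ^ (m + 1) ∣ ∑ χ ∈ Finset.univ.erase (1 : V →* ℤˣ), (T χ - 2 ^ m) :=
    Finset.dvd_sum (fun χ hχ => hdiv χ (Finset.ne_of_mem_erase hχ))
  have hq1 : 1 ≤ q := by omega
  have hsum2 : ∑ χ ∈ Finset.univ.erase (1 : V →* ℤˣ), (T χ - 2 ^ m) =
      (q : ℤ) * q - 2 ^ u - ((q : ℤ) - 1) * 2 ^ m := by
    rw [Finset.sum_sub_distrib, Finset.sum_const, Finset.card_erase_of_mem (Finset.mem_univ _),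
      Finset.card_univ, hcardX, nsmul_eq_mul, Nat.cast_sub hq1]
    have h1 := Finset.add_sum_erase Finset.univ T (Finset.mem_univ (1 : V →* ℤˣ))
    rw [hTsum, hT1, hU] at h1
    push_cast at h1 ⊢
    linarith
  rw [hsum2] at hsumdiv
  have hur : r ≤ u := by
    have h1 : Nat.card V ≤ Nat.card U := Subgroup.card_le_of_le hVU
    rw [← hqdef, hr, hu] at h1
    exact (Nat.pow_le_pow_iff_right (by norm_num : 1 < 2)).mp h1
  have hu3 : u ≤ 3 * r := by
    have h1 : Nat.card U ≤ Nat.card R := Subgroup.card_le_card_group U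
    rw [hu, hR3, hr, ← pow_mul] at h1
    have := (Nat.pow_le_pow_iff_right (by norm_num : 1 < 2)).mp h1
    omega
  rcases lt_trichotomy m r with hlt | heq | hgt
  · omega
  · -- `U = V`
    exfalso
    have hcard : Nat.card U ≤ Nat.card V := by
      rw [hu, ← hqdef, hr]
      exact Nat.pow_le_pow_right (by norm_num) (by omega)
    have hEq : V = U := Subgroup.eq_of_le_of_card_ge hVU hcard
    apply ha₀V
    rw [hEq]
    exact ha₀σ
  · rcases lt_or_eq_of_le (show m ≤ 2 * r by omega) with hlt2 | heq2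
    · -- impossible by parity
      exfalso
      have hqz : (q : ℤ) = 2 ^ r := by rw [hr]; push_cast; rfl
      have e1 : (2 : ℤ) ^ (m + 1) ∣ (q : ℤ) * q := by
        rw [hqz, ← pow_add]
        exact pow_dvd_pow 2 (by omega)
      have e2 : (2 : ℤ) ^ (m + 1) ∣ 2 ^ u := pow_dvd_pow 2 (by omega)
      have e3 : (2 : ℤ) ^ (m + 1) ∣ (q : ℤ) * 2 ^ m := by
        rw [hqz, ← pow_add]
        exact pow_dvd_pow 2 (by omega)
      have e4 : (2 : ℤ) ^ (m + 1) ∣ 2 ^ m := by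
        have h1 : (2 : ℤ) ^ m = ((q : ℤ) * q - 2 ^ u - ((q : ℤ) - 1) * 2 ^ m) - (q : ℤ) * q
            + 2 ^ u + (q : ℤ) * 2 ^ m := by ring
        rw [h1]
        exact dvd_add (dvd_add (dvd_sub hsumdiv e1) e2) e3
      have h2 := Int.le_of_dvd (by positivity) e4
      rw [pow_succ] at h2
      have h3 : (0 : ℤ) < 2 ^ m := by positivity
      linarith
    · -- `U = ⊤`
      have hcard : Nat.card U = Nat.card R := by
        rw [hu, hR3, hr, ← pow_mul]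
        congr 1
        omega
      have htop : U = ⊤ := Subgroup.eq_top_of_card_eq U hcard
      ext a
      have ha : a ∈ U := by rw [htop]; exact Subgroup.mem_top a
      exact ha

end Cfsg.Agent.Lib.helper57.T97
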