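import Cfsg.Agent.Lib.helper38.TN2

/-!
# S4415 (Thompson N-groups lemma), piece H: `cline_of_extraspecial`

If a `GN`-subgroup `N` is of "extraspecial type" (commutators in `{1, z}`, centre in `{1, z}`,
`z` acting as `-1`) and is not centralised by `b`, then the common fixed space of the four-group
is a line.
-/

set_option autoImplicit false

namespace Cfsg.Agent.Lib.helper57

open Cfsg.Agent.Lib.helper38.TN

/-- Some element of `N` does not commute with its `b`-conjugate. -/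
theorem tnh_exists_anticomm {G : Type*} [Group G] (N : Subgroup G) (b z : G)
    (hz1 : z ≠ 1) (hzz : z * z = 1) (hzc : ∀ x ∈ N, z * x = x * z) (hbz : b * z * b⁻¹ = z)
    (hb3 : b ^ 3 = 1) (hbN : ∀ n ∈ N, b * n * b⁻¹ ∈ N)
    (hcomm : ∀ x ∈ N, ∀ y ∈ N, x * y = y * x ∨ x * y = z * (y * x))
    (hcen : ∀ x ∈ N, (∀ y ∈ N, x * y = y * x) → x = 1 ∨ x = z)
    (hnc : ∃ x ∈ N, b * x * b⁻¹ ≠ x) :
    ∃ x ∈ N, x * (b * x * b⁻¹) = z * ((b * x * b⁻¹) * x) := by
  by_contra hcon
  push Not at hcon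
  obtain ⟨cb, hcb⟩ : ∃ cb : G → G, ∀ y, cb y = b * y * b⁻¹ := ⟨_, fun _ => rfl⟩
  have H0 : ∀ x ∈ N, x * cb x = cb x * x := by
    intro x hx
    rw [hcb]
    rcases hcomm x hx _ (hbN x hx) with h | h
    · exact h
    · exact absurd h (hcon x hx)
  have hcbN : ∀ n ∈ N, cb n ∈ N := fun n hn => by rw [hcb]; exact hbN n hn
  have hcbmul : ∀ x y, cb (x * y) = cb x * cb y := fun x y => by
    rw [hcb, hcb, hcb]
    group
  have hbbb : b * b * b = 1 := by rw [← hb3, pow_succ, pow_two]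
  have hbinv : b⁻¹ * b⁻¹ * b⁻¹ = 1 := by
    have h0 : (b * b * b)⁻¹ = b⁻¹ * b⁻¹ * b⁻¹ := by group
    rw [← h0, hbbb, inv_one]
  have hcb3 : ∀ x, cb (cb (cb x)) = x := fun x => by
    rw [hcb, hcb, hcb]
    have h1 : b * (b * (b * x * b⁻¹) * b⁻¹) * b⁻¹ = (b * b * b) * x * (b⁻¹ * b⁻¹ * b⁻¹) := by
      group
    rw [h1, hbbb, hbinv, one_mul, mul_one]
  have hcbz : cb z = z := by rw [hcb]; exact hbz
  have hcbinj : ∀ x y, cb x = cb y → x = y := by
    intro x y hxy
    rw [hcb, hcb] at hxy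
    have h1 : x = b⁻¹ * (b * x * b⁻¹) * b := by group
    rw [h1, hxy]
    group
  -- (*) the symmetric relation
  have key1 : ∀ x ∈ N, ∀ y ∈ N, y * cb x = cb x * y → x * cb y = cb y * x := by
    intro x hx y hy hyX
    rcases hcomm x hx (cb y) (hcbN y hy) with hxY | hxY
    · exact hxY
    · exfalso
      have hxx := H0 x hx
      have hyy := H0 y hy
      have hxy := H0 (x * y) (N.mul_mem hx hy)
      rw [hcbmul] at hxy
      have e1 : (x * y) * (cb x * cb y) = z * ((cb x * cb y) * (x * y)) := by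
        calc (x * y) * (cb x * cb y) = x * (y * cb x) * cb y := by group
          _ = x * (cb x * y) * cb y := by rw [hyX]
          _ = (x * cb x) * (y * cb y) := by group
          _ = (cb x * x) * (cb y * y) := by rw [hxx, hyy]
          _ = cb x * (x * cb y) * y := by group
          _ = cb x * (z * (cb y * x)) * y := by rw [hxY]
          _ = (cb x * z) * (cb y * x * y) := by group
          _ = (z * cb x) * (cb y * x * y) := by rw [hzc (cb x) (hcbN x hx)]
          _ = z * ((cb x * cb y) * (x * y)) := by group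
      rw [hxy] at e1
      apply hz1
      have h2 : 1 * ((cb x * cb y) * (x * y)) = z * ((cb x * cb y) * (x * y)) := by
        rw [one_mul]
        exact e1
      exact (mul_right_cancel h2).symm
  have key2 : ∀ x ∈ N, ∀ y ∈ N, y * cb x = cb x * y → y * cb (cb x) = cb (cb x) * y := by
    intro x hx y hy hyX
    have h1 := key1 x hx y hy hyX
    have h2 := congrArg (fun t => cb (cb t)) h1
    simp only [hcbmul, hcb3] at h2
    exact h2.symm
  have key3 : ∀ x ∈ N, ∀ y ∈ N, y * cb (cb x) = cb (cb x) * y → y * cb x = cb x * y := by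
    intro x hx y hy hyX
    have h2 := congrArg cb hyX
    simp only [hcbmul, hcb3] at h2
    exact key1 y hy x hx h2.symm
  have hcent : ∀ x ∈ N, ∀ y ∈ N, (cb x * (cb (cb x))⁻¹) * y = y * (cb x * (cb (cb x))⁻¹) := by
    intro x hx y hy
    have hXN := hcbN x hx
    have hX'N := hcbN _ hXN
    by_cases hc : y * cb x = cb x * y
    · have hc' := key2 x hx y hy hc
      have c1 : Commute y (cb x) := hc
      have c2 : Commute y (cb (cb x)) := hc'
      exact ((c1.mul_right c2.inv_right).eq).symm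
    · have ha : y * cb x = z * (cb x * y) := (hcomm y hy _ hXN).resolve_left hc
      have hc' : ¬ y * cb (cb x) = cb (cb x) * y := fun h => hc (key3 x hx y hy h)
      have ha' : y * cb (cb x) = z * (cb (cb x) * y) := (hcomm y hy _ hX'N).resolve_left hc'
      have k1 : y * cb x * y⁻¹ = z * cb x := by rw [ha]; group
      have k2 : y * cb (cb x) * y⁻¹ = z * cb (cb x) := by rw [ha']; group
      have k3 : y * (cb x * (cb (cb x))⁻¹) * y⁻¹ = cb x * (cb (cb x))⁻¹ := by
        calc y * (cb x * (cb (cb x))⁻¹) * y⁻¹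
            = (y * cb x * y⁻¹) * (y * cb (cb x) * y⁻¹)⁻¹ := by group
          _ = (z * cb x) * (z * cb (cb x))⁻¹ := by rw [k1, k2]
          _ = z * (cb x * (cb (cb x))⁻¹) * z⁻¹ := by group
          _ = (cb x * (cb (cb x))⁻¹) * z * z⁻¹ := by
              rw [hzc _ (N.mul_mem hXN (N.inv_mem hX'N))]
          _ = cb x * (cb (cb x))⁻¹ := by group
      calc (cb x * (cb (cb x))⁻¹) * y = (y * (cb x * (cb (cb x))⁻¹) * y⁻¹) * y := by rw [k3]
        _ = y * (cb x * (cb (cb x))⁻¹) := by group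
  have hall : ∀ x ∈ N, cb x = x := by
    intro x hx
    have hXN := hcbN x hx
    have hX'N := hcbN _ hXN
    rcases hcen _ (N.mul_mem hXN (N.inv_mem hX'N)) (hcent x hx) with h1 | h1
    · have h2 : cb x = cb (cb x) := by
        calc cb x = (cb x * (cb (cb x))⁻¹) * cb (cb x) := by group
          _ = cb (cb x) := by rw [h1, one_mul]
      exact (hcbinj _ _ h2).symm
    · have h2 : cb x = z * cb (cb x) := by
        calc cb x = (cb x * (cb (cb x))⁻¹) * cb (cb x) := by group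
          _ = z * cb (cb x) := by rw [h1]
      have h3 : cb (cb x) = z * x := by
        have h4 := congrArg cb h2
        rw [hcbmul, hcbz, hcb3] at h4
        exact h4
      rw [h2, h3, ← mul_assoc, hzz, one_mul]
  obtain ⟨x, hx, hxne⟩ := hnc
  exact hxne (by rw [← hcb]; exact hall x hx)

/-- For such an element, `g = x⁻¹ x^b` squares to `z`. -/
theorem tnh_sq_of_anticomm {G : Type*} [Group G] (N : Subgroup G) (b z : G)
    (hzz : z * z = 1) (hzc : ∀ x ∈ N, z * x = x * z) (hbz : b * z * b⁻¹ = z)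
    (hcomm : ∀ x ∈ N, ∀ y ∈ N, x * y = y * x ∨ x * y = z * (y * x))
    (hcen : ∀ x ∈ N, (∀ y ∈ N, x * y = y * x) → x = 1 ∨ x = z)
    (x : G) (hx : x ∈ N) (hxb : x * (b * x * b⁻¹) = z * ((b * x * b⁻¹) * x)) :
    (x⁻¹ * (b * x * b⁻¹)) * (x⁻¹ * (b * x * b⁻¹)) = z := by
  have hs : x * x = 1 ∨ x * x = z := by
    apply hcen (x * x) (N.mul_mem hx hx)
    intro y hy
    rcases hcomm x hx y hy with h | h
    · calc x * x * y = x * (x * y) := by group
        _ = x * (y * x) := by rw [h]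
        _ = (x * y) * x := by group
        _ = (y * x) * x := by rw [h]
        _ = y * (x * x) := by group
    · calc x * x * y = x * (x * y) := by group
        _ = x * (z * (y * x)) := by rw [h]
        _ = (x * z) * (y * x) := by group
        _ = (z * x) * (y * x) := by rw [hzc x hx]
        _ = z * (x * y) * x := by group
        _ = z * (z * (y * x)) * x := by rw [h]
        _ = (z * z) * (y * (x * x)) := by group
        _ = y * (x * x) := by rw [hzz, one_mul]
  have hXX : (b * x * b⁻¹) * (b * x * b⁻¹) = x * x := by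
    have h1 : (b * x * b⁻¹) * (b * x * b⁻¹) = b * (x * x) * b⁻¹ := by group
    rw [h1]
    rcases hs with h | h
    · rw [h]; group
    · rw [h]; exact hbz
  have k : x * (b * x * b⁻¹) * x⁻¹ = z * (b * x * b⁻¹) := by
    rw [hxb]
    group
  calc x⁻¹ * (b * x * b⁻¹) * (x⁻¹ * (b * x * b⁻¹))
      = x⁻¹ * (x⁻¹ * (x * (b * x * b⁻¹) * x⁻¹)) * (b * x * b⁻¹) := by group
    _ = x⁻¹ * (x⁻¹ * (z * (b * x * b⁻¹))) * (b * x * b⁻¹) := by rw [k]
    _ = (x * x)⁻¹ * (z * ((b * x * b⁻¹) * (b * x * b⁻¹))) := by group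
    _ = (x * x)⁻¹ * (z * (x * x)) := by rw [hXX]
    _ = (x * x)⁻¹ * ((x * x) * z) := by rw [hzc _ (N.mul_mem hx hx)]
    _ = z := by group

variable {G : Type*} [Group G] [Finite G] {V : Type*} [AddCommGroup V] [Module (ZMod 3) V]
  [Finite V]
variable {ρ : Representation (ZMod 3) G V} {R : Subgroup G} {b q₁ q₂ q₃ : G} {u₁ u₂ u₃ : V}

theorem cline_of_extraspecial (h : Ctx ρ R b q₁ q₂ q₃ u₁ u₂ u₃) (N : Subgroup G) (hN : GN R b N)
    (z : G) (hzN : z ∈ N) (hzV : ∀ v, ρ z v = -v)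
    (hcomm : ∀ x ∈ N, ∀ y ∈ N, x * y = y * x ∨ x * y = z * (y * x))
    (hcen : ∀ x ∈ N, (∀ y ∈ N, x * y = y * x) → x = 1 ∨ x = z)
    (hnc : ∃ x ∈ N, b * x * b⁻¹ ≠ x) : ∃ u₄ : V, CLine ρ q₁ q₂ u₄ := by
  classical
  have F := h.frame
  obtain ⟨hNR, -, hNb⟩ := hN
  have hzR : z ∈ R := hNR hzN
  have faith_eq : ∀ r ∈ R, ∀ r' ∈ R, (∀ v, ρ r v = ρ r' v) → r = r' := by
    intro r hr r' hr' hv
    have h1 : r⁻¹ * r' = 1 := h.faith _ (R.mul_mem (R.inv_mem hr) hr') (fun v => by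
      rw [rho_mul, ← hv v, rho_inv_self])
    calc r = r * (r⁻¹ * r') := by rw [h1, mul_one]
      _ = r' := by group
  have hzz : z * z = 1 := faith_eq _ (R.mul_mem hzR hzR) 1 R.one_mem (fun v => by
    rw [rho_mul, hzV, hzV, neg_neg, rho_one])
  have hzcR : ∀ r ∈ R, z * r = r * z := fun r hr =>
    faith_eq _ (R.mul_mem hzR hr) _ (R.mul_mem hr hzR) (fun v => by
      rw [rho_mul, rho_mul, hzV, hzV, map_neg])
  have hbz : b * z * b⁻¹ = z := faith_eq _ (h.bR z hzR) z hzR (fun v => by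
    rw [rho_mul, rho_mul, hzV, map_neg, rho_self_inv, hzV])
  have hz1 : z ≠ 1 := by
    intro hz
    have h1 := hzV u₁
    rw [hz, rho_one] at h1
    exact neg_ne_self F.u1 h1.symm
  obtain ⟨x, hx, hxb⟩ := tnh_exists_anticomm N b z hz1 hzz (fun x hx => hzcR x (hNR hx)) hbz
    F.b3 hNb hcomm hcen hnc
  have hgg := tnh_sq_of_anticomm N b z hzz (fun x hx => hzcR x (hNR hx)) hbz hcomm hcen x hx hxb
  obtain ⟨g, hg⟩ : ∃ g : G, g = x⁻¹ * (b * x * b⁻¹) := ⟨_, rfl⟩
  rw [← hg] at hgg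
  have hρgg : ∀ v, ρ g (ρ g v) = -v := fun v => by rw [← rho_mul, hgg, hzV]
  -- Claim A: `K ∩ x K = 0` for `K = Fix(b)`
  have hA : ∀ k : V, ρ b k = k → ρ b (ρ x k) = ρ x k → k = 0 := by
    intro k hk hxk
    have hbinv : ρ b⁻¹ k = k := by
      have h1 := rho_inv_self ρ b k
      rwa [hk] at h1
    have h1 : ρ (b * x * b⁻¹) k = ρ x k := by
      rw [rho_mul, rho_mul, hbinv, hxk]
    have h2 : ρ g k = k := by
      rw [hg, rho_mul, h1, rho_inv_self]
    have h3 := hρgg k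
    rw [h2, h2] at h3
    apply eq_zero_of_add_self
    nth_rewrite 1 [h3]
    exact neg_add_cancel k
  -- `|V| ≤ 81`
  have hnbJ : ∀ v : V, ∃ p : ZMod 3 × ZMod 3,
      ρ b v - v = p.1 • u₁ + p.2 • u₂ + (-p.1 - p.2) • u₃ := by
    intro v
    obtain ⟨a₁, a₂, a₃, c, hc, rfl⟩ := F.decomp v
    refine ⟨(a₃ - a₁, a₁ - a₂), ?_⟩
    rw [F.b_apply a₁ a₂ a₃ hc]
    module
  choose θ hθ using hnbJ
  have hinj : Function.Injective (fun v : V => (θ v, θ (ρ x⁻¹ v))) := by
    intro v v' hvv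
    simp only [Prod.mk.injEq] at hvv
    obtain ⟨e1, e2⟩ := hvv
    have hd1 : ρ b (v - v') = v - v' := by
      have h1 := hθ v
      have h2 := hθ v'
      rw [e1] at h1
      have h3 : ρ b v - v = ρ b v' - v' := by rw [h1, h2]
      rw [map_sub]
      linear_combination (norm := abel) h3
    have hd2 : ρ b (ρ x⁻¹ (v - v')) = ρ x⁻¹ (v - v') := by
      have h1 := hθ (ρ x⁻¹ v)
      have h2 := hθ (ρ x⁻¹ v')
      rw [e2] at h1
      have h3 : ρ b (ρ x⁻¹ v) - ρ x⁻¹ v = ρ b (ρ x⁻¹ v') - ρ x⁻¹ v' := by rw [h1, h2]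
      rw [map_sub, map_sub]
      linear_combination (norm := abel) h3
    have h4 := hA (ρ x⁻¹ (v - v')) hd2 (by rw [rho_self_inv]; exact hd1)
    have h0 : v - v' = 0 := rho_inj ρ x⁻¹ (by rw [h4, map_zero])
    exact sub_eq_zero.mp h0
  have hVle : Nat.card V ≤ 81 := by
    have h1 := Nat.card_le_card_of_injective _ hinj
    have h2 : Nat.card ((ZMod 3 × ZMod 3) × (ZMod 3 × ZMod 3)) = 81 := by
      simp
    omega
  have hCV : 27 * Nat.card ↥(fixQ ρ q₁ q₂) ≤ Nat.card V := by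
    have hinj2 : Function.Injective (fun p : (ZMod 3 × ZMod 3 × ZMod 3) × ↥(fixQ ρ q₁ q₂) =>
        p.1.1 • u₁ + p.1.2.1 • u₂ + p.1.2.2 • u₃ + (p.2 : V)) := by
      rintro ⟨⟨a₁, a₂, a₃⟩, c⟩ ⟨⟨a₁', a₂', a₃'⟩, c'⟩ hp
      simp only at hp
      have h0 : (a₁ - a₁') • u₁ + (a₂ - a₂') • u₂ + (a₃ - a₃') • u₃ + ((c : V) - (c' : V)) = 0 := by
        linear_combination (norm := module) hp
      obtain ⟨e1, e2, e3, e4⟩ := F.indep (Submodule.sub_mem _ c.2 c'.2) h0
      have hcc : c = c' := Subtype.ext (sub_eq_zero.mp e4)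
      rw [sub_eq_zero.mp e1, sub_eq_zero.mp e2, sub_eq_zero.mp e3, hcc]
    have h1 := Nat.card_le_card_of_injective _ hinj2
    have h2 : Nat.card ((ZMod 3 × ZMod 3 × ZMod 3) × ↥(fixQ ρ q₁ q₂))
        = 27 * Nat.card ↥(fixQ ρ q₁ q₂) := by
      simp [Nat.card_prod]
    omega
  have hC3 : Nat.card ↥(fixQ ρ q₁ q₂) ≤ 3 := by omega
  by_cases hC : ∃ u₄ : V, u₄ ∈ fixQ ρ q₁ q₂ ∧ u₄ ≠ 0
  · obtain ⟨u₄, hu₄C, hu₄0⟩ := hC
    refine ⟨u₄, hu₄0, hu₄C.1, hu₄C.2, fun v hv1 hv2 => ?_⟩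
    by_contra hcon
    push Not at hcon
    have hv0 : v ≠ 0 := fun h0 => hcon 0 (by rw [h0, zero_smul])
    have hv1' : v ≠ u₄ := fun h0 => hcon 1 (by rw [h0, one_smul])
    have hv2' : v ≠ -u₄ := fun h0 => hcon (-1) (by rw [h0, neg_one_smul])
    have hneg : -u₄ ≠ u₄ := neg_ne_self hu₄0
    have hsub : ({0, u₄, -u₄, v} : Set V) ⊆ (fixQ ρ q₁ q₂ : Set V) := by
      intro y hy
      simp only [Set.mem_insert_iff, Set.mem_singleton_iff] at hy
      rcases hy with rfl | rfl | rfl | rfl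
      · exact Submodule.zero_mem _
      · exact hu₄C
      · exact Submodule.neg_mem _ hu₄C
      · exact ⟨hv1, hv2⟩
    have hcard : ({0, u₄, -u₄, v} : Set V).ncard = 4 := by
      rw [Set.ncard_insert_of_notMem, Set.ncard_insert_of_notMem, Set.ncard_insert_of_notMem,
        Set.ncard_singleton]
      · simp only [Set.mem_singleton_iff]
        exact fun h0 => hv2' h0.symm
      · simp only [Set.mem_insert_iff, Set.mem_singleton_iff, not_or]
        exact ⟨fun h0 => hneg h0.symm, fun h0 => hv1' h0.symm⟩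
      · simp only [Set.mem_insert_iff, Set.mem_singleton_iff, not_or]
        exact ⟨fun h0 => hu₄0 h0.symm, fun h0 => hu₄0 (neg_eq_zero.mp h0.symm),
          fun h0 => hv0 h0.symm⟩
    have hle := Set.ncard_le_ncard hsub (Set.toFinite _)
    have hCc : (fixQ ρ q₁ q₂ : Set V).ncard = Nat.card ↥(fixQ ρ q₁ q₂) :=
      (Nat.card_coe_set_eq (fixQ ρ q₁ q₂ : Set V)).symm
    omega
  · exfalso
    push Not at hC
    have hbij : Function.Bijective (fun p : ZMod 3 × ZMod 3 × ZMod 3 =>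
        p.1 • u₁ + p.2.1 • u₂ + p.2.2 • u₃) := by
      constructor
      · rintro ⟨a₁, a₂, a₃⟩ ⟨a₁', a₂', a₃'⟩ hp
        simp only at hp
        have h0 : (a₁ - a₁') • u₁ + (a₂ - a₂') • u₂ + (a₃ - a₃') • u₃ + (0 : V) = 0 := by
          linear_combination (norm := module) hp
        obtain ⟨e1, e2, e3, -⟩ := F.indep (Submodule.zero_mem _) h0
        rw [sub_eq_zero.mp e1, sub_eq_zero.mp e2, sub_eq_zero.mp e3]
      · intro v
        obtain ⟨a₁, a₂, a₃, c, hc, rfl⟩ := F.decomp v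
        refine ⟨(a₁, a₂, a₃), ?_⟩
        simp only
        rw [hC c hc, add_zero]
    have hV27 : Nat.card V = 27 := by
      rw [← Nat.card_congr (Equiv.ofBijective _ hbij)]
      simp
    have hfr : Module.finrank (ZMod 3) V = 3 := by
      have h1 := Module.natCard_eq_pow_finrank (K := ZMod 3) (V := V)
      rw [hV27, Nat.card_zmod] at h1
      have h2 : (3 : ℕ) ^ Module.finrank (ZMod 3) V = 3 ^ 3 := by
        rw [← h1]
        norm_num
      exact Nat.pow_right_injective (by norm_num : 2 ≤ 3) h2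
    have hdet : LinearMap.det (ρ g) * LinearMap.det (ρ g) = -1 := by
      rw [← map_mul]
      have h1 : ρ g * ρ g = (-1 : ZMod 3) • (1 : V →ₗ[ZMod 3] V) := by
        ext v
        simp [hρgg v]
      rw [h1, LinearMap.det_smul, hfr, map_one]
      decide
    have hno : ∀ d : ZMod 3, d * d ≠ -1 := by decide
    exact hno _ hdet

end Cfsg.Agent.Lib.helper57
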