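import Mathlib
import Cfsg.Prelude.Def_Local
import Cfsg.Prelude.Def_CaseTheorems
import Cfsg.Agent.Lib.helper38.HallHigman
import Cfsg.Agent.Lib.helper28.PCores
import Cfsg.Agent.Lib.helper29.PSolv
import Cfsg.Agent.Lib.helper1.Coprime

/-!
# Outer group reduction (piece A of S4415, Thompson's N-groups lemma)

`S` solvable, `B = ⟨b⟩ = Z(P)` of order `3` for a Sylow `3`-subgroup `P`, acting nontrivially on a
four-group `Q`: the three involutions of `Q` are cycled by `b`, lie in `R = [O_{3'}(S), B]`, and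
`R` is generated by the `R`-conjugates of `b` in the stated sense.
-/

namespace Cfsg.Agent.Lib.helper57

open scoped commutatorElement

theorem outer_group {S : Type*} [Group S] [Finite S] [Group.IsSolvable S]
    (hO3 : Cfsg.pCore 3 S = ⊥) (B : Subgroup S) (hB : Nat.card ↥B = 3) (b : S)
    (hb : Subgroup.zpowers b = B) (Q : Subgroup S) (hQ : Cfsg.IsElementaryAbelian 2 Q)
    (hQ4 : Nat.card ↥Q = 4) (hBQ : B ≤ Subgroup.normalizer (Q : Set S))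
    (hBQ' : ¬ B ≤ Subgroup.centralizer (Q : Set S)) (P : Sylow 3 S)
    (hBZ : (Subgroup.center ↥(P : Subgroup S)).map (P : Subgroup S).subtype = B) :
    ∃ q₁ q₂ q₃ : S, (q₁ * q₁ = 1 ∧ q₁ * q₂ = q₃ ∧ q₂ * q₁ = q₃ ∧ b * q₁ * b⁻¹ = q₂ ∧
      b * q₂ * b⁻¹ = q₃ ∧ b * q₃ * b⁻¹ = q₁ ∧ q₁ ≠ 1) ∧ q₁ ∈ ⁅Cfsg.pPrimeCore 3 S, B⁆ ∧
      b ^ 3 = 1 ∧ (∀ r ∈ ⁅Cfsg.pPrimeCore 3 S, B⁆, b * r * b⁻¹ ∈ ⁅Cfsg.pPrimeCore 3 S, B⁆) ∧
      (Nat.card ↥⁅Cfsg.pPrimeCore 3 S, B⁆).Coprime 3 ∧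
      (∀ K : Subgroup S, b ∈ K → (∀ r ∈ ⁅Cfsg.pPrimeCore 3 S, B⁆, ∀ k ∈ K, r * k * r⁻¹ ∈ K) →
        ⁅Cfsg.pPrimeCore 3 S, B⁆ ≤ K) := by
  classical
  have : Fact (Nat.Prime 3) := ⟨by norm_num⟩
  obtain ⟨N, hN⟩ : ∃ N : Subgroup S, N = Cfsg.pPrimeCore 3 S := ⟨_, rfl⟩
  have hNn : N.Normal := by rw [hN]; infer_instance
  rw [← hN]
  have hbB : b ∈ B := hb ▸ Subgroup.mem_zpowers b
  have hb3 : b ^ 3 = 1 := by
    have h1 : orderOf b = 3 := by rw [← Nat.card_zpowers, hb, hB]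
    rw [← h1]
    exact pow_orderOf_eq_one b
  -- (1) the three involutions
  have hbQ : ∀ q ∈ Q, b * q * b⁻¹ ∈ Q := fun q hq =>
    (Subgroup.mem_normalizer_iff.mp (hBQ hbB) q).mp hq
  obtain ⟨q₁, hq₁Q, hq₁b⟩ : ∃ q ∈ Q, b * q * b⁻¹ ≠ q := by
    by_contra hcon
    push Not at hcon
    apply hBQ'
    intro a ha
    rw [← hb] at ha
    obtain ⟨k, rfl⟩ := Subgroup.mem_zpowers_iff.mp ha
    rw [Subgroup.mem_centralizer_iff]
    intro q hq
    have hc : Commute b q := by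
      have h1 := hcon q hq
      show b * q = q * b
      calc b * q = b * q * b⁻¹ * b := by group
        _ = q * b := by rw [h1]
    exact (hc.zpow_left k).eq.symm
  obtain ⟨q₂, hq₂⟩ : ∃ q₂ : S, b * q₁ * b⁻¹ = q₂ := ⟨_, rfl⟩
  obtain ⟨q₃, hq₃⟩ : ∃ q₃ : S, b * q₂ * b⁻¹ = q₃ := ⟨_, rfl⟩
  have hq₂Q : q₂ ∈ Q := hq₂ ▸ hbQ q₁ hq₁Q
  have hq₃Q : q₃ ∈ Q := hq₃ ▸ hbQ q₂ hq₂Q
  have hq₁sq : q₁ * q₁ = 1 := by
    have h1 := hQ.2 q₁ hq₁Q
    rwa [pow_two] at h1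
  have h3 : b * q₃ * b⁻¹ = q₁ := by
    rw [← hq₃, ← hq₂]
    have hbbb : b * b * b = 1 := by rw [← hb3, pow_succ, pow_two]
    have hbinv : b⁻¹ * b⁻¹ * b⁻¹ = 1 := by
      have h0 : (b * b * b)⁻¹ = b⁻¹ * b⁻¹ * b⁻¹ := by group
      rw [← h0, hbbb, inv_one]
    have h1 : b * (b * (b * q₁ * b⁻¹) * b⁻¹) * b⁻¹ = (b * b * b) * q₁ * (b⁻¹ * b⁻¹ * b⁻¹) := by
      group
    rw [h1, hbbb, hbinv, one_mul, mul_one]
  have hconj_inj : ∀ x y : S, b * x * b⁻¹ = b * y * b⁻¹ → x = y := by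
    intro x y h
    have h1 : x = b⁻¹ * (b * x * b⁻¹) * b := by group
    rw [h1, h]
    group
  have hconj_one : b * 1 * b⁻¹ = (1 : S) := by group
  have h1a : (1 : S) ≠ q₁ := by
    intro h
    apply hq₁b
    rw [← h]
    exact hconj_one
  have h2a : q₁ ≠ q₂ := fun h => hq₁b (by rw [hq₂]; exact h.symm)
  have h1b : (1 : S) ≠ q₂ := by
    intro h
    apply h1a
    apply hconj_inj
    rw [hconj_one, hq₂]
    exact h
  have h1c : (1 : S) ≠ q₃ := by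
    intro h
    apply h1b
    apply hconj_inj
    rw [hconj_one, hq₃]
    exact h
  have h3a : q₂ ≠ q₃ := by
    intro h
    apply h2a
    apply hconj_inj
    rw [hq₂, hq₃]
    exact h
  have h2b : q₁ ≠ q₃ := by
    intro h
    apply h3a
    apply hconj_inj
    rw [hq₃, h3]
    exact h.symm
  have h1d : (1 : S) ≠ q₁ * q₂ := by
    intro h
    apply h2a
    calc q₁ = q₁ * 1 := (mul_one _).symm
      _ = q₁ * (q₁ * q₂) := by rw [← h]
      _ = (q₁ * q₁) * q₂ := (mul_assoc _ _ _).symm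
      _ = q₂ := by rw [hq₁sq, one_mul]
  have h2c : q₁ ≠ q₁ * q₂ := by
    intro h
    apply h1b
    have h' : q₁ * 1 = q₁ * q₂ := by rw [mul_one]; exact h
    exact mul_left_cancel h'
  have h3b : q₂ ≠ q₁ * q₂ := by
    intro h
    apply h1a
    have h' : 1 * q₂ = q₁ * q₂ := by rw [one_mul]; exact h
    exact mul_right_cancel h'
  have hq12 : q₁ * q₂ = q₃ := by
    by_contra hne
    have h4a : q₃ ≠ q₁ * q₂ := fun h => hne h.symm
    have hsub : ({1, q₁, q₂, q₃, q₁ * q₂} : Set S) ⊆ (Q : Set S) := by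
      intro x hx
      simp only [Set.mem_insert_iff, Set.mem_singleton_iff] at hx
      rcases hx with rfl | rfl | rfl | rfl | rfl
      · exact Q.one_mem
      · exact hq₁Q
      · exact hq₂Q
      · exact hq₃Q
      · exact Q.mul_mem hq₁Q hq₂Q
    have hcard : ({1, q₁, q₂, q₃, q₁ * q₂} : Set S).ncard = 5 := by
      rw [Set.ncard_insert_of_notMem, Set.ncard_insert_of_notMem, Set.ncard_insert_of_notMem,
        Set.ncard_insert_of_notMem, Set.ncard_singleton]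
      · simp only [Set.mem_singleton_iff]
        exact h4a
      · simp only [Set.mem_insert_iff, Set.mem_singleton_iff, not_or]
        exact ⟨h3a, h3b⟩
      · simp only [Set.mem_insert_iff, Set.mem_singleton_iff, not_or]
        exact ⟨h2a, h2b, h2c⟩
      · simp only [Set.mem_insert_iff, Set.mem_singleton_iff, not_or]
        exact ⟨h1a, h1b, h1c, h1d⟩
    have hle := Set.ncard_le_ncard hsub (Set.toFinite _)
    have hQc : (Q : Set S).ncard = 4 := by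
      rw [← Nat.card_coe_set_eq]
      exact hQ4
    omega
  have hq21 : q₂ * q₁ = q₃ := by
    rw [← hq12]
    have h1 := hQ.1.is_comm.comm (⟨q₂, hq₂Q⟩ : Q) ⟨q₁, hq₁Q⟩
    exact congrArg Subtype.val h1
  have e : q₃ = (q₁ * b * q₁⁻¹) * b⁻¹ := by
    have h1 : q₁⁻¹ = q₁ := inv_eq_of_mul_eq_one_left hq₁sq
    rw [h1, ← hq12, ← hq₂]
    group
  -- (2) `q₃ ∈ N` through the quotient
  have hcoreQ : Cfsg.pPrimeCore 3 (S ⧸ Cfsg.pPrimeCore 3 S) = ⊥ :=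
    Cfsg.Agent.Lib.helper28.pPrimeCore_quotient_eq_bot 3 S
  have hsolQ : Cfsg.IsPSolvable 3 (S ⧸ Cfsg.pPrimeCore 3 S) :=
    Cfsg.Agent.Lib.helper29.isPSolvable_of_isSolvable 3 inferInstance
  have hHH := Cfsg.Agent.Lib.helper38.centralizer_pCore_le_of_isPSolvable hsolQ hcoreQ
  have hTp : IsPGroup 3 (Cfsg.pCore 3 (S ⧸ Cfsg.pPrimeCore 3 S)) :=
    Cfsg.Agent.Lib.helper40.pCore_isPGroup 3 _
  have hTle : Cfsg.pCore 3 (S ⧸ Cfsg.pPrimeCore 3 S) ≤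
      (P.mapSurjective (QuotientGroup.mk'_surjective (Cfsg.pPrimeCore 3 S)) :
        Subgroup (S ⧸ Cfsg.pPrimeCore 3 S)) := hTp.le_sylow_of_normal _
  rw [Sylow.coe_mapSurjective] at hTle
  have hbZ : ∀ x ∈ (P : Subgroup S), b * x = x * b := by
    intro x hx
    have hb' : b ∈ (Subgroup.center ↥(P : Subgroup S)).map (P : Subgroup S).subtype := by
      rw [hBZ]
      exact hbB
    obtain ⟨z, hz, rfl⟩ := Subgroup.mem_map.mp hb'
    have h1 := Subgroup.mem_center_iff.mp hz ⟨x, hx⟩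
    have h2 := congrArg Subtype.val h1
    simpa using h2.symm
  have hbbar : (QuotientGroup.mk' (Cfsg.pPrimeCore 3 S) b) ∈
      Cfsg.pCore 3 (S ⧸ Cfsg.pPrimeCore 3 S) := by
    apply hHH
    rw [Subgroup.mem_centralizer_iff]
    intro t ht
    obtain ⟨x, hx, rfl⟩ := Subgroup.mem_map.mp (hTle ht)
    rw [← map_mul, ← map_mul, hbZ x hx]
  have hq₃N : q₃ ∈ N := by
    rw [hN]
    have himg : (QuotientGroup.mk' (Cfsg.pPrimeCore 3 S) q₃) ∈
        Cfsg.pCore 3 (S ⧸ Cfsg.pPrimeCore 3 S) := by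
      have hT : (Cfsg.pCore 3 (S ⧸ Cfsg.pPrimeCore 3 S)).Normal := inferInstance
      rw [e, map_mul, map_mul, map_mul, map_inv, map_inv]
      exact Subgroup.mul_mem _ (hT.conj_mem _ hbbar _) (Subgroup.inv_mem _ hbbar)
    have hsq : (QuotientGroup.mk' (Cfsg.pPrimeCore 3 S) q₃) ^ 2 = 1 := by
      rw [← map_pow, hQ.2 q₃ hq₃Q, map_one]
    obtain ⟨k, hk⟩ := hTp ⟨_, himg⟩
    have hk' : (QuotientGroup.mk' (Cfsg.pPrimeCore 3 S) q₃) ^ (3 ^ k) = 1 := by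
      have h1 := congrArg Subtype.val hk
      simpa using h1
    have hord1 : orderOf (QuotientGroup.mk' (Cfsg.pPrimeCore 3 S) q₃) ∣ 2 :=
      orderOf_dvd_of_pow_eq_one hsq
    have hord2 : orderOf (QuotientGroup.mk' (Cfsg.pPrimeCore 3 S) q₃) ∣ 3 ^ k :=
      orderOf_dvd_of_pow_eq_one hk'
    have hcop : Nat.Coprime 2 (3 ^ k) := Nat.Coprime.pow_right k (by norm_num)
    have h1 : orderOf (QuotientGroup.mk' (Cfsg.pPrimeCore 3 S) q₃) = 1 :=
      Nat.Coprime.eq_one_of_dvd (Nat.Coprime.coprime_dvd_left hord1 hcop) hord2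
    exact (QuotientGroup.eq_one_iff q₃).mp (orderOf_eq_one_iff.mp h1)
  have hq₁N : q₁ ∈ N := by
    rw [← h3]
    exact hNn.conj_mem q₃ hq₃N b
  -- (3) `R = [N, B]`
  have hBN : B ≤ Subgroup.normalizer (N : Set S) := by
    rw [Subgroup.normalizer_eq_top]
    exact le_top
  have hRb : ∀ r ∈ ⁅N, B⁆, b * r * b⁻¹ ∈ ⁅N, B⁆ := by
    intro r hr
    have h1 := Cfsg.Agent.Lib.helper1.right_le_normalizer_commutator hBN hbB
    exact (Subgroup.mem_normalizer_iff.mp h1 r).mp hr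
  have hq₃R : q₃ ∈ ⁅N, B⁆ := by
    have h1 : ⁅q₁, b⁆ ∈ ⁅N, B⁆ := Subgroup.commutator_mem_commutator hq₁N hbB
    rw [commutatorElement_def] at h1
    rwa [← e] at h1
  have hq₁R : q₁ ∈ ⁅N, B⁆ := by
    rw [← h3]
    exact hRb q₃ hq₃R
  -- (4)
  have hRN : ⁅N, B⁆ ≤ N := Subgroup.commutator_le_left N B
  have hNcop : (Nat.card N).Coprime 3 := by
    rw [hN]
    exact Cfsg.Agent.Lib.helper40.pPrimeCore_card_coprime 3 S
  have hRcop : (Nat.card ↥⁅N, B⁆).Coprime 3 :=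
    Nat.Coprime.coprime_dvd_left (Subgroup.card_dvd_of_le hRN) hNcop
  -- (5)
  have hBsol : Group.IsSolvable B := Group.isSolvable_of_isSolvable_injective B.subtype_injective
  have hRR : ⁅⁅N, B⁆, B⁆ = ⁅N, B⁆ :=
    Cfsg.Agent.Lib.helper1.commutator_commutator_eq B N hBN (by rw [hB]; exact hNcop.symm)
      (Or.inl hBsol)
  refine ⟨q₁, q₂, q₃, ⟨hq₁sq, hq12, hq21, hq₂, hq₃, h3, fun h => h1a h.symm⟩, hq₁R, hb3, hRb,
    hRcop, ?_⟩
  intro K hbK hK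
  rw [← hRR, Subgroup.commutator_le]
  intro r hr a ha
  have haK : a ∈ K := by
    rw [← hb] at ha
    exact (Subgroup.zpowers_le.mpr hbK) ha
  rw [commutatorElement_def]
  exact K.mul_mem (hK r hr a haK) (K.inv_mem haK)

end Cfsg.Agent.Lib.helper57
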