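import Mathlib
import Cfsg.Agent.Lib.helper81.WTDefs

/-!
# S4414 piece ASMV, core: the V-side main theorem from the pieces A, IND, B (as hypotheses)
-/

set_option autoImplicit false

namespace Cfsg.Agent.Lib.helper81.WT

universe u v w

/-- Core of ASMV: `A`, `IND`, `B` enter as hypotheses. -/
theorem h57_main_V_core {S : Type u} [Group S] {F : Type w} [Field F]
    {V : Type v} [AddCommGroup V] [Module F V]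
    (R : Representation F S V) (Y : Subgroup S) [Y.Normal] [Fintype ↥Y]
    (T : Subgroup S) (Q : Subgroup S)
    (hA : ∃ (μ₀ : ↥Y →* Fˣ) (v₁ v₂ : V), v₁ ≠ 0 ∧ v₂ ≠ 0 ∧ v₁ ∈ fixT R T ∧ v₂ ∈ fixT R T ∧
      supp R Y v₁ ⊆ orb Y T μ₀ ∧ Disjoint (supp R Y v₂) (orb Y T μ₀))
    (hIND : ∀ (v₁ v₂ : V), v₁ ≠ 0 → v₂ ≠ 0 → Disjoint (supp R Y v₁) (supp R Y v₂) →
      ∀ (a b : F), a • v₁ + b • v₂ = 0 → a = 0 ∧ b = 0)
    (hB : ∀ w₁ w₂ : V, (∀ v ∈ fixT R T, v ∈ Submodule.span F {w₁, w₂}) →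
      ∃ x ∈ Q, ∃ v ∈ fixT R T, R x v ∉ fixT R T) :
    (¬ ∃ u : V, ∀ v ∈ fixT R T, v ∈ Submodule.span F {u}) ∧
    (∀ w₁ w₂ : V, (∀ v ∈ fixT R T, v ∈ Submodule.span F {w₁, w₂}) →
      ∃ x ∈ Q, ∃ v ∈ fixT R T, R x v ∉ fixT R T) := by
  refine ⟨?_, hB⟩
  rintro ⟨u, hu⟩
  obtain ⟨μ₀, v₁, v₂, h1, h2, hf1, hf2, hs1, hd2⟩ := hA
  have hd : Disjoint (supp R Y v₁) (supp R Y v₂) :=
    (hd2.mono_right hs1).symm
  obtain ⟨c₁, hc₁⟩ := Submodule.mem_span_singleton.mp (hu v₁ hf1)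
  obtain ⟨c₂, hc₂⟩ := Submodule.mem_span_singleton.mp (hu v₂ hf2)
  have hcomb : c₂ • v₁ + (-c₁) • v₂ = 0 := by
    rw [← hc₁, ← hc₂, smul_smul, smul_smul, mul_comm c₂ c₁, neg_mul, neg_smul, add_neg_cancel]
  obtain ⟨ha, hb⟩ := hIND v₁ v₂ h1 h2 hd c₂ (-c₁) hcomb
  apply h2
  rw [← hc₂, ha, zero_smul]

end Cfsg.Agent.Lib.helper81.WT
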