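import Mathlib
import Cfsg.Agent.Lib.helper62.FrobExtract

/-!
# S0686 / S0689, piece P: a group of linear maps regular on the nonzero vectors has a
fixed-point-free module
-/

set_option autoImplicit false

namespace Cfsg.Agent.Lib.helper57

open Cfsg.Agent.Lib.helper62.FrobExtract

universe u

theorem reg_hasFpfMod {p : ℕ} [Fact p.Prime] {V : Type u} [AddCommGroup V] [Module (ZMod p) V]
    [Finite V] [Nontrivial V] (H : Subgroup (V ≃ₗ[ZMod p] V))
    (hreg : ∀ v w : V, v ≠ 0 → w ≠ 0 → ∃! h : H, (h : V ≃ₗ[ZMod p] V) v = w) :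
    HasFpfMod.{u, u} H := by
  classical
  have hp : p.Prime := Fact.out
  have hpV : ∀ x : V, p • x = 0 := by
    intro x
    rw [← Nat.cast_smul_eq_nsmul (ZMod p) p x, ZMod.natCast_self, zero_smul]
  obtain ⟨v₀, hv₀⟩ := exists_ne (0 : V)
  -- `p` divides `|V|`
  have hpdvd : p ∣ Nat.card V := by
    have h1 : addOrderOf v₀ = p := by
      apply addOrderOf_eq_prime (hpV v₀) hv₀
    rw [← h1]
    exact addOrderOf_dvd_natCard v₀
  -- `|H| + 1 = |V|`
  have hcard : Nat.card H + 1 = Nat.card V := by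
    have hbij : Function.Bijective (fun h : H => (⟨(h : V ≃ₗ[ZMod p] V) v₀, by
        intro h0
        apply hv₀
        have := (h : V ≃ₗ[ZMod p] V).injective (h0.trans (map_zero _).symm)
        exact this⟩ : {w : V // w ≠ 0})) := by
      constructor
      · intro a b hab
        have h1 : (a : V ≃ₗ[ZMod p] V) v₀ = (b : V ≃ₗ[ZMod p] V) v₀ := congrArg Subtype.val hab
        obtain ⟨h, -, huniq⟩ := hreg v₀ ((b : V ≃ₗ[ZMod p] V) v₀) hv₀ (by
          intro h0
          apply hv₀
          exact (b : V ≃ₗ[ZMod p] V).injective (h0.trans (map_zero _).symm))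
        rw [huniq a h1, huniq b rfl]
      · rintro ⟨w, hw⟩
        obtain ⟨h, hh, -⟩ := hreg v₀ w hv₀ hw
        exact ⟨h, Subtype.ext hh⟩
    rw [Nat.card_congr (Equiv.ofBijective _ hbij)]
    have h2 : Nat.card {w : V // w ≠ 0} = Nat.card V - 1 := by
      have : Fintype V := Fintype.ofFinite V
      rw [Nat.card_eq_fintype_card, Nat.card_eq_fintype_card, Fintype.card_subtype_compl,
        Fintype.card_subtype_eq]
    rw [h2]
    have h3 : 0 < Nat.card V := Nat.card_pos
    omega
  refine ⟨p, ‹Fact p.Prime›, V, inferInstance, inferInstance, ?_, inferInstance, inferInstance,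
    hpV, ?_⟩
  · intro hdvd
    have h1 : p ∣ Nat.card H + 1 := by rw [hcard]; exact hpdvd
    have h2 : p ∣ 1 := (Nat.dvd_add_right hdvd).1 h1
    exact hp.one_lt.ne' (Nat.dvd_one.1 h2)
  · intro a ha x hx
    by_contra hx0
    obtain ⟨h, -, huniq⟩ := hreg x x hx0 hx0
    have h1 : a = h := huniq a hx
    have h2 : (1 : H) = h := huniq 1 rfl
    exact ha (h1.trans h2.symm)

end Cfsg.Agent.Lib.helper57
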