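import Mathlib

/-!
# S0689, piece W: the arithmetic of regular non-solvable linear groups
-/

set_option autoImplicit false

namespace Cfsg.Agent.Lib.helper57

theorem reg_arith (p k m ε : ℕ) (hp : p.Prime) (hε : ε = 1 ∨ ε = 2) (hm : m.Coprime 30)
    (h1 : 120 * m * ε + 1 = (p ^ k) ^ 2) (h2 : 2 * m ∣ p ^ k - 1) :
    (p ^ k = 11 ∧ m = 1 ∧ ε = 1) ∨ (p ^ k = 29 ∧ m = 7 ∧ ε = 1) ∨
      (p ^ k = 59 ∧ m = 29 ∧ ε = 1) := by
  obtain ⟨Q, hQ⟩ : ∃ Q : ℕ, Q = p ^ k := ⟨_, rfl⟩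
  rw [← hQ] at h1 h2 ⊢
  have hm1 : 1 ≤ m := by
    rcases Nat.eq_zero_or_pos m with h | h
    · rw [h] at hm
      exact absurd hm (by decide)
    · exact h
  have hε1 : 1 ≤ ε := by rcases hε with h | h <;> omega
  have hQ11 : 11 ≤ Q := by
    by_contra hlt
    have h3 : Q ≤ 10 := by omega
    have h4 : Q ^ 2 ≤ 100 := by nlinarith
    have h5 : 120 ≤ 120 * m * ε := by nlinarith
    omega
  obtain ⟨r, hr⟩ := h2
  have hQr : Q = 2 * m * r + 1 := by omega
  have key : r * (m * r + 1) = 30 * ε := by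
    rw [hQr] at h1
    have h3 : 4 * m * (r * (m * r + 1)) = 4 * m * (30 * ε) := by nlinarith
    exact Nat.eq_of_mul_eq_mul_left (by omega) h3
  have hr1 : 1 ≤ r := by
    rcases Nat.eq_zero_or_pos r with h | h
    · rw [h] at key
      omega
    · exact h
  have hr7 : r ≤ 7 := by
    by_contra hlt
    have h3 : 8 ≤ r := by omega
    have h4 : 8 * (1 * 8 + 1) ≤ r * (m * r + 1) := by
      apply Nat.mul_le_mul h3
      have : 1 * 8 ≤ m * r := Nat.mul_le_mul hm1 h3
      omega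
    rcases hε with h | h <;> omega
  have h119 : Q ≠ 119 := by
    intro h
    rw [hQ] at h
    have h7 : 7 ∣ p ^ k := ⟨17, by omega⟩
    have h17 : 17 ∣ p ^ k := ⟨7, by omega⟩
    have e7 := (Nat.prime_dvd_prime_iff_eq (by norm_num) hp).1
      (Nat.Prime.dvd_of_dvd_pow (by norm_num : Nat.Prime 7) h7)
    have e17 := (Nat.prime_dvd_prime_iff_eq (by norm_num) hp).1
      (Nat.Prime.dvd_of_dvd_pow (by norm_num : Nat.Prime 17) h17)
    omega
  have hm3 : m ≠ 3 := by
    intro h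
    rw [h] at hm
    exact absurd hm (by decide)
  rcases hε with h | h <;> subst h <;> interval_cases r <;> omega

end Cfsg.Agent.Lib.helper57
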