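import Mathlib

/-!
# S0689, piece X: an internal direct product of two centralising subgroups with trivial
intersection
-/

set_option autoImplicit false

namespace Cfsg.Agent.Lib.helper57

theorem sup_equiv_prod {H : Type*} [Group H] (S M : Subgroup H) (hinf : S ⊓ M = ⊥)
    (hc : ∀ s ∈ S, ∀ x ∈ M, s * x = x * s) : Nonempty ((S ⊔ M : Subgroup H) ≃* S × M) := by
  have hcomm : ∀ (s : S) (x : M), Commute (S.subtype s) (M.subtype x) :=
    fun s x => hc s.1 s.2 x.1 x.2
  have hinj : Function.Injective (MonoidHom.noncommCoprod S.subtype M.subtype hcomm) := by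
    rw [injective_iff_map_eq_one]
    rintro ⟨s, x⟩ h
    have h1 : (s : H) * (x : H) = 1 := h
    have h2 : (s : H) = (x : H)⁻¹ := eq_inv_of_mul_eq_one_left h1
    have h3 : (s : H) ∈ S ⊓ M := ⟨s.2, by rw [h2]; exact M.inv_mem x.2⟩
    rw [hinf, Subgroup.mem_bot] at h3
    have h4 : (x : H) = 1 := by rw [h3, one_mul] at h1; exact h1
    exact Prod.ext (Subtype.ext h3) (Subtype.ext h4)
  have hrange : (MonoidHom.noncommCoprod S.subtype M.subtype hcomm).range = S ⊔ M := by
    rw [MonoidHom.noncommCoprod_range, Subgroup.range_subtype, Subgroup.range_subtype]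
  exact ⟨((MonoidHom.ofInjective hinj).trans (MulEquiv.subgroupCongr hrange)).symm⟩

end Cfsg.Agent.Lib.helper57
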